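import Cfsg.Agent.N2.Ex.CC.Asm_mg_m3
import Cfsg.Agent.N2.Ex.Al.TbD
import Cfsg.Agent.Prune
set_option linter.all false
prune_inst 0x7f00000000000000000000000000000000000000000000000000000000000000000000000000000000000000000000000000000000000000000000000000000000000000000000000000000000000000003fffffffffffffffffffffffffffbeffbdffffffff
open scoped Cfsg.Agent.FastGrp
private noncomputable def lq2655aec6b6 {T : Sort _} (f :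
    type_of% (@_root_.List.cons.{0}) →
    type_of% (@_root_.Prod.mk.{0, 0}) →
    type_of% (@_root_.List.nil.{0}) →
    type_of% (@_root_.List.cons.{0} (Prod Nat (Prod Nat (List Nat)))) →
    type_of% (@_root_.Cfsg.Agent.N2.Ex.Al.Ck.Ce.mk) →
    type_of% (@_root_.Sum.inl.{0, 0}) →
    type_of% (@_root_.Cfsg.Agent.N2.Ex.Al.Ck.CT.mk) →
    type_of% (@_root_.List.cons.{0} (Nat)) →
    type_of% (@_root_.Bool.false) →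
    type_of% (@_root_.Cfsg.Agent.N2.Ex.Al.Ck.En.mk) →
    type_of% (@_root_.Bool.true) →
    type_of% (@_root_.Sum.inr.{0, 0}) →
    type_of% (@_root_.Cfsg.Agent.N2.Ex.Al.Ck.CU.mk) →
    type_of% (@_root_.Cfsg.Agent.N2.Ex.Al.Ck.CA.mk) → T) : T :=
  f (@_root_.List.cons.{0}) (@_root_.Prod.mk.{0, 0}) (@_root_.List.nil.{0}) (@_root_.List.cons.{0} (Prod Nat (Prod Nat (List Nat)))) (@_root_.Cfsg.Agent.N2.Ex.Al.Ck.Ce.mk) (@_root_.Sum.inl.{0, 0}) (@_root_.Cfsg.Agent.N2.Ex.Al.Ck.CT.mk) (@_root_.List.cons.{0} (Nat)) (@_root_.Bool.false) (@_root_.Cfsg.Agent.N2.Ex.Al.Ck.En.mk) (@_root_.Bool.true) (@_root_.Sum.inr.{0, 0}) (@_root_.Cfsg.Agent.N2.Ex.Al.Ck.CU.mk) (@_root_.Cfsg.Agent.N2.Ex.Al.Ck.CA.mk)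

/-!
# N2, subgroups of maximal rank: the surviving rows of `F4` (helper40, generated data)
-/

set_option autoImplicit false
set_option maxRecDepth 100000

namespace Cfsg.Agent.N2.Ex.Al.Ck

open Cfsg Cfsg.Lie Cfsg.Agent.Nodes.RGDChev

private noncomputable def drKF {α : Type} (n : ℕ) : List α → List α :=
  Nat.rec (motive := fun _ => List α → List α) (fun L => L)
    (fun _ ih L => List.rec (motive := fun _ => List α) [] (fun _ t _ => ih t) L) n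

private theorem mem_drKF {α : Type} {a : α} (n : ℕ) : ∀ L : List α, a ∈ drKF n L → a ∈ L := by
  induction n with
  | zero => exact fun _ h => h
  | succ n ih =>
    intro L h
    cases L with
    | nil => exact h
    | cons b t => exact List.mem_cons_of_mem _ (ih t h)

private noncomputable def fcKF {β : Type} (x : ℕ) (k : ℕ → β) : β :=
  Nat.rec (motive := fun _ => β) (k 0) (fun n _ => k (Nat.succ n)) x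

private theorem fcKF_eq {β : Type} (x : ℕ) (k : ℕ → β) : fcKF x k = k x := by cases x <;> rfl

private noncomputable def meKF (f : ℕ → ℕ → ℕ) (s r : ℕ) : ℕ := fcKF r fun r => Nat.add (f s r) 0

private theorem meKF_eq (f : ℕ → ℕ → ℕ) : meKF f = f := by
  funext r s
  delta meKF
  rw [fcKF_eq]
  rfl

private noncomputable def awKF (f : ℕ → ℕ → ℕ) (w : List ℕ) (r : ℕ) : ℕ :=
  List.rec (motive := fun _ => ℕ) r (fun s _ ih => f s ih) w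

private def gKF (T : Tb) (r s : ℕ) : ℕ := Nat.add (Nat.mul 8 (T.c r s)) (T.c s r)

private noncomputable def dfKF (T : Tb) (Δ E : List ℕ) (leaf : List (ℕ × ℕ) → ℕ) (t : List (ℕ × Bool)) :
    List (ℕ × ℕ) → ℕ :=
  List.rec (motive := fun _ => List (ℕ × ℕ) → ℕ) leaf (fun x _ ih d => Prod.rec (motive := fun _ => ℕ) (fun a b =>
    lS (fun r => cond (lA (fun e => Prod.rec (motive := fun _ => Bool) (fun u v => Nat.beq (gKF T r v) (gKF T a u)) e) d)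
      (ih ((a, r) :: d)) 0) (cond b Δ E)) x) t

private theorem dfs_le_dfKF (T : Tb) (Δ E : List ℕ) {l l' : List (ℕ × ℕ) → ℕ} (h : ∀ d, l d ≤ l' d)
    (t : List (ℕ × Bool)) : ∀ d, T.dfs Δ E l t d ≤ dfKF T Δ E l' t d := by
  induction t with
  | nil => exact h
  | cons x t ih =>
    intro d
    obtain ⟨a, b⟩ := x
    show lS (fun r => cond (T.cmp a r d) (T.dfs Δ E l t ((a, r) :: d)) 0) (cond b Δ E) ≤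
      lS (fun r => cond (lA (fun e => Prod.rec (motive := fun _ => Bool) (fun u v => Nat.beq (gKF T r v) (gKF T a u)) e) d)
        (dfKF T Δ E l' t ((a, r) :: d)) 0) (cond b Δ E)
    rw [lS_eq, lS_eq]
    refine List.sum_le_sum fun r _ => ?_
    cases hx : T.cmp a r d
    · exact Nat.zero_le _
    · have k : lA (fun e : ℕ × ℕ => Prod.rec (motive := fun _ => Bool) (fun u v => Nat.beq (gKF T r v) (gKF T a u)) e) d =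
          true := lA_iff.2 fun e he => by
        have := lA_iff.1 hx e he
        obtain ⟨u, v⟩ := e
        rw [Bool.and_eq_true, Nat.beq_eq, Nat.beq_eq] at this
        refine Nat.beq_eq.mpr ?_
        delta gKF
        rw [this.1, this.2]
      rw [k]
      exact ih _

private noncomputable def lfKF (T : Tb) (f : ℕ → ℕ → ℕ) (V : Sv) (sh M O : ℕ) (d : List (ℕ × ℕ)) : Bool :=
  fcKF (enc d) fun y => fcKF (Nat.mod (Nat.shiftRight O (Nat.mul 16 (Nat.mod (Nat.shiftRight y sh) M))) 65536) fun o =>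
    lE (fun e => Prod.rec (motive := fun _ => Bool) (fun k z => and (Nat.beq k y)
      (Prod.rec (motive := fun _ => Bool) (fun i w => and (T.lt w) (and (lA (fun x => V.m.testBit (awKF f w x)) V.Δ)
        (and (Nat.blt i V.cl.length) (Prod.rec (motive := fun _ => Bool) (fun sg u =>
          lA (fun x => Prod.rec (motive := fun _ => Bool) (fun a b => fcKF (awKF f w a) fun c =>
            Nat.beq (cond sg (T.ng (awKF f u c)) (awKF f u c)) (awKF f w b)) x) d) (V.cl.getD i (false, [])))))) z)) e)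
      (drKF o V.lf)

private theorem lfc_of_lfKF {T : Tb} {V : Sv} {sh M O : ℕ} {d : List (ℕ × ℕ)} (h : lfKF T T.f V sh M O d = true) :
    T.lfc V d = true := by
  delta lfKF at h
  simp only [fcKF_eq] at h
  obtain ⟨e, he, h⟩ := lE_iff.1 h
  exact lE_iff.2 ⟨e, mem_drKF _ _ he, h⟩

private theorem svd_of_KF (T : Tb) (V : Sv) (sh M O : ℕ)
    (h : Nat.ble (dfKF T V.Δ V.dm (fun d => cond (lfKF T (meKF T.f) V sh M O d) 1 (Nat.succ V.ω)) V.sq []) V.ω =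
      true) : T.svd V = true := by
  rw [meKF_eq] at h
  refine Nat.ble_eq.mpr (le_trans (dfs_le_dfKF T _ _ (fun d => ?_) _ _) (Nat.ble_eq.mp h))
  cases hx : lfKF T T.f V sh M O d
  · cases T.lfc V d
    exacts [le_rfl, Nat.succ_pos _]
  · rw [lfc_of_lfKF hx]

/-- T -/
def svF4_0 : Sv where
  m := 0
  Δ := []
  dm := (beta% delta% lq2655aec6b6 fun a _ c _ _ _ _ i _ _ _ _ _ _ =>
 (let e:=(let e:=(let e:=(i 42<|i 43<|i 44<|i 45<|i 46<|i 47<|c);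
 (i 36<|i 37<|i 38<|i 39<|i 40<|i 41<|e));
 (let e:=(i 30<|i 31<|i 32<|i 33<|i 34<|i 35<|e);
 (i 24<|i 25<|i 26<|i 27<|i 28<|i 29<|e)));
 (let e:=(let e:=(i 18<|i 19<|i 20<|i 21<|i 22<|i 23<|e);
 (i 12<|i 13<|i 14<|i 15<|i 16<|i 17<|e));
 (let e:=(i 6<|i 7<|i 8<|i 9<|i 10<|i 11<|e);
 (a 0<|a 1<|a 2<|a 3<|a 4<|a 5<|e)))))
  s := 0
  sq := [(0, false), (8, false), (1, false), (11, false)]
  co := (beta% delta% lq2655aec6b6 fun a _ c _ _ _ _ _ _ _ _ _ _ _ =>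
 (a (a 1<|a 0<|a 0<|a 0<|c)<|a (a 0<|a 0<|a 1<|a 0<|c)<|a (a 0<|a 1<|a (-2)<|a 0<|c)<|a (a (-1)<|a (-1)<|a 1<|a 1<|c)<|c))
  ω := 1152
  cl := (beta% delta% lq2655aec6b6 fun a b c _ _ _ _ _ j _ _ _ _ _ =>
 (a (b j c)<|a (b j (a 23<|c))<|a (b j (a 23<|a 2<|c))<|a (b j (a 2<|a 17<|c))<|a (b j (a 17<|c))<|a (b j (a 22<|a 3<|c))<|a (b j (a 22<|a 2<|a 6<|c))<|a (b j (a 6<|a 3<|a 17<|c))<|a (b j (a 3<|a 17<|c))<|a (b j (a 23<|a 10<|a 2<|c))<|a (b j (a 13<|a 4<|a 0<|c))<|a (b j (a 23<|a 13<|a 4<|a 0<|c))<|a (b j (a 13<|a 20<|a 4<|a 0<|c))<|a (b j (a 20<|a 4<|a 0<|c))<|a (b j (a 4<|a 0<|c))<|a (b j (a 23<|a 4<|a 0<|c))<|a (b j (a 13<|a 16<|a 4<|a 0<|c))<|a (b j (a 16<|a 3<|a 20<|a 4<|a 0<|c))<|a (b j (a 3<|a 20<|a 4<|a 0<|c))<|a (b j (a 22<|a 3<|a 4<|a 0<|c))<|a (b j (a 22<|a 8<|a 7<|a 1<|c))<|a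 (b j (a 18<|a 2<|a 15<|a 8<|c))<|a (b j (a 23<|a 2<|a 8<|c))<|a (b j (a 2<|a 18<|a 15<|a 8<|c))<|a (b j (a 23<|a 10<|a 2<|a 0<|c))<|c))
  lf := (beta% delta% lq2655aec6b6 fun a b c d _ _ _ _ _ _ _ _ _ _ =>
 (let e:=(let e:=(let e:=(let e:=(let e:=(let e:=(let e:=(let e:=(d (b 739708459<|b 13 (a 21<|a 6<|c))<|
 d (b 739709219<|b 9 (a 20<|c))<|
 d (b 739709227<|b 18 (a 16<|c))<|
 d (b 739709734<|b 11 (a 21<|a 2<|c))<|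
 d (b 739709737<|b 15 (a 9<|a 19<|c))<|c);
 (d (b 739644201<|b 16 (a 21<|a 2<|c))<|
 d (b 739707686<|b 15 (a 11<|a 0<|c))<|
 d (b 739707689<|b 11 (a 21<|c))<|
 d (b 739708451<|b 8 (a 16<|a 5<|c))<|
 e));
 (let e:=(d (b 739641887<|b 7 (a 20<|a 7<|c))<|
 d (b 739641899<|b 12 (a 21<|a 2<|c))<|
 d (b 739643679<|b 8 (a 20<|a 7<|c))<|
 d (b 739643691<|b 17 (a 21<|a 2<|c))<|
 d (b 739644194<|b 10 (a 21<|a 2<|c))<|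
 e);
 (d (b 739578658<|b 16 (a 21<|a 6<|a 2<|c))<|
 d (b 739578662<|b 15 (a 15<|a 12<|c))<|
 d (b 739641122<|b 16 (a 21<|a 6<|c))<|
 d (b 739641129<|b 15 (a 12<|c))<|
 e)));
 (let e:=(let e:=(d (b 739574822<|b 16 (a 21<|c))<|
 d (b 739576348<|b 8 (a 13<|a 9<|c))<|
 d (b 739576363<|b 17 (a 21<|c))<|
 d (b 739577372<|b 7 (a 16<|a 5<|c))<|
 d (b 739577387<|b 12 (a 21<|c))<|
 e);
 (d (b 739380009<|b 15 (a 21<|c))<|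
 d (b 739381535<|b 17 (a 13<|c))<|
 d (b 739381539<|b 18 (a 13<|c))<|
 d (b 739574818<|b 10 (a 21<|c))<|
 e));
 (let e:=(d (b 739377183<|b 12 (a 21<|a 6<|c))<|
 d (b 739377187<|b 17 (a 3<|a 4<|c))<|
 d (b 739378968<|b 15 (a 13<|a 15<|c))<|
 d (b 739378985<|b 19 (a 21<|c))<|
 d (b 739379992<|b 16 (a 13<|c))<|
 e);
 (d (b 739248920<|b 15 (a 8<|a 12<|c))<|
 d (b 739248934<|b 19 (a 21<|a 6<|c))<|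
 d (b 739249692<|b 12 (a 21<|a 6<|a 2<|c))<|
 d (b 739249699<|b 17 (a 3<|a 21<|c))<|
 e))));
 (let e:=(let e:=(let e:=(d (b 739052063<|b 12 (a 3<|a 21<|c))<|
 d (b 739246108<|b 17 (a 4<|c))<|
 d (b 739246115<|b 18 (a 21<|c))<|
 d (b 739247128<|b 16 (a 3<|a 21<|c))<|
 d (b 739247142<|b 15 (a 21<|a 2<|c))<|
 e);
 (d (b 739050530<|b 14 (a 21<|c))<|
 d (b 739051288<|b 11 (a 15<|c))<|
 d (b 739051298<|b 15 (a 3<|a 21<|c))<|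
 d (b 739052060<|b 13 (a 21<|a 2<|c))<|
 e));
 (let e:=(d (b 722932774<|b 13 (a 7<|a 0<|c))<|
 d (b 722932777<|b 12 (a 7<|a 0<|c))<|
 d (b 739049500<|b 12 (a 4<|c))<|
 d (b 739049503<|b 13 (a 21<|c))<|
 d (b 739050520<|b 10 (a 3<|a 21<|c))<|
 e);
 (d (b 722931233<|b 10 (a 17<|a 8<|c))<|
 d (b 722931244<|b 14 (a 17<|a 8<|c))<|
 d (b 722932001<|b 11 (a 22<|a 1<|c))<|
 d (b 722932012<|b 15 (a 17<|a 8<|c))<|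
 e)));
 (let e:=(let e:=(d (b 722866476<|b 16 (a 3<|a 22<|a 1<|c))<|
 d (b 722867234<|b 3 (a 12<|a 19<|c))<|
 d (b 722867241<|b 7 (a 7<|a 9<|c))<|
 d (b 722929958<|b 12 (a 13<|a 7<|a 0<|c))<|
 d (b 722929961<|b 13 (a 17<|a 8<|c))<|
 e);
 (d (b 722863401<|b 12 (a 0<|a 16<|c))<|
 d (b 722864669<|b 20 (a 21<|c))<|
 d (b 722864684<|b 10 (a 0<|a 16<|c))<|
 d (b 722866461<|b 10 (a 22<|a 1<|c))<|
 e));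
 (let e:=(d (b 722800153<|b 20 (a 21<|a 6<|c))<|
 d (b 722800172<|b 10 (a 21<|a 9<|c))<|
 d (b 722801698<|b 7 (a 8<|a 19<|c))<|
 d (b 722801702<|b 12 (a 18<|a 7<|a 0<|c))<|
 d (b 722863394<|b 7 (a 11<|a 20<|c))<|
 e);
 (d (b 722796834<|b 3 (a 3<|a 4<|c))<|
 d (b 722796838<|b 7 (a 3<|a 4<|c))<|
 d (b 722799129<|b 10 (a 21<|a 7<|c))<|
 d (b 722799148<|b 16 (a 3<|a 19<|c))<|
 e)))));
 (let e:=(let e:=(let e:=(let e:=(d (b 722405673<|b 8 (a 13<|a 4<|c))<|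
 d (b 722407709<|b 16 (a 23<|a 1<|c))<|
 d (b 722407713<|b 15 (a 21<|a 5<|c))<|
 d (b 722409501<|b 10 (a 18<|a 20<|c))<|
 d (b 722409505<|b 16 (a 2<|a 19<|c))<|
 e);
 (d (b 722212897<|b 15 (a 12<|a 7<|c))<|
 d (b 722404608<|b 12 (a 6<|a 13<|a 7<|a 0<|c))<|
 d (b 722404649<|b 17 (a 0<|a 16<|c))<|
 d (b 722405632<|b 7 (a 13<|a 4<|c))<|
 e));
 (let e:=(d (b 722209024<|b 12 (a 6<|a 7<|a 0<|c))<|
 d (b 722209062<|b 17 (a 5<|a 19<|c))<|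
 d (b 722210329<|b 10 (a 6<|a 19<|c))<|
 d (b 722210337<|b 16 (a 19<|c))<|
 d (b 722212889<|b 16 (a 23<|a 8<|a 1<|c))<|
 e);
 (d (b 721950745<|b 10 (a 2<|a 19<|c))<|
 d (b 721950749<|b 14 (a 19<|c))<|
 d (b 722206976<|b 7 (a 4<|c))<|
 d (b 722207014<|b 8 (a 4<|c))<|
 e)));
 (let e:=(let e:=(d (b 721944866<|b 4 (a 4<|c))<|
 d (b 721945856<|b 13 (a 17<|a 12<|c))<|
 d (b 721945890<|b 8 (a 16<|a 4<|c))<|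
 d (b 721947161<|b 14 (a 21<|a 5<|c))<|
 d (b 721947165<|b 10 (a 19<|c))<|
 e);
 (d (b 689378092<|b 12 (a 23<|a 8<|a 1<|c))<|
 d (b 689378339<|b 2 (a 22<|a 1<|c))<|
 d (b 689378347<|b 6 (a 12<|a 9<|c))<|
 d (b 721944832<|b 3 (a 4<|c))<|
 e));
 (let e:=(d (b 689375523<|b 6 (a 16<|a 5<|c))<|
 d (b 689375531<|b 23 (a 22<|c))<|
 d (b 689376033<|b 12 (a 5<|c))<|
 d (b 689376044<|b 13 (a 5<|c))<|
 d (b 689378081<|b 13 (a 7<|a 20<|c))<|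
 e);
 (d (b 689312541<|b 3 (a 16<|c))<|
 d (b 689312556<|b 7 (a 13<|a 16<|c))<|
 d (b 689312799<|b 1 (a 12<|c))<|
 d (b 689312811<|b 5 (a 7<|c))<|
 e))));
 (let e:=(let e:=(let e:=(d (b 689051939<|b 21 (a 19<|c))<|
 d (b 689308959<|b 5 (a 11<|a 5<|c))<|
 d (b 689308971<|b 6 (a 23<|a 8<|c))<|
 d (b 689309469<|b 7 (a 23<|a 8<|c))<|
 d (b 689309484<|b 8 (a 23<|a 8<|c))<|
 e);
 (d (b 689048364<|b 12 (a 3<|a 19<|a 1<|c))<|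
 d (b 689050655<|b 5 (a 12<|c))<|
 d (b 689050659<|b 6 (a 23<|a 1<|c))<|
 d (b 689051935<|b 6 (a 8<|a 19<|c))<|
 e));
 (let e:=(d (b 688856093<|b 12 (a 21<|a 19<|a 5<|c))<|
 d (b 688856097<|b 17 (a 16<|a 20<|c))<|
 d (b 689047297<|b 12 (a 15<|a 5<|c))<|
 d (b 689047340<|b 17 (a 13<|a 9<|c))<|
 d (b 689048321<|b 7 (a 17<|a 12<|c))<|
 e);
 (d (b 688851204<|b 5 (a 10<|a 12<|c))<|
 d (b 688851243<|b 6 (a 13<|a 4<|c))<|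
 d (b 688853789<|b 7 (a 16<|c))<|
 d (b 688853793<|b 12 (a 21<|a 5<|c))<|
 e)));
 (let e:=(let e:=(d (b 688265507<|b 22 (a 22<|c))<|
 d (b 688266241<|b 17 (a 1<|a 0<|c))<|
 d (b 688266273<|b 18 (a 20<|c))<|
 d (b 688850180<|b 6 (a 2<|a 20<|c))<|
 d (b 688850219<|b 21 (a 22<|a 3<|c))<|
 e);
 (d (b 688261411<|b 21 (a 22<|c))<|
 d (b 688261889<|b 8 (a 22<|a 12<|c))<|
 d (b 688261921<|b 17 (a 19<|a 1<|c))<|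
 d (b 688265476<|b 21 (a 22<|a 14<|c))<|
 e));
 (let e:=(d (b 688003332<|b 6 (a 6<|a 7<|c))<|
 d (b 688003359<|b 2 (a 12<|a 19<|c))<|
 d (b 688004097<|b 12 (a 19<|a 5<|c))<|
 d (b 688004125<|b 13 (a 20<|c))<|
 d (b 688261380<|b 6 (a 6<|a 12<|c))<|
 e);
 (d (b 687998212<|b 23 (a 22<|a 3<|c))<|
 d (b 687998239<|b 6 (a 22<|a 11<|c))<|
 d (b 687998721<|b 13 (a 9<|c))<|
 d (b 687998749<|b 12 (a 19<|a 1<|c))<|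
 e))))));
 (let e:=(let e:=(let e:=(let e:=(let e:=(d (b 639239193<|b 13 (a 2<|a 20<|c))<|
 d (b 639245575<|b 23 (a 21<|c))<|
 d (b 639245596<|b 6 (a 16<|a 4<|c))<|
 d (b 639246085<|b 13 (a 2<|a 9<|c))<|
 d (b 639246105<|b 12 (a 8<|a 11<|a 1<|c))<|
 e);
 (d (b 639046699<|b 23 (a 21<|a 10<|c))<|
 d (b 639238407<|b 6 (a 22<|a 4<|c))<|
 d (b 639238428<|b 2 (a 15<|a 19<|c))<|
 d (b 639239173<|b 12 (a 23<|a 7<|a 1<|c))<|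
 e));
 (let e:=(d (b 639044385<|b 13 (a 23<|a 1<|c))<|
 d (b 639044396<|b 12 (a 23<|a 1<|c))<|
 d (b 639046433<|b 12 (a 8<|a 5<|c))<|
 d (b 639046444<|b 13 (a 8<|a 5<|c))<|
 d (b 639046691<|b 6 (a 6<|a 20<|c))<|
 e);
 (d (b 638915612<|b 5 (a 14<|a 8<|c))<|
 d (b 638915627<|b 6 (a 13<|c))<|
 d (b 639043875<|b 2 (a 18<|a 1<|c))<|
 d (b 639043883<|b 6 (a 16<|a 20<|c))<|
 e)));
 (let e:=(let e:=(d (b 638910763<|b 5 (a 13<|c))<|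
 d (b 638911513<|b 3 (a 15<|c))<|
 d (b 638911532<|b 7 (a 14<|a 8<|c))<|
 d (b 638915353<|b 7 (a 13<|c))<|
 d (b 638915372<|b 8 (a 13<|c))<|
 e);
 (d (b 638587939<|b 21 (a 21<|c))<|
 d (b 638590236<|b 5 (a 15<|a 12<|c))<|
 d (b 638590243<|b 6 (a 21<|a 5<|c))<|
 d (b 638910748<|b 1 (a 15<|c))<|
 e));
 (let e:=(d (b 638583813<|b 7 (a 18<|a 12<|c))<|
 d (b 638583852<|b 12 (a 12<|a 18<|a 7<|a 1<|c))<|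
 d (b 638585605<|b 12 (a 22<|a 3<|a 1<|c))<|
 d (b 638585644<|b 17 (a 4<|a 9<|c))<|
 d (b 638587932<|b 6 (a 11<|a 1<|c))<|
 e);
 (d (b 638325529<|b 12 (a 22<|a 18<|a 11<|a 1<|c))<|
 d (b 638325537<|b 17 (a 9<|a 0<|c))<|
 d (b 638328601<|b 7 (a 15<|a 13<|c))<|
 d (b 638328609<|b 12 (a 12<|a 18<|a 1<|c))<|
 e))));
 (let e:=(let e:=(let e:=(d (b 637738785<|b 17 (a 18<|a 20<|c))<|
 d (b 638320903<|b 5 (a 20<|c))<|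
 d (b 638320939<|b 6 (a 4<|c))<|
 d (b 638322951<|b 6 (a 20<|c))<|
 d (b 638322987<|b 21 (a 16<|c))<|
 e);
 (d (b 637733665<|b 18 (a 23<|a 1<|c))<|
 d (b 637738247<|b 6 (a 18<|a 13<|c))<|
 d (b 637738275<|b 21 (a 4<|c))<|
 d (b 637738757<|b 8 (a 18<|a 13<|c))<|
 e));
 (let e:=(d (b 589308417<|b 15 (a 19<|c))<|
 d (b 589308421<|b 11 (a 22<|a 14<|c))<|
 d (b 637733127<|b 21 (a 20<|c))<|
 d (b 637733155<|b 22 (a 21<|c))<|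
 d (b 637733637<|b 17 (a 23<|a 1<|c))<|
 e);
 (d (b 589306122<|b 18 (a 22<|a 14<|c))<|
 d (b 589306136<|b 9 (a 11<|c))<|
 d (b 589307146<|b 13 (a 22<|a 14<|c))<|
 d (b 589307160<|b 8 (a 22<|a 11<|c))<|
 e)));
 (let e:=(let e:=(d (b 588714284<|b 11 (a 14<|c))<|
 d (b 588715046<|b 12 (a 2<|a 17<|c))<|
 d (b 588715049<|b 13 (a 14<|c))<|
 d (b 589299713<|b 11 (a 19<|c))<|
 d (b 589299717<|b 15 (a 2<|a 19<|c))<|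
 e);
 (d (b 588712233<|b 12 (a 14<|c))<|
 d (b 588713505<|b 14 (a 14<|c))<|
 d (b 588713516<|b 10 (a 14<|c))<|
 d (b 588714273<|b 15 (a 14<|c))<|
 e));
 (let e:=(d (b 588387352<|b 7 (a 18<|a 7<|c))<|
 d (b 588387369<|b 12 (a 21<|a 10<|c))<|
 d (b 588388632<|b 8 (a 2<|a 11<|c))<|
 d (b 588388649<|b 17 (a 21<|a 10<|c))<|
 d (b 588712230<|b 13 (a 2<|a 17<|c))<|
 e);
 (d (b 588382209<|b 10 (a 21<|a 10<|c))<|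
 d (b 588382252<|b 16 (a 21<|a 10<|c))<|
 d (b 588386561<|b 16 (a 22<|a 14<|c))<|
 d (b 588386604<|b 15 (a 0<|a 15<|c))<|
 e)))));
 (let e:=(let e:=(let e:=(let e:=(d (b 588254764<|b 16 (a 6<|a 3<|a 17<|c))<|
 d (b 588256280<|b 8 (a 11<|c))<|
 d (b 588256294<|b 17 (a 11<|a 0<|c))<|
 d (b 588258584<|b 7 (a 11<|a 5<|c))<|
 d (b 588258598<|b 12 (a 6<|a 3<|a 17<|c))<|
 e);
 (d (b 587604513<|b 15 (a 22<|a 14<|c))<|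
 d (b 588251141<|b 16 (a 4<|c))<|
 d (b 588251180<|b 15 (a 10<|a 12<|c))<|
 d (b 588254725<|b 10 (a 22<|a 14<|c))<|
 e));
 (let e:=(d (b 587600129<|b 15 (a 12<|a 19<|c))<|
 d (b 587600161<|b 19 (a 14<|c))<|
 d (b 587602186<|b 17 (a 5<|a 4<|c))<|
 d (b 587602217<|b 18 (a 14<|c))<|
 d (b 587604481<|b 16 (a 14<|c))<|
 e);
 (d (b 587407877<|b 15 (a 15<|a 9<|c))<|
 d (b 587407905<|b 19 (a 2<|a 17<|c))<|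
 d (b 587598090<|b 12 (a 22<|a 14<|c))<|
 d (b 587598121<|b 17 (a 14<|c))<|
 e)));
 (let e:=(let e:=(d (b 587401510<|b 18 (a 2<|a 17<|c))<|
 d (b 587402757<|b 16 (a 2<|a 17<|c))<|
 d (b 587402785<|b 15 (a 21<|a 10<|c))<|
 d (b 587406602<|b 12 (a 21<|a 6<|a 10<|c))<|
 d (b 587406630<|b 17 (a 2<|a 17<|c))<|
 e);
 (d (b 572399900<|b 21 (a 10<|a 2<|c))<|
 d (b 572400393<|b 12 (a 3<|a 8<|a 18<|a 1<|c))<|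
 d (b 572400409<|b 17 (a 11<|a 20<|c))<|
 d (b 587401482<|b 17 (a 22<|a 14<|c))<|
 e));
 (let e:=(d (b 572391691<|b 5 (a 9<|c))<|
 d (b 572391708<|b 6 (a 4<|a 5<|c))<|
 d (b 572392457<|b 7 (a 16<|a 8<|c))<|
 d (b 572392473<|b 12 (a 12<|a 7<|a 1<|c))<|
 d (b 572399883<|b 6 (a 9<|c))<|
 e);
 (d (b 572203275<|b 5 (a 2<|a 9<|c))<|
 d (b 572203295<|b 6 (a 23<|a 7<|c))<|
 d (b 572203785<|b 7 (a 14<|a 15<|c))<|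
 d (b 572203805<|b 12 (a 18<|a 20<|c))<|
 e))));
 (let e:=(let e:=(let e:=(d (b 571872299<|b 6 (a 7<|c))<|
 d (b 572196107<|b 6 (a 2<|a 9<|c))<|
 d (b 572196127<|b 21 (a 10<|c))<|
 d (b 572196617<|b 12 (a 3<|a 22<|a 1<|c))<|
 d (b 572196637<|b 17 (a 22<|a 1<|c))<|
 e);
 (d (b 571868972<|b 17 (a 20<|a 0<|c))<|
 d (b 571872029<|b 7 (a 12<|a 15<|c))<|
 d (b 571872044<|b 12 (a 22<|a 11<|a 1<|c))<|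
 d (b 571872287<|b 5 (a 16<|a 8<|c))<|
 e));
 (let e:=(d (b 571806748<|b 6 (a 13<|a 9<|c))<|
 d (b 571806763<|b 21 (a 0<|c))<|
 d (b 571868447<|b 6 (a 18<|a 1<|c))<|
 d (b 571868459<|b 21 (a 23<|a 10<|c))<|
 d (b 571868957<|b 12 (a 22<|a 1<|c))<|
 e);
 (d (b 571802649<|b 7 (a 15<|c))<|
 d (b 571802668<|b 12 (a 21<|a 9<|c))<|
 d (b 571806489<|b 12 (a 8<|a 18<|a 1<|c))<|
 d (b 571806508<|b 17 (a 21<|a 9<|c))<|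
 e)));
 (let e:=(let e:=(d (b 571282463<|b 6 (a 12<|c))<|
 d (b 571285788<|b 6 (a 15<|a 12<|c))<|
 d (b 571285791<|b 23 (a 22<|a 6<|c))<|
 d (b 571801884<|b 5 (a 15<|c))<|
 d (b 571801899<|b 6 (a 13<|a 7<|c))<|
 e);
 (d (b 571278380<|b 13 (a 6<|a 20<|c))<|
 d (b 571279113<|b 13 (a 22<|a 1<|c))<|
 d (b 571279148<|b 18 (a 22<|a 1<|c))<|
 d (b 571282460<|b 23 (a 10<|c))<|
 e));
 (let e:=(d (b 570954521<|b 13 (a 12<|a 9<|c))<|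
 d (b 570954525<|b 8 (a 16<|c))<|
 d (b 570958617<|b 8 (a 15<|a 16<|c))<|
 d (b 570958621<|b 13 (a 6<|a 5<|c))<|
 d (b 571278345<|b 3 (a 22<|a 12<|c))<|
 e);
 (d (b 570949899<|b 1 (a 9<|c))<|
 d (b 570949931<|b 2 (a 4<|c))<|
 d (b 570950923<|b 2 (a 9<|c))<|
 d (b 570950955<|b 22 (a 10<|c))<|
 e)))))));
 (let e:=(let e:=(let e:=(let e:=(let e:=(let e:=(d (b 556080138<|b 15 (a 19<|a 5<|c))<|
 d (b 556080896<|b 10 (a 19<|a 1<|c))<|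
 d (b 556080906<|b 14 (a 19<|a 5<|c))<|
 d (b 556081668<|b 12 (a 19<|c))<|
 d (b 556081671<|b 13 (a 6<|a 12<|c))<|
 e);
 (d (b 555160361<|b 14 (a 15<|a 8<|c))<|
 d (b 556079108<|b 13 (a 15<|a 8<|c))<|
 d (b 556079111<|b 12 (a 2<|a 19<|c))<|
 d (b 556080128<|b 11 (a 19<|a 1<|c))<|
 e));
 (let e:=(d (b 555159075<|b 4 (a 5<|c))<|
 d (b 555159083<|b 3 (a 5<|c))<|
 d (b 555159843<|b 8 (a 6<|a 20<|c))<|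
 d (b 555159851<|b 13 (a 16<|c))<|
 d (b 555160358<|b 10 (a 11<|a 0<|c))<|
 e);
 (d (b 554638336<|b 10 (a 16<|a 13<|c))<|
 d (b 554638377<|b 16 (a 13<|a 6<|a 12<|c))<|
 d (b 555158310<|b 14 (a 16<|c))<|
 d (b 555158313<|b 10 (a 4<|a 9<|c))<|
 e)));
 (let e:=(let e:=(d (b 554635563<|b 12 (a 18<|a 12<|c))<|
 d (b 554636032<|b 20 (a 14<|c))<|
 d (b 554636073<|b 10 (a 18<|c))<|
 d (b 554637316<|b 3 (a 21<|a 5<|c))<|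
 d (b 554637355<|b 7 (a 16<|a 20<|c))<|
 e);
 (d (b 554440747<|b 12 (a 15<|a 16<|a 8<|c))<|
 d (b 554442496<|b 20 (a 2<|a 17<|c))<|
 d (b 554442534<|b 10 (a 16<|a 18<|c))<|
 d (b 554635524<|b 7 (a 2<|a 20<|c))<|
 e));
 (let e:=(d (b 554438151<|b 3 (a 16<|a 5<|c))<|
 d (b 554438187<|b 7 (a 1<|a 11<|c))<|
 d (b 554439424<|b 10 (a 15<|a 8<|c))<|
 d (b 554439462<|b 16 (a 21<|a 15<|c))<|
 d (b 554440711<|b 7 (a 20<|c))<|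
 e);
 (d (b 554048522<|b 16 (a 12<|a 15<|c))<|
 d (b 554048553<|b 15 (a 15<|a 8<|c))<|
 d (b 554050052<|b 7 (a 5<|a 4<|c))<|
 d (b 554050083<|b 8 (a 5<|a 19<|c))<|
 e))));
 (let e:=(let e:=(let e:=(d (b 553853475<|b 17 (a 3<|a 19<|c))<|
 d (b 554044170<|b 10 (a 13<|a 16<|c))<|
 d (b 554044201<|b 16 (a 18<|a 12<|c))<|
 d (b 554045700<|b 12 (a 15<|a 8<|c))<|
 d (b 554045731<|b 17 (a 18<|a 12<|c))<|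
 e);
 (d (b 553848355<|b 8 (a 23<|a 1<|c))<|
 d (b 553852682<|b 10 (a 8<|a 18<|c))<|
 d (b 553852710<|b 16 (a 3<|a 19<|a 1<|c))<|
 d (b 553853447<|b 12 (a 15<|a 2<|a 8<|c))<|
 e));
 (let e:=(d (b 522462721<|b 19 (a 10<|c))<|
 d (b 522462729<|b 15 (a 6<|a 17<|c))<|
 d (b 553847562<|b 16 (a 15<|c))<|
 d (b 553847590<|b 15 (a 16<|a 13<|c))<|
 d (b 553848327<|b 7 (a 23<|a 1<|c))<|
 e);
 (d (b 522459406<|b 17 (a 10<|c))<|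
 d (b 522459416<|b 18 (a 10<|c))<|
 d (b 522461454<|b 12 (a 6<|a 17<|c))<|
 d (b 522461464<|b 17 (a 9<|a 4<|c))<|
 e)));
 (let e:=(let e:=(d (b 521871650<|b 8 (a 23<|a 7<|c))<|
 d (b 521872905<|b 16 (a 21<|a 14<|c))<|
 d (b 521872925<|b 15 (a 3<|a 19<|c))<|
 d (b 522452993<|b 15 (a 6<|a 20<|c))<|
 d (b 522453001<|b 16 (a 10<|c))<|
 e);
 (d (b 521864482<|b 17 (a 21<|a 14<|c))<|
 d (b 521865737<|b 10 (a 21<|a 14<|c))<|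
 d (b 521865757<|b 16 (a 6<|a 17<|c))<|
 d (b 521871630<|b 7 (a 23<|a 7<|c))<|
 e));
 (let e:=(d (b 521539869<|b 16 (a 5<|c))<|
 d (b 521539884<|b 15 (a 12<|a 9<|c))<|
 d (b 521540642<|b 7 (a 7<|c))<|
 d (b 521540649<|b 8 (a 7<|c))<|
 d (b 521864462<|b 12 (a 21<|a 14<|c))<|
 e);
 (d (b 521536802<|b 12 (a 22<|a 21<|a 14<|c))<|
 d (b 521536809<|b 17 (a 5<|a 11<|c))<|
 d (b 521538077<|b 10 (a 6<|a 17<|c))<|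
 d (b 521538092<|b 16 (a 11<|c))<|
 e)))));
 (let e:=(let e:=(let e:=(let e:=(d (b 521277740<|b 19 (a 6<|a 17<|c))<|
 d (b 521278488<|b 12 (a 3<|a 6<|a 17<|c))<|
 d (b 521278505<|b 17 (a 6<|a 17<|c))<|
 d (b 521279768<|b 17 (a 23<|a 10<|c))<|
 d (b 521279785<|b 18 (a 23<|a 10<|c))<|
 e);
 (d (b 520954146<|b 13 (a 23<|a 10<|c))<|
 d (b 521273345<|b 16 (a 23<|a 10<|c))<|
 d (b 521273388<|b 15 (a 21<|a 9<|c))<|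
 d (b 521277697<|b 15 (a 21<|a 14<|c))<|
 e));
 (let e:=(d (b 520948233<|b 14 (a 10<|c))<|
 d (b 520948268<|b 15 (a 10<|c))<|
 d (b 520950808<|b 13 (a 10<|c))<|
 d (b 520950818<|b 12 (a 10<|c))<|
 d (b 520954136<|b 12 (a 23<|a 10<|c))<|
 e);
 (d (b 520234497<|b 15 (a 9<|c))<|
 d (b 520234525<|b 11 (a 20<|c))<|
 d (b 520945673<|b 10 (a 10<|c))<|
 d (b 520945708<|b 11 (a 10<|c))<|
 e)));
 (let e:=(let e:=(d (b 520226089<|b 18 (a 6<|a 17<|c))<|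
 d (b 520229121<|b 11 (a 9<|c))<|
 d (b 520229149<|b 15 (a 20<|c))<|
 d (b 520231182<|b 8 (a 6<|a 7<|c))<|
 d (b 520231209<|b 9 (a 7<|c))<|
 e);
 (d (b 489169678<|b 10 (a 8<|a 16<|c))<|
 d (b 489170436<|b 17 (a 19<|c))<|
 d (b 489170443<|b 8 (a 9<|a 19<|c))<|
 d (b 520226062<|b 13 (a 6<|a 17<|c))<|
 e));
 (let e:=(d (b 489166852<|b 12 (a 12<|a 7<|c))<|
 d (b 489166859<|b 7 (a 9<|a 4<|c))<|
 d (b 489167872<|b 15 (a 18<|a 13<|c))<|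
 d (b 489167886<|b 16 (a 5<|a 19<|c))<|
 d (b 489169664<|b 16 (a 19<|a 1<|c))<|
 e);
 (d (b 488317710<|b 20 (a 10<|c))<|
 d (b 488317730<|b 10 (a 12<|a 13<|c))<|
 d (b 488318475<|b 7 (a 2<|a 9<|c))<|
 d (b 488318495<|b 12 (a 3<|a 19<|c))<|
 e))));
 (let e:=(let e:=(let e:=(d (b 487985961<|b 10 (a 18<|a 13<|c))<|
 d (b 488310542<|b 10 (a 15<|c))<|
 d (b 488310562<|b 16 (a 12<|a 7<|a 1<|c))<|
 d (b 488311307<|b 3 (a 15<|a 5<|c))<|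
 d (b 488311327<|b 7 (a 22<|a 1<|c))<|
 e);
 (d (b 487983659<|b 7 (a 1<|a 19<|c))<|
 d (b 487985439<|b 7 (a 20<|a 11<|c))<|
 d (b 487985451<|b 12 (a 16<|c))<|
 d (b 487985954<|b 20 (a 6<|a 17<|c))<|
 e));
 (let e:=(d (b 487529472<|b 16 (a 16<|c))<|
 d (b 487529513<|b 15 (a 12<|a 13<|c))<|
 d (b 487982882<|b 10 (a 16<|c))<|
 d (b 487982889<|b 16 (a 22<|a 12<|c))<|
 d (b 487983647<|b 3 (a 22<|a 1<|c))<|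
 e);
 (d (b 487527168<|b 10 (a 8<|a 15<|c))<|
 d (b 487527209<|b 16 (a 18<|c))<|
 d (b 487528452<|b 7 (a 3<|a 20<|c))<|
 d (b 487528491<|b 12 (a 2<|a 16<|a 8<|c))<|
 e)));
 (let e:=(let e:=(d (b 487069739<|b 13 (a 15<|a 12<|c))<|
 d (b 487072512<|b 10 (a 22<|a 12<|c))<|
 d (b 487072546<|b 14 (a 19<|a 9<|c))<|
 d (b 487526660<|b 8 (a 2<|a 20<|c))<|
 d (b 487526699<|b 17 (a 16<|c))<|
 e);
 (d (b 487066155<|b 8 (a 22<|a 1<|c))<|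
 d (b 487068416<|b 14 (a 15<|a 12<|c))<|
 d (b 487068450<|b 10 (a 19<|a 9<|c))<|
 d (b 487069707<|b 3 (a 20<|c))<|
 e));
 (let e:=(d (b 486677518<|b 10 (a 13<|c))<|
 d (b 486677545<|b 11 (a 13<|c))<|
 d (b 486680068<|b 12 (a 2<|a 8<|c))<|
 d (b 486680095<|b 13 (a 2<|a 8<|c))<|
 d (b 487066123<|b 4 (a 9<|c))<|
 e);
 (d (b 486672142<|b 14 (a 13<|c))<|
 d (b 486672169<|b 15 (a 13<|c))<|
 d (b 486674692<|b 13 (a 13<|c))<|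
 d (b 486674719<|b 12 (a 13<|c))<|
 e))))));
 (let e:=(let e:=(let e:=(let e:=(let e:=(d (b 472325400<|b 17 (a 14<|a 8<|c))<|
 d (b 472326417<|b 17 (a 10<|a 2<|c))<|
 d (b 472326424<|b 18 (a 10<|a 2<|c))<|
 d (b 472328453<|b 15 (a 21<|a 11<|c))<|
 d (b 472328457<|b 16 (a 10<|a 2<|c))<|
 e);
 (d (b 471738649<|b 16 (a 22<|a 10<|a 2<|c))<|
 d (b 472317957<|b 19 (a 10<|a 2<|c))<|
 d (b 472317961<|b 15 (a 3<|a 1<|c))<|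
 d (b 472325393<|b 12 (a 22<|a 10<|a 2<|c))<|
 e));
 (let e:=(d (b 471730697<|b 16 (a 3<|a 10<|a 2<|c))<|
 d (b 471730713<|b 15 (a 17<|a 12<|c))<|
 d (b 471736593<|b 12 (a 3<|a 10<|a 2<|c))<|
 d (b 471736610<|b 17 (a 1<|a 11<|c))<|
 d (b 471738633<|b 10 (a 22<|a 0<|c))<|
 e);
 (d (b 471476485<|b 11 (a 2<|a 9<|c))<|
 d (b 471476505<|b 15 (a 2<|a 20<|c))<|
 d (b 471728401<|b 7 (a 4<|a 5<|c))<|
 d (b 471728418<|b 8 (a 4<|a 5<|c))<|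
 e)));
 (let e:=(let e:=(d (b 471466278<|b 9 (a 4<|c))<|
 d (b 471469573<|b 15 (a 2<|a 9<|c))<|
 d (b 471469593<|b 11 (a 6<|a 19<|c))<|
 d (b 471473425<|b 13 (a 22<|a 0<|c))<|
 d (b 471473446<|b 18 (a 10<|a 12<|c))<|
 e);
 (d (b 471141932<|b 16 (a 21<|a 9<|c))<|
 d (b 471143458<|b 12 (a 10<|a 15<|c))<|
 d (b 471143462<|b 17 (a 3<|a 0<|c))<|
 d (b 471466257<|b 8 (a 16<|a 11<|c))<|
 e));
 (let e:=(d (b 471138594<|b 7 (a 13<|a 7<|c))<|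
 d (b 471138598<|b 8 (a 13<|a 7<|c))<|
 d (b 471140889<|b 16 (a 8<|a 5<|c))<|
 d (b 471140908<|b 15 (a 10<|a 15<|c))<|
 d (b 471141913<|b 10 (a 3<|a 0<|c))<|
 e);
 (d (b 470815768<|b 17 (a 0<|c))<|
 d (b 470815782<|b 18 (a 0<|c))<|
 d (b 470818072<|b 12 (a 22<|a 0<|c))<|
 d (b 470818086<|b 17 (a 20<|a 4<|c))<|
 e))));
 (let e:=(let e:=(let e:=(d (b 470622498<|b 12 (a 10<|a 2<|c))<|
 d (b 470810629<|b 15 (a 22<|a 1<|c))<|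
 d (b 470810668<|b 19 (a 1<|c))<|
 d (b 470814213<|b 16 (a 0<|c))<|
 d (b 470814252<|b 15 (a 6<|a 19<|c))<|
 e);
 (d (b 470616620<|b 11 (a 0<|c))<|
 d (b 470619160<|b 12 (a 0<|c))<|
 d (b 470619170<|b 13 (a 0<|c))<|
 d (b 470622488<|b 13 (a 10<|a 2<|c))<|
 e));
 (let e:=(d (b 422193415<|b 12 (a 12<|a 18<|a 8<|c))<|
 d (b 422193419<|b 7 (a 22<|a 9<|c))<|
 d (b 470614025<|b 14 (a 1<|c))<|
 d (b 470614060<|b 15 (a 1<|c))<|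
 d (b 470616585<|b 10 (a 0<|c))<|
 e);
 (d (b 422190848<|b 16 (a 8<|a 11<|a 1<|c))<|
 d (b 422190865<|b 10 (a 13<|a 18<|c))<|
 d (b 422191872<|b 15 (a 12<|a 8<|c))<|
 d (b 422191889<|b 16 (a 18<|a 11<|a 1<|c))<|
 e)));
 (let e:=(let e:=(d (b 421405474<|b 16 (a 18<|a 22<|a 11<|a 1<|c))<|
 d (b 421406987<|b 3 (a 6<|a 5<|c))<|
 d (b 421407004<|b 7 (a 5<|a 19<|c))<|
 d (b 422189063<|b 17 (a 2<|a 19<|c))<|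
 d (b 422189067<|b 8 (a 13<|a 20<|c))<|
 e);
 (d (b 421397538<|b 10 (a 18<|a 8<|c))<|
 d (b 421399051<|b 7 (a 9<|c))<|
 d (b 421399068<|b 12 (a 18<|a 12<|a 8<|c))<|
 d (b 421405457<|b 10 (a 12<|a 15<|c))<|
 e));
 (let e:=(d (b 421142289<|b 14 (a 8<|c))<|
 d (b 421142310<|b 15 (a 8<|c))<|
 d (b 421144839<|b 13 (a 23<|a 8<|c))<|
 d (b 421144860<|b 12 (a 23<|a 8<|c))<|
 d (b 421397521<|b 20 (a 10<|a 2<|c))<|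
 e);
 (d (b 421135377<|b 10 (a 8<|c))<|
 d (b 421135398<|b 11 (a 8<|c))<|
 d (b 421137927<|b 12 (a 8<|c))<|
 d (b 421137948<|b 13 (a 8<|c))<|
 e)))));
 (let e:=(let e:=(let e:=(let e:=(d (b 420809259<|b 12 (a 12<|a 8<|c))<|
 d (b 420810268<|b 3 (a 18<|a 1<|c))<|
 d (b 420810283<|b 7 (a 15<|a 9<|c))<|
 d (b 420811554<|b 10 (a 18<|a 16<|c))<|
 d (b 420811558<|b 16 (a 22<|a 11<|a 1<|c))<|
 e);
 (d (b 420224806<|b 16 (a 11<|a 1<|c))<|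
 d (b 420807714<|b 20 (a 1<|c))<|
 d (b 420807718<|b 10 (a 12<|a 8<|c))<|
 d (b 420809244<|b 7 (a 18<|a 1<|c))<|
 e));
 (let e:=(d (b 420221696<|b 16 (a 7<|a 0<|c))<|
 d (b 420221734<|b 15 (a 18<|a 8<|c))<|
 d (b 420222983<|b 8 (a 20<|c))<|
 d (b 420223019<|b 17 (a 13<|a 12<|c))<|
 d (b 420224768<|b 10 (a 13<|a 12<|c))<|
 e);
 (d (b 419963648<|b 14 (a 12<|c))<|
 d (b 419963682<|b 10 (a 20<|a 0<|c))<|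
 d (b 420220423<|b 7 (a 20<|a 4<|c))<|
 d (b 420220459<|b 12 (a 18<|a 8<|c))<|
 e)));
 (let e:=(let e:=(d (b 419957291<|b 13 (a 12<|c))<|
 d (b 419959552<|b 10 (a 1<|a 19<|c))<|
 d (b 419959586<|b 14 (a 18<|c))<|
 d (b 419960843<|b 4 (a 20<|c))<|
 d (b 419960875<|b 8 (a 16<|a 20<|c))<|
 e);
 (d (b 405217564<|b 22 (a 18<|c))<|
 d (b 405220101<|b 18 (a 23<|a 5<|c))<|
 d (b 405220105<|b 17 (a 23<|a 5<|c))<|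
 d (b 419957259<|b 3 (a 9<|c))<|
 e));
 (let e:=(d (b 405210117<|b 17 (a 21<|a 5<|c))<|
 d (b 405210121<|b 8 (a 16<|a 15<|c))<|
 d (b 405216531<|b 6 (a 16<|a 15<|c))<|
 d (b 405216540<|b 21 (a 4<|a 9<|c))<|
 d (b 405217555<|b 21 (a 9<|c))<|
 e);
 (d (b 405020947<|b 6 (a 3<|a 15<|c))<|
 d (b 405020959<|b 21 (a 22<|a 9<|c))<|
 d (b 405023489<|b 17 (a 19<|a 5<|c))<|
 d (b 405023497<|b 8 (a 14<|a 15<|c))<|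
 e))));
 (let e:=(let e:=(let e:=(d (b 404761349<|b 9 (a 15<|c))<|
 d (b 405014273<|b 18 (a 9<|c))<|
 d (b 405014281<|b 17 (a 4<|a 5<|c))<|
 d (b 405018899<|b 21 (a 2<|a 9<|c))<|
 d (b 405018911<|b 22 (a 16<|c))<|
 e);
 (d (b 404756771<|b 24 c)<|
 d (b 404757779<|b 2 (a 6<|a 12<|c))<|
 d (b 404757795<|b 22 (a 4<|c))<|
 d (b 404761345<|b 18 (a 6<|a 5<|c))<|
 e));
 (let e:=(d (b 403839263<|b 21 (a 19<|a 9<|c))<|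
 d (b 403839267<|b 22 (a 15<|c))<|
 d (b 404753153<|b 9 (a 12<|c))<|
 d (b 404753157<|b 18 (a 16<|a 5<|c))<|
 d (b 404756755<|b 22 (a 9<|c))<|
 e);
 (d (b 403835649<|b 8 (a 12<|a 15<|c))<|
 d (b 403835692<|b 17 (a 16<|a 5<|c))<|
 d (b 403837983<|b 6 (a 12<|a 15<|c))<|
 d (b 403837987<|b 21 (a 7<|c))<|
 e)));
 (let e:=(let e:=(d (b 403706915<|b 22 (a 12<|c))<|
 d (b 403709212<|b 6 (a 15<|c))<|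
 d (b 403709219<|b 21 (a 15<|c))<|
 d (b 403834625<|b 17 (a 6<|a 5<|c))<|
 d (b 403834668<|b 18 (a 8<|a 5<|c))<|
 e);
 (d (b 403702828<|b 17 (a 11<|a 5<|c))<|
 d (b 403704581<|b 17 (a 5<|c))<|
 d (b 403704620<|b 18 (a 5<|c))<|
 d (b 403706908<|b 21 (a 18<|c))<|
 e));
 (let e:=(d (b 403510300<|b 6 (a 13<|a 15<|c))<|
 d (b 403510303<|b 2 (a 12<|c))<|
 d (b 403513628<|b 2 (a 15<|c))<|
 d (b 403513631<|b 6 (a 8<|a 15<|c))<|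
 d (b 403702789<|b 8 (a 15<|c))<|
 e);
 (d (b 403506185<|b 4 (a 15<|c))<|
 d (b 403506220<|b 8 (a 13<|a 15<|c))<|
 d (b 403506953<|b 8 (a 8<|a 15<|c))<|
 d (b 403506988<|b 9 (a 8<|c))<|
 e))))))));
 (let e:=(let e:=(let e:=(let e:=(let e:=(let e:=(let e:=(d (b 338634259<|b 13 (a 16<|a 8<|c))<|
 d (b 338635019<|b 4 (a 1<|c))<|
 d (b 338635027<|b 3 (a 1<|c))<|
 d (b 338635534<|b 14 (a 15<|c))<|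
 d (b 338635537<|b 10 (a 6<|a 12<|c))<|
 e);
 (d (b 338570001<|b 16 (a 7<|a 1<|c))<|
 d (b 338633486<|b 10 (a 7<|a 9<|c))<|
 d (b 338633489<|b 14 (a 16<|a 8<|c))<|
 d (b 338634251<|b 8 (a 12<|a 1<|c))<|
 e));
 (let e:=(d (b 338567687<|b 17 (a 6<|a 12<|c))<|
 d (b 338567699<|b 12 (a 8<|a 12<|c))<|
 d (b 338569479<|b 8 (a 1<|c))<|
 d (b 338569491<|b 7 (a 1<|c))<|
 d (b 338569994<|b 15 (a 15<|a 13<|c))<|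
 e);
 (d (b 338504458<|b 16 (a 12<|c))<|
 d (b 338504462<|b 10 (a 13<|a 15<|c))<|
 d (b 338566922<|b 16 (a 15<|a 12<|c))<|
 d (b 338566929<|b 10 (a 8<|a 12<|c))<|
 e)));
 (let e:=(let e:=(d (b 338500622<|b 16 (a 8<|a 7<|a 1<|c))<|
 d (b 338502148<|b 8 (a 8<|a 1<|c))<|
 d (b 338502163<|b 7 (a 8<|a 1<|c))<|
 d (b 338503172<|b 17 (a 12<|c))<|
 d (b 338503187<|b 12 (a 16<|a 15<|a 8<|c))<|
 e);
 (d (b 338305809<|b 10 (a 16<|a 8<|c))<|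
 d (b 338307335<|b 7 (a 3<|a 1<|c))<|
 d (b 338307339<|b 3 (a 3<|a 1<|c))<|
 d (b 338500618<|b 15 (a 16<|a 8<|c))<|
 e));
 (let e:=(d (b 338302983<|b 12 (a 16<|a 8<|c))<|
 d (b 338302987<|b 7 (a 12<|a 1<|c))<|
 d (b 338304768<|b 10 (a 15<|a 12<|c))<|
 d (b 338304785<|b 20 (a 17<|c))<|
 d (b 338305792<|b 16 (a 12<|a 19<|a 1<|c))<|
 e);
 (d (b 338174720<|b 10 (a 12<|c))<|
 d (b 338174734<|b 20 (a 2<|a 14<|c))<|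
 d (b 338175492<|b 12 (a 12<|c))<|
 d (b 338175499<|b 7 (a 9<|a 19<|c))<|
 e))));
 (let e:=(let e:=(let e:=(d (b 337977863<|b 12 (a 6<|a 12<|c))<|
 d (b 338171908<|b 7 (a 5<|a 11<|c))<|
 d (b 338171915<|b 3 (a 12<|a 1<|c))<|
 d (b 338172928<|b 16 (a 6<|a 12<|c))<|
 d (b 338172942<|b 10 (a 15<|a 13<|c))<|
 e);
 (d (b 337976330<|b 11 (a 11<|a 1<|c))<|
 d (b 337977088<|b 14 (a 11<|a 5<|c))<|
 d (b 337977098<|b 10 (a 11<|a 1<|c))<|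
 d (b 337977860<|b 13 (a 13<|a 12<|c))<|
 e));
 (let e:=(d (b 321858574<|b 13 (a 17<|c))<|
 d (b 321858577<|b 12 (a 2<|a 14<|c))<|
 d (b 337975300<|b 12 (a 7<|c))<|
 d (b 337975303<|b 13 (a 7<|c))<|
 d (b 337976320<|b 15 (a 11<|a 5<|c))<|
 e);
 (d (b 321857033<|b 15 (a 17<|c))<|
 d (b 321857044<|b 11 (a 17<|c))<|
 d (b 321857801<|b 14 (a 17<|c))<|
 d (b 321857812<|b 10 (a 17<|c))<|
 e)));
 (let e:=(let e:=(d (b 321792276<|b 16 (a 17<|c))<|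
 d (b 321793034<|b 18 (a 17<|c))<|
 d (b 321793041<|b 17 (a 4<|a 0<|c))<|
 d (b 321855758<|b 12 (a 17<|c))<|
 d (b 321855761<|b 13 (a 2<|a 14<|c))<|
 e);
 (d (b 321789201<|b 12 (a 6<|a 10<|c))<|
 d (b 321790469<|b 19 (a 17<|c))<|
 d (b 321790484<|b 15 (a 16<|a 20<|c))<|
 d (b 321792261<|b 15 (a 6<|a 10<|c))<|
 e));
 (let e:=(d (b 321725953<|b 19 (a 2<|a 14<|c))<|
 d (b 321725972<|b 15 (a 18<|a 11<|c))<|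
 d (b 321727498<|b 17 (a 2<|a 14<|c))<|
 d (b 321727502<|b 12 (a 21<|a 22<|a 14<|c))<|
 d (b 321789194<|b 17 (a 17<|c))<|
 e);
 (d (b 321722634<|b 18 (a 2<|a 14<|c))<|
 d (b 321722638<|b 17 (a 6<|a 10<|c))<|
 d (b 321724929<|b 15 (a 3<|a 17<|c))<|
 d (b 321724948<|b 16 (a 2<|a 14<|c))<|
 e)))));
 (let e:=(let e:=(let e:=(let e:=(d (b 321330456<|b 12 (a 3<|a 17<|c))<|
 d (b 321331473<|b 8 (a 8<|a 11<|c))<|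
 d (b 321331480<|b 17 (a 3<|a 17<|c))<|
 d (b 321333509<|b 16 (a 3<|a 17<|c))<|
 d (b 321333513<|b 10 (a 3<|a 17<|c))<|
 e);
 (d (b 321136137<|b 16 (a 21<|a 22<|a 14<|c))<|
 d (b 321323013<|b 15 (a 14<|a 15<|c))<|
 d (b 321323017<|b 16 (a 6<|a 10<|c))<|
 d (b 321330449<|b 7 (a 12<|a 7<|c))<|
 e));
 (let e:=(d (b 321132814<|b 8 (a 19<|a 5<|c))<|
 d (b 321132824<|b 17 (a 20<|a 11<|c))<|
 d (b 321134862<|b 7 (a 19<|a 5<|c))<|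
 d (b 321134872<|b 12 (a 6<|a 21<|a 10<|c))<|
 d (b 321136129<|b 15 (a 22<|a 9<|c))<|
 e);
 (d (b 320872961<|b 11 (a 3<|a 17<|c))<|
 d (b 320872965<|b 15 (a 11<|c))<|
 d (b 321126401<|b 16 (a 9<|c))<|
 d (b 321126409<|b 10 (a 6<|a 10<|c))<|
 e)));
 (let e:=(let e:=(d (b 320864261<|b 11 (a 11<|c))<|
 d (b 320870666<|b 9 (a 19<|c))<|
 d (b 320870680<|b 18 (a 6<|a 10<|c))<|
 d (b 320871690<|b 8 (a 12<|a 7<|c))<|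
 d (b 320871704<|b 13 (a 6<|a 10<|c))<|
 e);
 (d (b 288303892<|b 12 (a 1<|c))<|
 d (b 288304139<|b 2 (a 12<|a 1<|c))<|
 d (b 288304147<|b 6 (a 6<|a 5<|c))<|
 d (b 320864257<|b 15 (a 2<|a 11<|c))<|
 e));
 (let e:=(d (b 288301323<|b 6 (a 22<|a 9<|c))<|
 d (b 288301331<|b 23 (a 6<|c))<|
 d (b 288301833<|b 12 (a 3<|a 18<|a 1<|c))<|
 d (b 288301844<|b 13 (a 7<|a 9<|c))<|
 d (b 288303881<|b 13 (a 1<|c))<|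
 e);
 (d (b 288238341<|b 18 (a 1<|c))<|
 d (b 288238356<|b 17 (a 1<|c))<|
 d (b 288238599<|b 22 (a 6<|c))<|
 d (b 288238611<|b 21 (a 6<|c))<|
 e))));
 (let e:=(let e:=(let e:=(d (b 287976459<|b 6 (a 13<|a 20<|c))<|
 d (b 288234759<|b 21 (a 3<|a 1<|c))<|
 d (b 288234771<|b 6 (a 22<|a 12<|c))<|
 d (b 288235269<|b 17 (a 11<|a 1<|c))<|
 d (b 288235284<|b 8 (a 6<|a 12<|c))<|
 e);
 (d (b 287973145<|b 12 (a 18<|a 1<|c))<|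
 d (b 287974164<|b 12 (a 18<|a 11<|a 1<|c))<|
 d (b 287974169<|b 17 (a 18<|a 1<|c))<|
 d (b 287976455<|b 21 (a 2<|a 6<|c))<|
 e));
 (let e:=(d (b 287779589<|b 17 (a 3<|a 1<|c))<|
 d (b 287779593<|b 12 (a 3<|a 1<|c))<|
 d (b 287965447<|b 6 (a 23<|a 4<|c))<|
 d (b 287965451<|b 5 (a 16<|c))<|
 d (b 287973140<|b 7 (a 10<|a 12<|c))<|
 e);
 (d (b 287776019<|b 5 (a 21<|a 5<|c))<|
 d (b 287776028<|b 6 (a 8<|a 1<|c))<|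
 d (b 287777043<|b 6 (a 2<|a 19<|c))<|
 d (b 287777052<|b 21 (a 1<|c))<|
 e)));
 (let e:=(let e:=(d (b 287187228<|b 6 (a 2<|a 8<|c))<|
 d (b 287187721<|b 7 (a 2<|a 8<|c))<|
 d (b 287187737<|b 8 (a 2<|a 8<|c))<|
 d (b 287769605<|b 12 (a 18<|a 7<|a 1<|c))<|
 d (b 287769609<|b 7 (a 12<|c))<|
 e);
 (d (b 287179036<|b 5 (a 5<|c))<|
 d (b 287179785<|b 3 (a 12<|c))<|
 d (b 287179801<|b 7 (a 8<|a 12<|c))<|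
 d (b 287187211<|b 5 (a 19<|a 5<|c))<|
 e));
 (let e:=(d (b 286924039<|b 6 (a 12<|a 7<|c))<|
 d (b 286924060<|b 23 (a 2<|a 6<|c))<|
 d (b 286924549<|b 12 (a 11<|a 1<|c))<|
 d (b 286924569<|b 13 (a 11<|a 5<|c))<|
 d (b 287179019<|b 1 (a 16<|c))<|
 e);
 (d (b 286916871<|b 2 (a 6<|a 19<|c))<|
 d (b 286916892<|b 6 (a 16<|a 11<|c))<|
 d (b 286917637<|b 13 (a 11<|a 1<|c))<|
 d (b 286917657<|b 12 (a 7<|a 1<|c))<|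
 e))))));
 (let e:=(let e:=(let e:=(let e:=(let e:=(d (b 237970196<|b 12 (a 8<|a 1<|c))<|
 d (b 237972233<|b 12 (a 23<|a 5<|c))<|
 d (b 237972244<|b 13 (a 23<|a 5<|c))<|
 d (b 237972491<|b 6 (a 12<|a 1<|c))<|
 d (b 237972499<|b 23 (a 3<|a 17<|c))<|
 e);
 (d (b 237841427<|b 6 (a 15<|a 8<|c))<|
 d (b 237969675<|b 2 (a 3<|a 1<|c))<|
 d (b 237969683<|b 6 (a 22<|a 1<|c))<|
 d (b 237970185<|b 13 (a 8<|a 1<|c))<|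
 e));
 (let e:=(d (b 237837313<|b 18 (a 8<|a 1<|c))<|
 d (b 237837332<|b 17 (a 8<|a 1<|c))<|
 d (b 237841153<|b 17 (a 22<|a 9<|c))<|
 d (b 237841172<|b 8 (a 15<|a 8<|c))<|
 d (b 237841412<|b 21 (a 3<|a 22<|c))<|
 e);
 (d (b 237513732<|b 6 (a 7<|a 1<|c))<|
 d (b 237513739<|b 5 (a 15<|a 8<|c))<|
 d (b 237836548<|b 22 (a 3<|c))<|
 d (b 237836563<|b 21 (a 6<|a 2<|c))<|
 e)));
 (let e:=(let e:=(d (b 237503755<|b 6 (a 15<|a 5<|c))<|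
 d (b 237509652<|b 12 (a 12<|a 9<|c))<|
 d (b 237509661<|b 17 (a 19<|a 9<|c))<|
 d (b 237511444<|b 7 (a 15<|a 8<|c))<|
 d (b 237511453<|b 12 (a 18<|a 8<|a 1<|c))<|
 e);
 (d (b 237248799<|b 6 (a 1<|c))<|
 d (b 237251329<|b 12 (a 22<|a 9<|c))<|
 d (b 237251337<|b 7 (a 18<|a 8<|c))<|
 d (b 237503748<|b 21 (a 3<|c))<|
 e));
 (let e:=(d (b 237242113<|b 17 (a 9<|c))<|
 d (b 237242121<|b 12 (a 8<|a 12<|a 1<|c))<|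
 d (b 237246739<|b 6 (a 19<|c))<|
 d (b 237246751<|b 21 (a 8<|c))<|
 d (b 237248787<|b 5 (a 19<|c))<|
 e);
 (d (b 236658955<|b 1 (a 18<|c))<|
 d (b 236658975<|b 5 (a 8<|c))<|
 d (b 236659465<|b 3 (a 18<|c))<|
 d (b 236659485<|b 7 (a 17<|a 8<|c))<|
 e))));
 (let e:=(let e:=(let e:=(d (b 235019293<|b 12 (a 20<|c))<|
 d (b 236651787<|b 5 (a 17<|a 8<|c))<|
 d (b 236651807<|b 6 (a 8<|c))<|
 d (b 236652297<|b 7 (a 8<|c))<|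
 d (b 236652317<|b 8 (a 8<|c))<|
 e);
 (d (b 235013917<|b 13 (a 13<|a 9<|c))<|
 d (b 235018500<|b 2 (a 3<|a 19<|c))<|
 d (b 235018527<|b 6 (a 12<|a 19<|c))<|
 d (b 235019265<|b 13 (a 13<|a 20<|c))<|
 e));
 (let e:=(d (b 187640846<|b 12 (a 14<|a 8<|c))<|
 d (b 187640849<|b 13 (a 1<|a 7<|c))<|
 d (b 235013380<|b 6 (a 6<|a 19<|c))<|
 d (b 235013407<|b 23 (a 3<|c))<|
 d (b 235013889<|b 12 (a 9<|c))<|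
 e);
 (d (b 187639305<|b 11 (a 3<|a 1<|c))<|
 d (b 187639316<|b 15 (a 14<|a 8<|c))<|
 d (b 187640073<|b 10 (a 14<|a 8<|c))<|
 d (b 187640084<|b 14 (a 14<|a 8<|c))<|
 e)));
 (let e:=(let e:=(d (b 187312409<|b 16 (a 18<|a 1<|c))<|
 d (b 187313152<|b 17 (a 10<|a 12<|c))<|
 d (b 187313169<|b 12 (a 21<|a 6<|a 7<|a 0<|c))<|
 d (b 187638030<|b 13 (a 14<|a 8<|c))<|
 d (b 187638033<|b 12 (a 23<|a 7<|a 0<|c))<|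
 e);
 (d (b 187302161<|b 7 (a 15<|a 19<|c))<|
 d (b 187308052<|b 16 (a 8<|a 1<|c))<|
 d (b 187308057<|b 15 (a 18<|a 7<|c))<|
 d (b 187312404<|b 10 (a 21<|a 11<|c))<|
 e));
 (let e:=(d (b 187180564<|b 16 (a 1<|c))<|
 d (b 187180573<|b 15 (a 6<|a 5<|c))<|
 d (b 187182080<|b 8 (a 7<|a 1<|c))<|
 d (b 187182094<|b 7 (a 7<|a 1<|c))<|
 d (b 187302144<|b 8 (a 23<|a 4<|c))<|
 e);
 (d (b 187172096<|b 17 (a 1<|a 19<|c))<|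
 d (b 187172110<|b 12 (a 18<|a 14<|a 8<|c))<|
 d (b 187176980<|b 10 (a 12<|a 9<|c))<|
 d (b 187176989<|b 16 (a 18<|a 8<|a 1<|c))<|
 e)))));
 (let e:=(let e:=(let e:=(let e:=(d (b 186518041<|b 16 (a 8<|a 18<|a 1<|c))<|
 d (b 186523921<|b 7 (a 19<|c))<|
 d (b 186523938<|b 12 (a 10<|a 12<|c))<|
 d (b 186525961<|b 20 (a 6<|c))<|
 d (b 186525977<|b 10 (a 10<|a 12<|c))<|
 e);
 (d (b 186328605<|b 16 (a 22<|a 1<|c))<|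
 d (b 186515729<|b 3 (a 12<|a 7<|c))<|
 d (b 186515746<|b 7 (a 4<|a 9<|c))<|
 d (b 186518025<|b 10 (a 6<|a 7<|c))<|
 e));
 (let e:=(d (b 186321417<|b 20 (a 6<|a 2<|c))<|
 d (b 186321437<|b 10 (a 0<|a 15<|c))<|
 d (b 186327310<|b 3 (a 3<|a 19<|c))<|
 d (b 186327330<|b 7 (a 12<|a 19<|c))<|
 d (b 186328585<|b 10 (a 3<|a 1<|c))<|
 e);
 (d (b 185079833<|b 14 (a 11<|c))<|
 d (b 185079837<|b 10 (a 2<|a 11<|c))<|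
 d (b 186320142<|b 7 (a 2<|a 19<|c))<|
 d (b 186320162<|b 12 (a 16<|a 0<|a 8<|c))<|
 e)));
 (let e:=(let e:=(d (b 185073954<|b 3 (a 7<|c))<|
 d (b 185074944<|b 8 (a 6<|a 19<|c))<|
 d (b 185074978<|b 13 (a 0<|a 12<|c))<|
 d (b 185076249<|b 10 (a 11<|c))<|
 d (b 185076253<|b 14 (a 6<|a 5<|c))<|
 e);
 (d (b 170797844<|b 12 (a 12<|a 19<|a 1<|c))<|
 d (b 170798087<|b 21 (a 23<|c))<|
 d (b 170798099<|b 6 (a 11<|c))<|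
 d (b 185073920<|b 4 (a 7<|c))<|
 e));
 (let e:=(d (b 170794247<|b 6 (a 3<|a 1<|c))<|
 d (b 170794259<|b 5 (a 11<|c))<|
 d (b 170794757<|b 12 (a 18<|a 12<|a 8<|a 1<|c))<|
 d (b 170794772<|b 7 (a 6<|a 12<|c))<|
 d (b 170797829<|b 17 (a 4<|a 20<|c))<|
 e);
 (d (b 170732289<|b 12 (a 18<|a 12<|a 1<|c))<|
 d (b 170732308<|b 7 (a 10<|a 15<|c))<|
 d (b 170732548<|b 6 (a 23<|a 5<|c))<|
 d (b 170732563<|b 5 (a 6<|a 5<|c))<|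
 e))));
 (let e:=(let e:=(let e:=(d (b 170208263<|b 6 (a 15<|a 16<|c))<|
 d (b 170727684<|b 21 (a 14<|c))<|
 d (b 170727699<|b 6 (a 2<|a 11<|c))<|
 d (b 170728449<|b 17 (a 13<|a 20<|c))<|
 d (b 170728468<|b 12 (a 3<|a 20<|c))<|
 e);
 (d (b 170204193<|b 18 (a 12<|a 1<|c))<|
 d (b 170204948<|b 3 (a 6<|a 12<|c))<|
 d (b 170204961<|b 13 (a 12<|a 1<|c))<|
 d (b 170208260<|b 23 (a 23<|c))<|
 e));
 (let e:=(d (b 169880321<|b 13 (a 22<|a 9<|c))<|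
 d (b 169880325<|b 8 (a 15<|a 12<|c))<|
 d (b 170199300<|b 6 (a 16<|c))<|
 d (b 170199303<|b 23 c)<|
 d (b 170204180<|b 13 (a 16<|a 20<|c))<|
 e);
 (d (b 169875731<|b 2 (a 19<|c))<|
 d (b 169875747<|b 22 c)<|
 d (b 169876755<|b 1 (a 19<|c))<|
 d (b 169876771<|b 2 (a 1<|c))<|
 e)));
 (let e:=(let e:=(d (b 168171811<|b 21 (a 2<|c))<|
 d (b 168172545<|b 12 (a 16<|a 19<|a 5<|c))<|
 d (b 168172577<|b 17 (a 20<|c))<|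
 d (b 169872129<|b 8 (a 12<|c))<|
 d (b 169872133<|b 13 (a 16<|a 5<|c))<|
 e);
 (d (b 168167715<|b 6 (a 5<|c))<|
 d (b 168168193<|b 7 (a 12<|a 8<|c))<|
 d (b 168168225<|b 12 (a 12<|a 1<|c))<|
 d (b 168171780<|b 6 (a 19<|a 5<|c))<|
 e));
 (let e:=(d (b 167976199<|b 5 (a 18<|c))<|
 d (b 167976227<|b 6 (a 8<|a 5<|c))<|
 d (b 167976709<|b 7 (a 18<|c))<|
 d (b 167976737<|b 12 (a 12<|a 8<|a 1<|c))<|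
 d (b 168167684<|b 5 (a 19<|a 9<|c))<|
 e);
 (d (b 167971079<|b 6 (a 8<|a 11<|c))<|
 d (b 167971107<|b 21 c)<|
 d (b 167971589<|b 12 (a 15<|a 9<|c))<|
 d (b 167971617<|b 17 (a 12<|a 1<|c))<|
 e)))))));
 (let e:=(let e:=(let e:=(let e:=(let e:=(let e:=(d (b 154084883<|b 18 (a 6<|c))<|
 d (b 154085643<|b 8 (a 22<|a 9<|c))<|
 d (b 154085651<|b 13 (a 6<|c))<|
 d (b 154086158<|b 15 (a 3<|a 15<|c))<|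
 d (b 154086161<|b 11 (a 6<|c))<|
 e);
 (d (b 153561880<|b 19 (a 6<|c))<|
 d (b 154084110<|b 11 (a 6<|a 2<|c))<|
 d (b 154084113<|b 15 (a 7<|a 9<|c))<|
 d (b 154084875<|b 9 (a 9<|c))<|
 e));
 (let e:=(d (b 153551889<|b 16 (a 8<|c))<|
 d (b 153551896<|b 15 (a 6<|a 2<|c))<|
 d (b 153561363<|b 12 (a 6<|a 2<|c))<|
 d (b 153561372<|b 17 (a 22<|a 11<|c))<|
 d (b 153561873<|b 15 (a 8<|a 18<|c))<|
 e);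
 (d (b 153365262<|b 16 (a 22<|a 6<|c))<|
 d (b 153365272<|b 15 (a 6<|c))<|
 d (b 153550867<|b 17 (a 6<|c))<|
 d (b 153550876<|b 18 (a 8<|c))<|
 e)));
 (let e:=(let e:=(d (b 153354271<|b 17 (a 22<|a 6<|c))<|
 d (b 153356046<|b 15 (a 13<|a 16<|c))<|
 d (b 153356056<|b 19 (a 6<|a 2<|c))<|
 d (b 153363987<|b 17 (a 6<|a 2<|c))<|
 d (b 153363999<|b 18 (a 22<|a 6<|c))<|
 e);
 (d (b 152970018<|b 15 (a 16<|a 18<|c))<|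
 d (b 152971531<|b 7 (a 9<|a 7<|c))<|
 d (b 152971548<|b 12 (a 6<|a 21<|c))<|
 d (b 153354259<|b 12 (a 6<|c))<|
 e));
 (let e:=(d (b 152962065<|b 10 (a 6<|c))<|
 d (b 152962082<|b 16 (a 6<|a 21<|c))<|
 d (b 152963595<|b 8 (a 9<|c))<|
 d (b 152963612<|b 17 (a 11<|c))<|
 d (b 152970001<|b 16 (a 6<|a 2<|c))<|
 e);
 (d (b 152773390<|b 10 (a 6<|a 2<|c))<|
 d (b 152773410<|b 16 (a 6<|a 21<|a 2<|c))<|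
 d (b 152774155<|b 8 (a 2<|a 9<|c))<|
 d (b 152774175<|b 17 (a 2<|a 11<|c))<|
 e))));
 (let e:=(let e:=(let e:=(d (b 151849503<|b 13 (a 22<|a 6<|c))<|
 d (b 152766222<|b 16 (a 6<|c))<|
 d (b 152766242<|b 15 (a 18<|c))<|
 d (b 152766987<|b 7 (a 15<|a 5<|c))<|
 d (b 152767007<|b 12 (a 18<|c))<|
 e);
 (d (b 151847970<|b 10 (a 22<|a 6<|c))<|
 d (b 151848728<|b 15 (a 22<|a 6<|c))<|
 d (b 151848738<|b 11 (a 16<|c))<|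
 d (b 151849500<|b 12 (a 11<|c))<|
 e));
 (let e:=(d (b 120466442<|b 17 (a 19<|a 0<|c))<|
 d (b 120466449<|b 8 (a 11<|a 1<|c))<|
 d (b 151846940<|b 13 (a 6<|a 21<|c))<|
 d (b 151846943<|b 12 (a 22<|a 6<|c))<|
 d (b 151847960<|b 14 (a 6<|c))<|
 e);
 (d (b 120463877<|b 15 (a 6<|a 7<|c))<|
 d (b 120463892<|b 16 (a 22<|a 3<|a 1<|c))<|
 d (b 120465669<|b 16 (a 3<|a 18<|a 1<|c))<|
 d (b 120465684<|b 10 (a 12<|a 19<|c))<|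
 e)));
 (let e:=(let e:=(d (b 120203545<|b 10 (a 18<|a 1<|c))<|
 d (b 120204288<|b 12 (a 16<|a 14<|a 8<|c))<|
 d (b 120204305<|b 7 (a 2<|a 11<|c))<|
 d (b 120462602<|b 12 (a 12<|a 7<|a 0<|c))<|
 d (b 120462609<|b 7 (a 11<|a 1<|c))<|
 e);
 (d (b 120193297<|b 3 (a 15<|a 19<|c))<|
 d (b 120199188<|b 10 (a 0<|a 18<|c))<|
 d (b 120199193<|b 16 (a 18<|a 12<|a 8<|a 1<|c))<|
 d (b 120203540<|b 20 (a 23<|a 2<|c))<|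
 e));
 (let e:=(d (b 119874068<|b 10 (a 1<|c))<|
 d (b 119874081<|b 11 (a 1<|c))<|
 d (b 119876608<|b 13 (a 20<|a 7<|c))<|
 d (b 119876618<|b 12 (a 23<|a 0<|a 8<|c))<|
 d (b 120193280<|b 7 (a 22<|a 4<|c))<|
 e);
 (d (b 119867648<|b 12 (a 0<|a 8<|c))<|
 d (b 119867658<|b 13 (a 0<|a 8<|c))<|
 d (b 119871508<|b 14 (a 7<|c))<|
 d (b 119871521<|b 15 (a 7<|c))<|
 e)))));
 (let e:=(let e:=(let e:=(let e:=(d (b 119148057<|b 10 (a 2<|a 20<|c))<|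
 d (b 119151889<|b 3 (a 19<|c))<|
 d (b 119151910<|b 13 (a 10<|a 12<|c))<|
 d (b 119154949<|b 10 (a 2<|a 9<|c))<|
 d (b 119154969<|b 14 (a 10<|a 12<|c))<|
 e);
 (d (b 118233121<|b 16 (a 12<|a 8<|a 1<|c))<|
 d (b 119144721<|b 4 (a 11<|c))<|
 d (b 119144742<|b 8 (a 22<|a 4<|c))<|
 d (b 119148037<|b 14 (a 2<|a 9<|c))<|
 e));
 (let e:=(d (b 118229248<|b 7 (a 19<|a 9<|c))<|
 d (b 118229286<|b 12 (a 0<|a 12<|c))<|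
 d (b 118230553<|b 20 (a 2<|c))<|
 d (b 118230561<|b 10 (a 12<|a 1<|c))<|
 d (b 118233113<|b 10 (a 0<|a 12<|c))<|
 e);
 (d (b 117645829<|b 16 (a 3<|a 1<|c))<|
 d (b 117645857<|b 15 (a 21<|a 7<|c))<|
 d (b 118227200<|b 3 (a 6<|a 19<|c))<|
 d (b 118227238<|b 7 (a 4<|a 20<|c))<|
 e)));
 (let e:=(let e:=(d (b 117639462<|b 17 (a 0<|a 12<|c))<|
 d (b 117640709<|b 10 (a 18<|a 11<|c))<|
 d (b 117640737<|b 16 (a 0<|a 15<|c))<|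
 d (b 117644554<|b 7 (a 3<|a 19<|c))<|
 d (b 117644582<|b 12 (a 18<|a 12<|a 7<|a 0<|c))<|
 e);
 (d (b 86911251<|b 12 (a 3<|a 2<|a 21<|c))<|
 d (b 86911754<|b 19 (a 23<|a 2<|c))<|
 d (b 86911761<|b 15 (a 2<|a 6<|c))<|
 d (b 117639434<|b 8 (a 2<|a 19<|c))<|
 e));
 (let e:=(d (b 86908682<|b 15 (a 8<|a 16<|c))<|
 d (b 86908689<|b 16 (a 23<|a 2<|c))<|
 d (b 86909447<|b 18 (a 23<|a 2<|c))<|
 d (b 86909459<|b 17 (a 23<|a 2<|c))<|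
 d (b 86911239<|b 17 (a 2<|a 21<|c))<|
 e);
 (d (b 86452499<|b 7 (a 6<|a 5<|c))<|
 d (b 86452508<|b 8 (a 23<|a 5<|c))<|
 d (b 86453009<|b 16 (a 22<|a 2<|a 6<|c))<|
 d (b 86453016<|b 15 (a 15<|c))<|
 e))));
 (let e:=(let e:=(let e:=(d (b 85994264<|b 11 (a 2<|a 6<|c))<|
 d (b 86442003<|b 12 (a 15<|c))<|
 d (b 86442012<|b 17 (a 22<|a 4<|c))<|
 d (b 86443025<|b 10 (a 2<|a 21<|c))<|
 d (b 86443032<|b 16 (a 3<|a 2<|a 21<|c))<|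
 e);
 (d (b 85986072<|b 15 (a 21<|a 15<|c))<|
 d (b 85991955<|b 8 (a 6<|a 5<|c))<|
 d (b 85991971<|b 9 (a 5<|c))<|
 d (b 85994250<|b 15 (a 22<|a 12<|c))<|
 e));
 (let e:=(d (b 85600519<|b 12 (a 2<|c))<|
 d (b 85600540<|b 13 (a 2<|c))<|
 d (b 85983251<|b 13 (a 2<|a 21<|c))<|
 d (b 85983267<|b 18 (a 12<|c))<|
 d (b 85986058<|b 11 (a 2<|a 21<|c))<|
 e);
 (d (b 85593607<|b 13 (a 23<|a 2<|c))<|
 d (b 85593628<|b 12 (a 23<|a 2<|c))<|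
 d (b 85597969<|b 10 (a 2<|c))<|
 d (b 85597990<|b 11 (a 2<|c))<|
 e)));
 (let e:=(let e:=(d (b 84937510<|b 15 (a 16<|c))<|
 d (b 84938268<|b 7 (a 5<|c))<|
 d (b 84938275<|b 8 (a 5<|c))<|
 d (b 85591057<|b 14 (a 2<|c))<|
 d (b 85591078<|b 15 (a 2<|c))<|
 e);
 (d (b 84934691<|b 17 (a 2<|a 6<|c))<|
 d (b 84935704<|b 10 (a 2<|a 6<|c))<|
 d (b 84935718<|b 16 (a 2<|a 21<|c))<|
 d (b 84937496<|b 16 (a 2<|a 6<|c))<|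
 e));
 (let e:=(d (b 84090634<|b 16 (a 2<|c))<|
 d (b 84090662<|b 15 (a 8<|a 15<|c))<|
 d (b 84091399<|b 17 (a 2<|c))<|
 d (b 84091427<|b 18 (a 2<|c))<|
 d (b 84934684<|b 12 (a 2<|a 6<|c))<|
 e);
 (d (b 84085514<|b 15 (a 2<|a 21<|c))<|
 d (b 84085542<|b 19 (a 2<|c))<|
 d (b 84086279<|b 12 (a 2<|a 21<|c))<|
 d (b 84086307<|b 17 (a 18<|c))<|
 e))))));
 (let e:=(let e:=(let e:=(let e:=(let e:=(d (b 70066708<|b 10 (a 3<|a 20<|c))<|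
 d (b 70067713<|b 15 (a 15<|a 5<|c))<|
 d (b 70067732<|b 16 (a 17<|a 12<|c))<|
 d (b 70069258<|b 12 (a 13<|a 21<|a 7<|a 0<|c))<|
 d (b 70069262<|b 7 (a 22<|a 11<|c))<|
 e);
 (d (b 69741582<|b 3 (a 6<|a 7<|c))<|
 d (b 70064394<|b 17 (a 17<|a 12<|c))<|
 d (b 70064398<|b 8 (a 8<|a 19<|c))<|
 d (b 70066689<|b 16 (a 14<|a 15<|c))<|
 e));
 (let e:=(d (b 69736468<|b 20 (a 23<|c))<|
 d (b 69736477<|b 10 (a 12<|a 7<|c))<|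
 d (b 69740052<|b 10 (a 17<|a 12<|c))<|
 d (b 69740061<|b 16 (a 18<|a 12<|a 1<|c))<|
 d (b 69741568<|b 7 (a 7<|a 20<|c))<|
 e);
 (d (b 69544960<|b 12 (a 2<|a 0<|a 8<|c))<|
 d (b 69544970<|b 13 (a 9<|a 7<|c))<|
 d (b 69731584<|b 12 (a 17<|a 12<|c))<|
 d (b 69731598<|b 7 (a 11<|c))<|
 e)));
 (let e:=(let e:=(d (b 69536010<|b 12 (a 5<|a 19<|c))<|
 d (b 69539860<|b 10 (a 7<|c))<|
 d (b 69539873<|b 11 (a 7<|c))<|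
 d (b 69542420<|b 14 (a 5<|c))<|
 d (b 69542433<|b 15 (a 5<|c))<|
 e);
 (d (b 68096289<|b 16 (a 12<|a 1<|c))<|
 d (b 68098077<|b 20 c)<|
 d (b 68098081<|b 10 (a 18<|a 7<|c))<|
 d (b 69536000<|b 13 (a 0<|a 13<|c))<|
 e));
 (let e:=(d (b 68093184<|b 7 (a 6<|a 19<|c))<|
 d (b 68093225<|b 12 (a 21<|a 7<|a 0<|c))<|
 d (b 68094208<|b 3 (a 15<|a 4<|c))<|
 d (b 68094249<|b 7 (a 18<|a 11<|c))<|
 d (b 68096285<|b 10 (a 15<|a 9<|c))<|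
 e);
 (d (b 67508490<|b 8 (a 19<|c))<|
 d (b 67508521<|b 17 (a 9<|a 19<|c))<|
 d (b 67510785<|b 10 (a 22<|a 9<|c))<|
 d (b 67510817<|b 16 (a 20<|c))<|
 e))));
 (let e:=(let e:=(let e:=(d (b 67249693<|b 10 (a 20<|c))<|
 d (b 67504394<|b 7 (a 19<|a 1<|c))<|
 d (b 67504425<|b 12 (a 8<|a 17<|a 12<|c))<|
 d (b 67506433<|b 16 (a 7<|c))<|
 d (b 67506465<|b 15 (a 16<|a 5<|c))<|
 e);
 (d (b 67244317<|b 14 (a 20<|c))<|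
 d (b 67246350<|b 4 (a 19<|c))<|
 d (b 67246377<|b 8 (a 12<|a 19<|c))<|
 d (b 67249665<|b 14 (a 9<|c))<|
 e));
 (let e:=(d (b 19737354<|b 15 (a 13<|a 18<|c))<|
 d (b 19737358<|b 16 (a 23<|c))<|
 d (b 67241230<|b 3 (a 11<|c))<|
 d (b 67241257<|b 13 (a 0<|a 16<|c))<|
 d (b 67244289<|b 10 (a 9<|c))<|
 e);
 (d (b 19735044<|b 17 (a 22<|c))<|
 d (b 19735059<|b 12 (a 3<|a 22<|c))<|
 d (b 19736068<|b 18 (a 23<|c))<|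
 d (b 19736083<|b 17 (a 23<|c))<|
 e)));
 (let e:=(let e:=(d (b 19146271<|b 17 (a 22<|a 3<|c))<|
 d (b 19147534<|b 10 (a 22<|c))<|
 d (b 19147544<|b 16 (a 3<|a 22<|c))<|
 d (b 19733514<|b 19 (a 23<|c))<|
 d (b 19733518<|b 15 (a 3<|c))<|
 e);
 (d (b 19136543<|b 8 (a 1<|a 7<|c))<|
 d (b 19138318<|b 16 (a 22<|a 3<|c))<|
 d (b 19138328<|b 15 (a 12<|a 15<|c))<|
 d (b 19146259<|b 12 (a 22<|a 3<|c))<|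
 e));
 (let e:=(d (b 18883091<|b 13 (a 22<|c))<|
 d (b 18883107<|b 18 (a 22<|c))<|
 d (b 18885386<|b 11 (a 22<|c))<|
 d (b 18885400<|b 15 (a 19<|a 9<|c))<|
 d (b 19136531<|b 7 (a 1<|a 7<|c))<|
 e);
 (d (b 18874387<|b 8 (a 12<|a 9<|c))<|
 d (b 18874403<|b 9 (a 1<|c))<|
 d (b 18877194<|b 15 (a 5<|a 19<|c))<|
 d (b 18877208<|b 11 (a 3<|c))<|
 e)))));
 (let e:=(let e:=(let e:=(let e:=(d (b 17958697<|b 15 (a 18<|a 16<|c))<|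
 d (b 17959704<|b 10 (a 3<|c))<|
 d (b 17959721<|b 16 (a 22<|c))<|
 d (b 17961247<|b 12 (a 3<|c))<|
 d (b 17961251<|b 17 (a 3<|c))<|
 e);
 (d (b 17179171<|b 17 (a 3<|a 22<|c))<|
 d (b 17956895<|b 7 (a 8<|a 5<|c))<|
 d (b 17956899<|b 8 (a 8<|a 5<|c))<|
 d (b 17958680<|b 16 (a 3<|c))<|
 e));
 (let e:=(d (b 17174788<|b 17 c)<|
 d (b 17174819<|b 18 c)<|
 d (b 17177610<|b 15 (a 22<|c))<|
 d (b 17177641<|b 19 c)<|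
 d (b 17179140<|b 12 (a 22<|c))<|
 e);
 (d (b 16918020<|b 13 (a 23<|c))<|
 d (b 16918047<|b 12 (a 23<|c))<|
 d (b 17173258<|b 16 c)<|
 d (b 17173289<|b 15 (a 13<|a 12<|c))<|
 e)));
 (let e:=(let e:=(d (b 16910121<|b 11 c)<|
 d (b 16912644<|b 12 c)<|
 d (b 16912671<|b 13 c)<|
 d (b 16915470<|b 14 c)<|
 d (b 16915497<|b 15 c)<|
 e);
 (d (b 2761497<|b 8 (a 23<|c))<|
 d (b 2763783<|b 6 (a 23<|c))<|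
 d (b 2763787<|b 5 (a 6<|c))<|
 d (b 16910094<|b 10 c)<|
 e));
 (let e:=(d (b 2752775<|b 5 (a 23<|c))<|
 d (b 2752779<|b 1 (a 3<|c))<|
 d (b 2760468<|b 3 (a 21<|c))<|
 d (b 2760473<|b 7 (a 22<|c))<|
 d (b 2761492<|b 7 (a 23<|c))<|
 e);
 (d (b 2630420<|b 3 (a 6<|c))<|
 d (b 2630429<|b 7 (a 14<|c))<|
 d (b 2632708<|b 5 (a 10<|c))<|
 d (b 2632715<|b 1 (a 6<|c))<|
 e))));
 (let e:=(let e:=(let e:=(d (b 2436103<|b 2 (a 6<|c))<|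
 d (b 2622724<|b 6 (a 14<|c))<|
 d (b 2622731<|b 5 (a 14<|c))<|
 d (b 2628628<|b 7 (a 10<|c))<|
 d (b 2628637<|b 8 (a 14<|c))<|
 e);
 (d (b 2432033<|b 9 c)<|
 d (b 2432788<|b 4 (a 6<|c))<|
 d (b 2432801<|b 8 (a 22<|c))<|
 d (b 2436100<|b 6 (a 6<|c))<|
 e));
 (let e:=(d (b 990237<|b 7 (a 2<|c))<|
 d (b 990241<|b 8 (a 2<|c))<|
 d (b 2427140<|b 2 (a 3<|c))<|
 d (b 2427143<|b 6 (a 22<|c))<|
 d (b 2432020<|b 8 (a 6<|c))<|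
 e);
 (d (b 985348<|b 1 (a 21<|c))<|
 d (b 985387<|b 5 (a 2<|c))<|
 d (b 987933<|b 3 (a 3<|c))<|
 d (b 987937<|b 7 (a 3<|c))<|
 e)));
 (let e:=(let e:=(d (b 791329<|b 8 c)<|
 d (b 794393<|b 3 (a 22<|c))<|
 d (b 794401<|b 7 (a 17<|c))<|
 d (b 984324<|b 5 (a 21<|c))<|
 d (b 984363<|b 6 (a 2<|c))<|
 e);
 (d (b 786731<|b 5 c)<|
 d (b 788743<|b 5 (a 17<|c))<|
 d (b 788779<|b 6 c)<|
 d (b 791321<|b 7 c)<|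
 e));
 (let e:=(d (b 529177<|b 3 c)<|
 d (b 529181<|b 4 c)<|
 d (b 533273<|b 4 (a 23<|c))<|
 d (b 533277<|b 3 (a 23<|c))<|
 d (b 786695<|b 1 (a 22<|c))<|
 e);
 (a (b 524555<|b 0 c)<|
 a (b 524587<|b 1 c)<|
 a (b 525579<|b 1 (a 17<|c))<|
 a (b 525611<|b 2 c)<|
 e))))))))))
  q₁ := 6
  k₁ := 9
  ev := true
  lg := (2, [1, 0, 0, 0], 2)

/-- inverted roots -/
def ivF4_0 : List (ℕ × List ℕ × ℕ) := (beta% delta% lq2655aec6b6 fun a b c _ _ _ _ _ _ _ _ _ _ _ =>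
 (a (b 0<|b c 0)<|a (b 2<|b (a 1<|a 0<|a 0<|a 0<|c) 23)<|a (b 2<|b (a 0<|a 1<|a 0<|a 0<|c) 2)<|a (b 0<|b c 0)<|a (b 2<|b (a 0<|a 1<|a 0<|a 0<|c) 17)<|a (b 0<|b c 0)<|a (b 2<|b (a 0<|a 1<|a 0<|a 0<|c) 17)<|a (b 0<|b c 0)<|a (b 2<|b (a 0<|a 1<|a 0<|a 0<|c) 3)<|a (b 2<|b (a 0<|a 1<|a 0<|a 0<|c) 2)<|a (b 0<|b c 0)<|a (b 2<|b (a 1<|a 0<|a 0<|a 0<|c) 12)<|a (b 0<|b c 0)<|a (b 2<|b (a 1<|a 0<|a 0<|a 0<|c) 18)<|a (b 0<|b c 0)<|a (b 2<|b (a 1<|a 0<|a 0<|a 0<|c) 23)<|a (b 0<|b c 0)<|a (b 2<|b (a 1<|a 1<|a 0<|a 0<|c) 7)<|a (b 2<|b (a 1<|a 1<|a 0<|a 0<|c) 3)<|a (b 0<|b c 0)<|a (b 0<|b c 0)<|a (b 2<|b (a 0<|a 1<|a 1<|a 0<|c) 5)<|a (b 2<|b (a 1<|a 0<|a 0<|a 1<|c) 1)<|a (b 0<|b c 0)<|a (b 0<|b c 0)<|c))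

/-- the certificates -/
def ceF4_0 : List (List (ℕ × Ce)) := (beta% delta% lq2655aec6b6 fun a b c _ f g h _ j k _ m n o =>
 (a (a (b 2 (f 14218 c 1 (a (a 1<|c)<|a (a 0<|a 1<|c)<|a (a 0<|a 0<|a 1<|c)<|a (a 0<|a 0<|a 0<|a 1<|c)<|c) (m (m (n (a 13<|a 20<|a 4<|a 0<|c) 0 (b 8 2048))))))<|
 a (b 4 (f 588410224 c 81 (a (a 1<|c)<|a (a 0<|a 1<|c)<|a (a 0<|a 0<|a 1<|c)<|a (a 0<|a 0<|a 0<|a 1<|c)<|c) (m (g (o (a 22<|a 3<|c) j 3 3 8 (a (k 0 1 1 3 3 (a 1<|a 0<|a 0<|a 0<|c))<|a (k 1 1 1 3 3 (a 0<|a 1<|a 0<|a 0<|c))<|a (k 2 1 3 3 3 (a 1<|a 0<|a 0<|a 0<|c))<|a (k 3 3 0 0 0 c)<|a (k 4 1 1 3 3 (a 1<|a 0<|a 0<|a 0<|c))<|a (k 5 1 3 3 3 (a 1<|a 0<|a 0<|a 0<|c))<|a (k 7 1 3 3 3 (a 1<|a 0<|a 0<|a 0<|c))<|a (k 8 1 3 3 3 (a 1<|a 0<|a 0<|a 0<|c))<|a (k 10 1 3 3 3 (a 1<|a 0<|a 0<|a 0<|c))<|a (k 13 1 3 3 3 (a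 1<|a 0<|a 0<|a 0<|c))<|a (k 15 1 3 3 3 (a 1<|a 0<|a 0<|a 0<|c))<|a (k 17 1 3 3 3 (a 1<|a 0<|a 0<|a 0<|c))<|a (k 18 1 3 3 3 (a 1<|a 0<|a 0<|a 0<|c))<|a (k 19 1 3 3 3 (a 1<|a 0<|a 0<|a 0<|c))<|a (k 20 1 3 3 3 (a 1<|a 0<|a 0<|a 0<|c))<|a (k 21 1 3 3 3 (a 1<|a 0<|a 0<|a 0<|c))<|a (k 23 3 0 0 0 c)<|a (k 24 1 1 3 3 (a 1<|a 0<|a 0<|a 0<|c))<|a (k 25 1 1 3 3 (a 0<|a 1<|a 0<|a 0<|c))<|a (k 28 1 1 3 3 (a 1<|a 0<|a 0<|a 0<|c))<|c))))))<|c)<|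
 a c<|
 a c<|
 a (a (b 2 (f 8314 c 5 (a (a 1<|c)<|a (a 1<|a 1<|c)<|a (a 2<|a 4<|a 1<|c)<|a (a (-2)<|a (-4)<|a (-1)<|a 3<|c)<|c) (g (h 5 (a 0<|a 2<|a 1<|a 1<|c) (a 0<|a 2<|a 1<|a 1<|c) (a 0<|a 0<|a 0<|a 0<|c) c 2 0 c))))<|
 a (b 4 (f 476004882 c 153 (a (a 1<|c)<|a (a 1<|a 3<|c)<|a (a (-2)<|a (-4)<|a 1<|c)<|a (a (-2)<|a (-4)<|a 1<|a 15<|c)<|c) (g (h 17 (a 0<|a 9<|a 16<|a 11<|c) (a 0<|a 9<|a 16<|a 11<|c) (a 0<|a 0<|a 0<|a 0<|c) c 0 0 c))))<|c)<|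
 a c<|
 a (a (b 2 (f 7432 c 7 (a (a 1<|c)<|a (a 0<|a 1<|c)<|a (a 0<|a 0<|a 1<|c)<|a (a (-2)<|a (-4)<|a (-3)<|a 1<|c)<|c) (g (h 7 (a 0<|a 0<|a 1<|a 1<|c) (a 0<|a 0<|a 1<|a 1<|c) (a 0<|a 0<|a 0<|a 0<|c) c 0 0 c))))<|
 a (b 4 (f 443630383 c 189 (a (a 1<|c)<|a (a 0<|a 1<|c)<|a (a 0<|a 0<|a 1<|c)<|a (a (-2)<|a (-4)<|a (-3)<|a 3<|c)<|c) (g (h 21 (a 7<|a 7<|a 6<|a 18<|c) (a 7<|a 7<|a 6<|a 18<|c) (a 0<|a 0<|a 0<|a 0<|c) c 0 0 c))))<|c)<|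
 a c<|
 a (a (b 2 (f 6835 c 9 (a (a 1<|c)<|a (a 1<|a 1<|c)<|a (a 2<|a 4<|a 1<|c)<|a (a (-2)<|a (-4)<|a (-1)<|a 3<|c)<|c) (g (h 9 (a 0<|a 5<|a 7<|a 8<|c) (a 0<|a 5<|a 7<|a 8<|c) (a 0<|a 0<|a 0<|a 0<|c) c 0 0 c))))<|
 a (b 4 (f 439032846 c 195 (a (a 1<|c)<|a (a 1<|a 3<|c)<|a (a (-2)<|a (-4)<|a 1<|c)<|a (a (-2)<|a (-4)<|a 1<|a 15<|c)<|c) (g (h 65 (a 0<|a 61<|a 56<|a 14<|c) (a 0<|a 61<|a 56<|a 14<|c) (a 0<|a 0<|a 0<|a 0<|c) c 0 0 c))))<|c)<|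
 a c<|
 a c<|
 a (a (b 2 (f 6835 c 9 (a (a 1<|c)<|a (a 1<|a 2<|c)<|a (a (-4)<|a (-6)<|a 1<|c)<|a (a 8<|a 12<|a 7<|a 9<|c)<|c) (g (h 9 (a 4<|a 8<|a 4<|a 1<|c) (a 4<|a 8<|a 4<|a 1<|c) (a 0<|a 0<|a 0<|a 0<|c) c 0 0 c))))<|
 a (b 4 (f 439032846 c 195 (a (a 1<|c)<|a (a 1<|a 4<|c)<|a (a (-8)<|a (-10)<|a 11<|c)<|a (a 32<|a 40<|a 21<|a 65<|c)<|c) (g (h 65 (a 53<|a 17<|a 63<|a 46<|c) (a 53<|a 17<|a 63<|a 46<|c) (a 0<|a 0<|a 0<|a 0<|c) c 0 0 c))))<|c)<|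
 a c<|
 a (a (b 2 (f 5529 c 17 (a (a 1<|c)<|a (a 1<|a 2<|c)<|a (a 4<|a 10<|a 1<|c)<|a (a 14<|a 20<|a 11<|a 15<|c)<|c) (g (h 17 (a 16<|a 15<|a 8<|a 2<|c) (a 16<|a 15<|a 8<|a 2<|c) (a 0<|a 0<|a 0<|a 0<|c) c 0 0 c))))<|
 a (b 4 (f 400433905 c 257 (a (a 1<|c)<|a (a 1<|a 4<|c)<|a (a (-8)<|a (-18)<|a 7<|c)<|a (a 42<|a 52<|a 27<|a 85<|c)<|c) (g (h 257 (a 18<|a 72<|a 65<|a 253<|c) (a 18<|a 72<|a 65<|a 253<|c) (a 0<|a 0<|a 0<|a 0<|c) c 0 0 c))))<|c)<|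
 a c<|
 a (a (b 2 (f 7432 c 7 (a (a 1<|c)<|a (a (-1)<|a 2<|c)<|a (a 4<|a 6<|a 7<|c)<|a (a 0<|a 0<|a 0<|a 1<|c)<|c) (g (h 7 (a 4<|a 1<|a 3<|a 0<|c) (a 4<|a 1<|a 3<|a 0<|c) (a 0<|a 0<|a 0<|a 0<|c) c 0 0 c))))<|
 a (b 4 (f 443630383 c 189 (a (a 1<|c)<|a (a (-1)<|a 4<|c)<|a (a 8<|a 10<|a 21<|c)<|a (a 0<|a 0<|a 0<|a 1<|c)<|c) (g (h 7 (a 5<|a 6<|a 5<|a 0<|c) (a 5<|a 6<|a 5<|a 0<|c) (a 0<|a 0<|a 0<|a 0<|c) c 0 0 c))))<|c)<|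
 a c<|
 a (a (b 2 (f 6046 c 13 (a (a 1<|c)<|a (a 1<|a 2<|c)<|a (a (-4)<|a (-6)<|a 1<|c)<|a (a 8<|a 12<|a 7<|a 9<|c)<|c) (g (h 13 (a 7<|a 1<|a 8<|a 12<|c) (a 7<|a 1<|a 8<|a 12<|c) (a 0<|a 0<|a 0<|a 0<|c) c 0 0 c))))<|
 a (b 4 (f 409106333 c 241 (a (a 1<|c)<|a (a 1<|a 4<|c)<|a (a (-8)<|a (-10)<|a 11<|c)<|a (a 32<|a 40<|a 21<|a 65<|c)<|c) (g (h 241 (a 141<|a 82<|a 43<|a 62<|c) (a 141<|a 82<|a 43<|a 62<|c) (a 0<|a 0<|a 0<|a 0<|c) c 0 0 c))))<|c)<|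
 a c<|
 a c<|
 a (a (b 2 (f 3885 c 49 (a (a 1<|c)<|a (a (-1)<|a 2<|c)<|a (a 4<|a 6<|a 7<|c)<|a (a (-2)<|a (-4)<|a (-3)<|a 1<|c)<|c) (g (h 7 (a 5<|a 3<|a 1<|a 6<|c) (a 5<|a 3<|a 1<|a 6<|c) (a 0<|a 0<|a 0<|a 0<|c) c 2 0 c))))<|
 a (b 4 (f 334473992 c 441 (a (a 1<|c)<|a (a (-1)<|a 4<|c)<|a (a 8<|a 10<|a 21<|c)<|a (a (-2)<|a (-4)<|a (-3)<|a 3<|c)<|c) (g (h 7 (a 3<|a 5<|a 6<|a 2<|c) (a 3<|a 5<|a 6<|a 2<|c) (a 0<|a 0<|a 0<|a 0<|c) c 0 0 c))))<|c)<|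
 a (a (b 2 (f 6835 c 9 (a (a 1<|c)<|a (a (-1)<|a 1<|c)<|a (a 2<|a (-2)<|a 3<|a 1<|c)<|a (a (-2)<|a (-4)<|a (-3)<|a 3<|c)<|c) (m (m (n (a 13<|a 6<|a 7<|a 0<|c) 0 (b 12 1152))))))<|
 a (b 4 (f 460482343 c 169 (a (a 1<|c)<|a (a (-1)<|a 3<|c)<|a (a 6<|a 8<|a 13<|c)<|a (a (-2)<|a (-4)<|a (-3)<|a 2<|c)<|c) (g (h 13 (a 6<|a 5<|a 10<|a 11<|c) (a 6<|a 5<|a 10<|a 11<|c) (a 0<|a 0<|a 0<|a 0<|c) c 0 0 c))))<|c)<|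
 a c<|
 a c<|
 a (a (b 2 (f 4862 c 25 (a (a 1<|c)<|a (a 0<|a 1<|c)<|a (a (-2)<|a (-8)<|a 1<|c)<|a (a 2<|a 2<|a 2<|a 3<|c)<|c) (g (h 5 (a 4<|a 0<|a 4<|a 1<|c) (a 4<|a 0<|a 4<|a 1<|c) (a 0<|a 0<|a 0<|a 0<|c) c 2 0 c))))<|
 a (b 4 (f 385072587 c 289 (a (a 1<|c)<|a (a 0<|a 1<|c)<|a (a (-6)<|a (-16)<|a 9<|c)<|a (a 2<|a 2<|a 2<|a 5<|c)<|c) (g (h 17 (a 13<|a 14<|a 11<|a 14<|c) (a 13<|a 14<|a 11<|a 14<|c) (a 0<|a 0<|a 0<|a 0<|c) c 0 0 c))))<|c)<|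
 a (a (b 2 (f 3286 c 81 (a (a 1<|c)<|a (a 0<|a 1<|c)<|a (a 0<|a 0<|a 1<|c)<|a (a 0<|a 0<|a 0<|a 1<|c)<|c) (m (m (n (a 13<|a 20<|a 4<|a 0<|c) 0 (b 8 2048))))))<|
 a (b 4 (f 297770642 c 625 (a (a 1<|c)<|a (a 0<|a 1<|c)<|a (a 0<|a 0<|a 1<|c)<|a (a 0<|a 0<|a 0<|a 1<|c)<|c) (g (h 5 (a 2<|a 2<|a 2<|a 2<|c) (a 2<|a 2<|a 2<|a 2<|c) (a 0<|a 0<|a 0<|a 0<|c) c 0 0 c))))<|c)<|c))

theorem svsF4_0 : tbF4.svs 4 svF4_0 = true := by decide +kernel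

theorem svdF4_0 : tbF4.svd svF4_0 = true :=
  svd_of_KF tbF4 svF4_0 24 45 0x4500420000003f00000000003c00000000003900360033000000300000002d002a00000000002700240000000000000021001e0000001b0000000000180000000000150012000f0000000c00000009000600000000000300000 (by decide +kernel)

theorem svcF4_0 : aL (tbF4.svc 4 svF4_0 ivF4_0 ceF4_0) 25 = true := by decide +kernel

theorem goodF4_0 {M : CoxeterMatrix (Fin 4)} (hp : IsType chevF4 4 M) : Good hp tbF4 0 :=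
  (gsF4 hp).good_sv (fun _ => rfl) svsF4_0 svdF4_0 (aL_iff.1 svcF4_0)

/-- A2~A2 -/
def svF4_22 : Sv where
  m := 211106698100763
  Δ := [0, 1, 3, 22]
  dm := [4, 14, 16, 20, 21, 23]
  s := 12
  sq := [(0, true), (16, false), (1, true), (3, true)]
  co := (beta% delta% lq2655aec6b6 fun a _ c _ _ _ _ _ _ _ _ _ _ _ =>
 (a (a 1<|a 0<|a 0<|a 0<|c)<|a (a 0<|a 0<|a 1<|a 0<|c)<|a (a (-2)<|a 1<|a (-2)<|a (-1)<|c)<|a (a 0<|a 0<|a 0<|a 1<|c)<|c))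
  ω := 2
  cl := [(false, []), (false, [13, 5, 4, 0])]
  lf := [(1048835, 0, []),
    (18153494, 1, [])]
  q₁ := 8
  k₁ := 6
  ev := false
  lg := (0, [], 0)

/-- inverted roots -/
def ivF4_22 : List (ℕ × List ℕ × ℕ) := []

/-- the certificates -/
def ceF4_22 : List (List (ℕ × Ce)) := (beta% delta% lq2655aec6b6 fun a b c _ f g h _ _ _ _ _ _ _ =>
 (a (a (b 2 (f 1708 (a 22<|a 23<|a 0<|c) 0 c (g (h 21 (a 7<|a 7<|a 12<|a 15<|c) (a 7<|a 7<|a 12<|a 15<|c) (a 0<|a 0<|a 0<|a 0<|c) c 0 0 c))))<|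
 a (b 3 (f 276219 (a 22<|a 1<|a 23<|a 23<|a 1<|c) 0 c (g (h 8 (a 0<|a 0<|a 7<|a 5<|c) (a 0<|a 0<|a 7<|a 5<|c) (a 0<|a 0<|a 0<|a 0<|c) c 0 0 c))))<|
 a (b 4 (f 9677935 (a 0<|a 3<|a 22<|a 1<|a 0<|c) 0 c (g (h 15 (a 6<|a 6<|a 13<|a 0<|c) (a 6<|a 6<|a 13<|a 0<|c) (a 0<|a 0<|a 0<|a 0<|c) c 0 0 c))))<|
 a (b 5 (f 149900299 (a 3<|a 23<|c) 0 c (g (h 124 (a 93<|a 31<|a 66<|a 16<|c) (a 93<|a 31<|a 66<|a 16<|c) (a 0<|a 0<|a 0<|a 0<|c) c 0 0 c))))<|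
 a (b 7 (f 9131126284 (a 0<|a 0<|c) 0 c (g (h 6 (a 4<|a 4<|a 3<|a 5<|c) (a 4<|a 4<|a 3<|a 5<|c) (a 0<|a 0<|a 0<|a 0<|c) c 0 0 c))))<|c)<|
 a (a (b 2 (f 1708 (a 4<|a 3<|a 4<|a 3<|a 1<|c) 0 c (g (h 9 (a 6<|a 6<|a 1<|a 3<|c) (a 6<|a 6<|a 1<|a 3<|c) (a 0<|a 0<|a 0<|a 0<|c) c 0 0 c))))<|
 a (b 3 (f 276219 (a 3<|a 4<|c) 0 c (g (h 28 (a 21<|a 7<|a 2<|a 20<|c) (a 21<|a 7<|a 2<|a 20<|c) (a 0<|a 0<|a 0<|a 0<|c) c 0 0 c))))<|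
 a (b 4 (f 9677935 (a 3<|c) 0 c (g (h 195 (a 91<|a 169<|a 34<|a 90<|c) (a 91<|a 169<|a 34<|a 90<|c) (a 0<|a 0<|a 0<|a 0<|c) c 0 0 c))))<|
 a (b 5 (f 149900299 (a 1<|a 3<|a 1<|c) 0 c (g (h 12 (a 3<|a 3<|a 10<|a 0<|c) (a 3<|a 3<|a 10<|a 0<|c) (a 0<|a 0<|a 0<|a 0<|c) c 0 0 c))))<|
 a (b 7 (f 9131126284 (a 23<|a 4<|a 23<|a 22<|a 0<|a 3<|c) 0 c (g (h 16 (a 0<|a 0<|a 7<|a 8<|c) (a 0<|a 0<|a 7<|a 8<|c) (a 0<|a 0<|a 0<|a 0<|c) c 0 0 c))))<|c)<|c))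

theorem svsF4_22 : tbF4.svs 4 svF4_22 = true := by decide +kernel

theorem svdF4_22 : tbF4.svd svF4_22 = true := by decide +kernel

theorem svcF4_22 : aL (tbF4.svc 4 svF4_22 ivF4_22 ceF4_22) 2 = true := by decide +kernel

theorem goodF4_22 {M : CoxeterMatrix (Fin 4)} (hp : IsType chevF4 4 M) : Good hp tbF4 211106698100763 :=
  (gsF4 hp).good_sv (fun _ => rfl) svsF4_22 svdF4_22 (aL_iff.1 svcF4_22)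

/-- B2B2 -/
def svF4_27 : Sv where
  m := 143370395739397
  Δ := [0, 2, 8, 14]
  dm := [10, 13, 17, 20, 22, 23]
  s := 16
  sq := (beta% delta% lq2655aec6b6 fun a b c _ _ _ _ _ j _ l _ _ _ =>
 (a (b 0 l)<|a (b 8 l)<|a (b 20 j)<|a (b 2 l)<|a (b 14 l)<|c))
  co := (beta% delta% lq2655aec6b6 fun a _ c _ _ _ _ _ _ _ _ _ _ _ =>
 (a (a 1<|a 0<|a 0<|a 0<|a 0<|c)<|a (a 1<|a 1<|a (-1)<|a 0<|a 1<|c)<|a (a (-2)<|a (-1)<|a 2<|a 0<|a (-2)<|c)<|a (a (-1)<|a (-1)<|a 0<|a 0<|a 1<|c)<|c))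
  ω := 2
  cl := [(false, []), (false, [6, 12])]
  lf := [(135528974, 0, []),
    (60164409344, 1, [])]
  q₁ := 8
  k₁ := 6
  ev := true
  lg := (2, [0, 1, 0, 0], 3)

/-- inverted roots -/
def ivF4_27 : List (ℕ × List ℕ × ℕ) := []

/-- the certificates -/
def ceF4_27 : List (List (ℕ × Ce)) := (beta% delta% lq2655aec6b6 fun a b c _ f g h _ _ _ _ _ _ _ =>
 (a (a (b 2 (f 678 (a 2<|a 14<|a 14<|a 17<|a 10<|c) 0 c (g (h 15 (a 0<|a 8<|a 9<|a 14<|c) (a 0<|a 8<|a 9<|a 14<|c) (a 0<|a 0<|a 0<|a 0<|c) c 0 0 c))))<|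
 a (b 4 (f 1524179 (a 10<|a 2<|a 0<|a 23<|a 23<|a 0<|c) 0 c (g (h 15 (a 10<|a 4<|a 6<|a 8<|c) (a 10<|a 4<|a 6<|a 8<|c) (a 0<|a 0<|a 0<|a 0<|c) c 0 0 c))))<|c)<|
 a (a (b 2 (f 678 (a 17<|a 13<|a 2<|c) 0 c (g (h 15 (a 5<|a 1<|a 2<|a 9<|c) (a 5<|a 1<|a 2<|a 9<|c) (a 0<|a 0<|a 0<|a 0<|c) c 0 0 c))))<|
 a (b 4 (f 1524179 (a 23<|a 0<|a 14<|a 14<|a 23<|c) 0 c (g (h 85 (a 15<|a 14<|a 76<|a 26<|c) (a 15<|a 14<|a 76<|a 26<|c) (a 0<|a 0<|a 0<|a 0<|c) c 0 0 c))))<|c)<|c))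

theorem svsF4_27 : tbF4.svs 4 svF4_27 = true := by decide +kernel

theorem svdF4_27 : tbF4.svd svF4_27 = true := by decide +kernel

theorem svcF4_27 : aL (tbF4.svc 4 svF4_27 ivF4_27 ceF4_27) 2 = true := by decide +kernel

theorem goodF4_27 {M : CoxeterMatrix (Fin 4)} (hp : IsType chevF4 4 M) : Good hp tbF4 143370395739397 :=
  (gsF4 hp).good_sv (fun _ => rfl) svsF4_27 svdF4_27 (aL_iff.1 svcF4_27)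

/-- C3A1 -/
def svF4_30 : Sv where
  m := 140899480774071
  Δ := [0, 1, 2, 23]
  dm := [10, 13, 20, 22, 23]
  s := 20
  sq := (beta% delta% lq2655aec6b6 fun a b c _ _ _ _ _ j _ l _ _ _ =>
 (a (b 0 l)<|a (b 13 j)<|a (b 1 l)<|a (b 2 l)<|a (b 23 l)<|a (b 20 j)<|c))
  co := (beta% delta% lq2655aec6b6 fun a _ c _ _ _ _ _ _ _ _ _ _ _ =>
 (a (a 1<|a 0<|a 0<|a 0<|a 0<|a 0<|c)<|a (a 0<|a 0<|a 1<|a 0<|a 0<|a 0<|c)<|a (a (-2)<|a 1<|a (-2)<|a 0<|a 0<|a 0<|c)<|a (a 2<|a (-2)<|a 1<|a 0<|a 0<|a 1<|c)<|c))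
  ω := 1
  cl := [(false, [])]
  lf := [(55851489044, 0, [])]
  q₁ := 10
  k₁ := 5
  ev := false
  lg := (0, [], 0)

/-- inverted roots -/
def ivF4_30 : List (ℕ × List ℕ × ℕ) := []

/-- the certificates -/
def ceF4_30 : List (List (ℕ × Ce)) := (beta% delta% lq2655aec6b6 fun a b c _ f g h _ _ _ _ _ _ _ =>
 (a (a (b 2 (f 339 (a 2<|a 2<|a 23<|a 10<|a 1<|c) 0 c (g (h 21 (a 18<|a 12<|a 15<|a 2<|c) (a 18<|a 12<|a 15<|a 2<|c) (a 0<|a 0<|a 0<|a 0<|c) c 0 0 c))))<|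
 a (b 3 (f 18589 (a 5<|a 4<|a 7<|a 10<|c) 0 c (g (h 26 (a 16<|a 14<|a 14<|a 13<|c) (a 16<|a 14<|a 14<|a 13<|c) (a 0<|a 0<|a 0<|a 0<|c) c 0 0 c))))<|
 a (b 4 (f 302435 (a 0<|a 1<|c) 0 c (g (h 63 (a 39<|a 30<|a 25<|a 0<|c) (a 39<|a 30<|a 25<|a 0<|c) (a 0<|a 0<|a 0<|a 0<|c) c 0 0 c))))<|
 a (b 5 (f 2583603 (a 13<|a 5<|a 5<|a 5<|a 5<|a 23<|c) 0 c (g (h 12 (a 5<|a 9<|a 0<|a 9<|c) (a 5<|a 9<|a 0<|a 9<|c) (a 0<|a 0<|a 0<|a 0<|c) c 0 0 c))))<|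
 a (b 7 (f 64161263 (a 7<|a 1<|a 13<|c) 0 c (g (h 129 (a 48<|a 87<|a 72<|a 100<|c) (a 48<|a 87<|a 72<|a 100<|c) (a 0<|a 0<|a 0<|a 0<|c) c 0 0 c))))<|
 a (b 8 (f 228221284 (a 23<|a 5<|a 8<|a 2<|a 23<|c) 0 c (g (h 63 (a 10<|a 7<|a 2<|a 9<|c) (a 10<|a 7<|a 2<|a 9<|c) (a 0<|a 0<|a 0<|a 0<|c) c 0 0 c))))<|
 a (b 9 (f 697356437 (a 23<|a 2<|c) 0 c (g (h 80 (a 60<|a 29<|a 72<|a 2<|c) (a 60<|a 29<|a 72<|a 2<|c) (a 0<|a 0<|a 0<|a 0<|c) c 0 0 c))))<|c)<|c))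

theorem svsF4_30 : tbF4.svs 4 svF4_30 = true := by decide +kernel

theorem svdF4_30 : tbF4.svd svF4_30 = true := by decide +kernel

theorem svcF4_30 : aL (tbF4.svc 4 svF4_30 ivF4_30 ceF4_30) 1 = true := by decide +kernel

theorem goodF4_30 {M : CoxeterMatrix (Fin 4)} (hp : IsType chevF4 4 M) : Good hp tbF4 140899480774071 :=
  (gsF4 hp).good_sv (fun _ => rfl) svsF4_30 svdF4_30 (aL_iff.1 svcF4_30)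

/-- D4 -/
def svF4_33 : Sv where
  m := 252549662093644
  Δ := [2, 3, 8, 13]
  dm := [17, 19, 20, 23]
  s := 24
  sq := (beta% delta% lq2655aec6b6 fun a b c _ _ _ _ _ j _ l _ _ _ =>
 (a (b 2 l)<|a (b 17 j)<|a (b 3 l)<|a (b 8 l)<|a (b 13 l)<|a (b 19 j)<|c))
  co := (beta% delta% lq2655aec6b6 fun a _ c _ _ _ _ _ _ _ _ _ _ _ =>
 (a (a (-2)<|a 3<|a (-1)<|a 0<|a 0<|a (-2)<|c)<|a (a 0<|a (-1)<|a 0<|a 0<|a 0<|a 1<|c)<|a (a 1<|a 0<|a 0<|a 0<|a 0<|a 0<|c)<|a (a 0<|a 0<|a 1<|a 0<|a 0<|a 0<|c)<|c))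
  ω := 6
  cl := (beta% delta% lq2655aec6b6 fun a b c _ _ _ _ _ j _ _ _ _ _ =>
 (a (b j c)<|a (b j (a 0<|c))<|a (b j (a 1<|a 0<|c))<|c))
  lf := (beta% delta% lq2655aec6b6 fun a b c _ _ _ _ _ _ _ _ _ _ _ =>
 (a (b 2272088558867<|b 0 c)<|
 a (b 2272088885268<|b 1 c)<|
 a (b 8877747866897<|b 1 (a 4<|c))<|
 a (b 8877748584980<|b 2 c)<|
 a (b 14379600971793<|b 2 (a 0<|c))<|
 a (b 14379601363475<|b 1 (a 1<|c))<|c))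
  q₁ := 14
  k₁ := 3
  ev := false
  lg := (0, [], 0)

/-- inverted roots -/
def ivF4_33 : List (ℕ × List ℕ × ℕ) := []

/-- the certificates -/
def ceF4_33 : List (List (ℕ × Ce)) := (beta% delta% lq2655aec6b6 fun a b c _ f g h _ _ _ _ _ _ _ =>
 (a (a (b 2 (f 74 (a 16<|a 2<|a 15<|a 8<|a 22<|a 21<|c) 0 c (g (h 9 (a 4<|a 7<|a 8<|a 4<|c) (a 4<|a 7<|a 8<|a 4<|c) (a 0<|a 0<|a 0<|a 0<|c) c 2 0 c))))<|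
 a (b 3 (f 2364 (a 12<|a 23<|a 22<|a 6<|c) 0 c (g (h 28 (a 22<|a 23<|a 16<|a 10<|c) (a 22<|a 23<|a 16<|a 10<|c) (a 0<|a 0<|a 0<|a 0<|c) c 0 0 c))))<|
 a (b 4 (f 26212 (a 18<|a 15<|c) 0 c (g (h 15 (a 9<|a 12<|a 7<|a 10<|c) (a 9<|a 12<|a 7<|a 10<|c) (a 0<|a 0<|a 0<|a 0<|c) c 0 0 c))))<|
 a (b 5 (f 166296 (a 21<|a 2<|c) 0 c (g (h 124 (a 93<|a 40<|a 36<|a 110<|c) (a 93<|a 40<|a 36<|a 110<|c) (a 0<|a 0<|a 0<|a 0<|c) c 0 0 c))))<|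
 a (b 7 (f 2636888 (a 23<|a 18<|a 2<|a 22<|a 15<|a 22<|c) 0 c (g (h 344 (a 81<|a 91<|a 202<|a 64<|c) (a 81<|a 91<|a 202<|a 64<|c) (a 0<|a 0<|a 0<|a 0<|c) c 0 0 c))))<|
 a (b 8 (f 7849688 (a 16<|a 3<|a 8<|c) 0 c (g (h 273 (a 182<|a 233<|a 45<|a 42<|c) (a 182<|a 233<|a 45<|a 42<|c) (a 0<|a 0<|a 0<|a 0<|c) c 0 0 c))))<|
 a (b 9 (f 20499710 (a 2<|a 2<|c) 0 c (g (h 8 (a 6<|a 2<|a 7<|a 3<|c) (a 6<|a 2<|a 7<|a 3<|c) (a 0<|a 0<|a 0<|a 0<|c) c 0 0 c))))<|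
 a (b 11 (f 104754219 (a 15<|a 18<|c) 0 c (g (h 40 (a 20<|a 3<|a 10<|a 4<|c) (a 20<|a 3<|a 10<|a 4<|c) (a 0<|a 0<|a 0<|a 0<|c) c 0 0 c))))<|
 a (b 13 (f 405873770 c 0 c (g (h 12 (a 3<|a 9<|a 11<|a 3<|c) (a 3<|a 9<|a 11<|a 3<|c) (a 0<|a 0<|a 0<|a 0<|c) c 0 0 c))))<|c)<|
 a (a (b 2 (f 74 (a 21<|a 12<|c) 0 c (g (h 9 (a 1<|a 3<|a 4<|a 3<|c) (a 1<|a 3<|a 4<|a 3<|c) (a 0<|a 0<|a 0<|a 0<|c) c 2 0 c))))<|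
 a (b 3 (f 2364 (a 22<|a 15<|a 13<|a 12<|c) 0 c (g (h 14 (a 4<|a 3<|a 4<|a 2<|c) (a 4<|a 3<|a 4<|a 2<|c) (a 0<|a 0<|a 0<|a 0<|c) c 0 0 c))))<|
 a (b 4 (f 26212 (a 22<|a 2<|c) 0 c (g (h 105 (a 42<|a 19<|a 75<|a 95<|c) (a 42<|a 19<|a 75<|a 95<|c) (a 0<|a 0<|a 0<|a 0<|c) c 0 0 c))))<|
 a (b 5 (f 166296 (a 6<|a 2<|c) 0 c (g (h 62 (a 0<|a 1<|a 4<|a 20<|c) (a 0<|a 1<|a 4<|a 20<|c) (a 0<|a 0<|a 0<|a 0<|c) c 0 0 c))))<|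
 a (b 7 (f 2636888 (a 15<|a 21<|a 15<|c) 0 c (g (h 48 (a 18<|a 29<|a 22<|a 32<|c) (a 18<|a 29<|a 22<|a 32<|c) (a 0<|a 0<|a 0<|a 0<|c) c 0 0 c))))<|
 a (b 8 (f 7849688 (a 3<|c) 0 c (g (h 21 (a 14<|a 20<|a 7<|a 7<|c) (a 14<|a 20<|a 7<|a 7<|c) (a 0<|a 0<|a 0<|a 0<|c) c 0 0 c))))<|
 a (b 9 (f 20499710 (a 18<|c) 0 c (g (h 656 (a 376<|a 539<|a 514<|a 246<|c) (a 376<|a 539<|a 514<|a 246<|c) (a 0<|a 0<|a 0<|a 0<|c) c 0 0 c))))<|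
 a (b 11 (f 104754219 (a 6<|c) 0 c (g (h 15 (a 10<|a 12<|a 4<|a 1<|c) (a 10<|a 12<|a 4<|a 1<|c) (a 0<|a 0<|a 0<|a 0<|c) c 0 0 c))))<|
 a (b 13 (f 405873770 (a 21<|a 13<|a 12<|a 8<|c) 0 c (g (h 168 (a 14<|a 155<|a 0<|a 138<|c) (a 14<|a 155<|a 0<|a 138<|c) (a 0<|a 0<|a 0<|a 0<|c) c 0 0 c))))<|c)<|
 a (a (b 2 (f 74 (a 22<|a 6<|a 3<|c) 0 c (g (h 21 (a 5<|a 13<|a 20<|a 15<|c) (a 5<|a 13<|a 20<|a 15<|c) (a 0<|a 0<|a 0<|a 0<|c) c 1 21 (a (b c (a (a 1<|c)<|a (a 1<|a 3<|c)<|a (a 2<|a 6<|a 7<|c)<|a (a (-4)<|a (-6)<|a (-2)<|a 3<|c)<|c))<|c)))))<|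
 a (b 3 (f 2364 (a 22<|a 15<|a 15<|c) 0 c (g (h 104 (a 80<|a 96<|a 31<|a 13<|c) (a 80<|a 96<|a 31<|a 13<|c) (a 0<|a 0<|a 0<|a 0<|c) c 0 0 c))))<|
 a (b 4 (f 26212 (a 3<|c) 0 c (g (h 105 (a 30<|a 60<|a 47<|a 21<|c) (a 30<|a 60<|a 47<|a 21<|c) (a 0<|a 0<|a 0<|a 0<|c) c 0 0 c))))<|
 a (b 5 (f 166296 (a 12<|a 23<|a 12<|c) 0 c (g (h 504 (a 340<|a 480<|a 355<|a 126<|c) (a 340<|a 480<|a 355<|a 126<|c) (a 0<|a 0<|a 0<|a 0<|c) c 0 0 c))))<|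
 a (b 7 (f 2636888 (a 23<|a 6<|a 22<|c) 0 c (g (h 2736 (a 1399<|a 2545<|a 40<|a 679<|c) (a 1399<|a 2545<|a 40<|a 679<|c) (a 0<|a 0<|a 0<|a 0<|c) c 0 0 c))))<|
 a (b 8 (f 7849688 (a 16<|a 6<|a 18<|a 12<|a 16<|c) 0 c (g (h 1197 (a 224<|a 1112<|a 463<|a 847<|c) (a 224<|a 1112<|a 463<|a 847<|c) (a 0<|a 0<|a 0<|a 0<|c) c 0 0 c))))<|
 a (b 9 (f 20499710 (a 18<|a 15<|a 3<|c) 0 c (g (h 104 (a 22<|a 90<|a 15<|a 0<|c) (a 22<|a 90<|a 15<|a 0<|c) (a 0<|a 0<|a 0<|a 0<|c) c 0 0 c))))<|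
 a (b 11 (f 104754219 (a 18<|a 18<|a 12<|c) 0 c (g (h 666 (a 202<|a 240<|a 337<|a 289<|c) (a 202<|a 240<|a 337<|a 289<|c) (a 0<|a 0<|a 0<|a 0<|c) c 0 0 c))))<|
 a (b 13 (f 405873770 (a 3<|a 22<|c) 0 c (g (h 61 (a 36<|a 45<|a 27<|a 43<|c) (a 36<|a 45<|a 27<|a 43<|c) (a 0<|a 0<|a 0<|a 0<|c) c 0 0 c))))<|c)<|c))

theorem svsF4_33 : tbF4.svs 4 svF4_33 = true := by decide +kernel

theorem svdF4_33 : tbF4.svd svF4_33 = true := by decide +kernel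

theorem svcF4_33 : aL (tbF4.svc 4 svF4_33 ivF4_33 ceF4_33) 3 = true := by decide +kernel

theorem goodF4_33 {M : CoxeterMatrix (Fin 4)} (hp : IsType chevF4 4 M) : Good hp tbF4 252549662093644 :=
  (gsF4 hp).good_sv (fun _ => rfl) svsF4_33 svdF4_33 (aL_iff.1 svcF4_33)

/-- B4 -/
def svF4_35 : Sv where
  m := 255040760051021
  Δ := [0, 2, 3, 8]
  dm := [17, 20, 23]
  s := 32
  sq := (beta% delta% lq2655aec6b6 fun a b c _ _ _ _ _ j _ l _ _ _ =>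
 (a (b 17 j)<|a (b 2 l)<|a (b 3 l)<|a (b 0 l)<|a (b 8 l)<|a (b 20 j)<|c))
  co := (beta% delta% lq2655aec6b6 fun a _ c _ _ _ _ _ _ _ _ _ _ _ =>
 (a (a (-3)<|a 2<|a 1<|a 0<|a 0<|a 2<|c)<|a (a 2<|a (-2)<|a (-1)<|a 0<|a 0<|a (-1)<|c)<|a (a 0<|a 1<|a 0<|a 0<|a 0<|a 0<|c)<|a (a 0<|a 0<|a 1<|a 0<|a 0<|a 0<|c)<|c))
  ω := 1
  cl := [(false, [])]
  lf := [(18700337940500, 0, [])]
  q₁ := 26
  k₁ := 1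
  ev := false
  lg := (0, [], 0)

/-- inverted roots -/
def ivF4_35 : List (ℕ × List ℕ × ℕ) := []

/-- the certificates -/
def ceF4_35 : List (List (ℕ × Ce)) := (beta% delta% lq2655aec6b6 fun a b c _ f g h _ _ _ _ _ _ _ =>
 (a (a (b 2 (f 21 (a 3<|a 0<|a 2<|c) 0 c (g (h 21 (a 7<|a 19<|a 15<|a 18<|c) (a 7<|a 19<|a 15<|a 18<|c) (a 0<|a 0<|a 0<|a 0<|c) c 1 21 (a (b c (a (a 1<|c)<|a (a 1<|a 3<|c)<|a (a 0<|a 0<|a 1<|c)<|a (a 0<|a 0<|a 1<|a 3<|c)<|c))<|c)))))<|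
 a (b 3 (f 229 (a 2<|a 10<|a 6<|a 10<|a 13<|c) 0 c (g (h 40 (a 21<|a 3<|a 6<|a 30<|c) (a 21<|a 3<|a 6<|a 30<|c) (a 0<|a 0<|a 0<|a 0<|c) c 1 80 (a (b c (a (a 1<|c)<|a (a 0<|a 1<|c)<|a (a (-1)<|a (-3)<|a 1<|c)<|a (a 1<|a 1<|a 1<|a 2<|c)<|c))<|c)))))<|
 a (b 4 (f 1181 (a 14<|a 16<|a 3<|c) 0 c (g (h 39 (a 12<|a 10<|a 4<|a 12<|c) (a 12<|a 10<|a 4<|a 12<|c) (a 0<|a 0<|a 0<|a 0<|c) c 0 0 c))))<|
 a (b 5 (f 4133 (a 0<|a 16<|a 23<|a 18<|a 8<|a 17<|c) 0 c (g (h 24 (a 3<|a 3<|a 6<|a 8<|c) (a 3<|a 3<|a 6<|a 8<|c) (a 0<|a 0<|a 0<|a 0<|c) c 0 0 c))))<|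
 a (b 7 (f 26722 (a 0<|a 8<|a 2<|a 15<|c) 0 c (g (h 1201 (a 85<|a 740<|a 1168<|a 264<|c) (a 85<|a 740<|a 1168<|a 264<|c) (a 0<|a 0<|a 0<|a 0<|c) c 0 0 c))))<|
 a (b 8 (f 55718 (a 23<|a 22<|a 12<|a 14<|c) 0 c (g (h 241 (a 164<|a 88<|a 34<|a 208<|c) (a 164<|a 88<|a 34<|a 208<|c) (a 0<|a 0<|a 0<|a 0<|c) c 0 0 c))))<|
 a (b 9 (f 106288 (a 6<|a 8<|c) 0 c (g (h 728 (a 561<|a 669<|a 590<|a 514<|c) (a 561<|a 669<|a 590<|a 514<|c) (a 0<|a 0<|a 0<|a 0<|c) c 0 0 c))))<|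
 a (b 11 (f 318059 (a 21<|a 17<|a 6<|a 0<|a 10<|c) 0 c (g (h 76 (a 38<|a 11<|a 8<|a 64<|c) (a 38<|a 11<|a 8<|a 64<|c) (a 0<|a 0<|a 0<|a 0<|c) c 0 0 c))))<|
 a (b 13 (f 789330 (a 13<|a 10<|c) 0 c (g (h 204 (a 48<|a 157<|a 34<|a 148<|c) (a 48<|a 157<|a 34<|a 148<|c) (a 0<|a 0<|a 0<|a 0<|c) c 0 0 c))))<|
 a (b 16 (f 2433892 c 0 c (g (h 15 (a 1<|a 13<|a 14<|a 13<|c) (a 1<|a 13<|a 14<|a 13<|c) (a 0<|a 0<|a 0<|a 0<|c) c 0 0 c))))<|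
 a (b 17 (f 3379047 (a 12<|a 10<|a 16<|c) 0 c (g (h 72 (a 4<|a 69<|a 66<|a 68<|c) (a 4<|a 69<|a 66<|a 68<|c) (a 0<|a 0<|a 0<|a 0<|c) c 0 0 c))))<|
 a (b 19 (f 6164754 (a 13<|a 3<|c) 0 c (g (h 6858 (a 5773<|a 381<|a 364<|a 738<|c) (a 5773<|a 381<|a 364<|a 738<|c) (a 0<|a 0<|a 0<|a 0<|c) c 0 0 c))))<|
 a (b 23 (f 17283432 (a 23<|a 13<|a 3<|c) 0 c (g (h 6360 (a 5363<|a 3180<|a 4848<|a 4488<|c) (a 5363<|a 3180<|a 4848<|a 4488<|c) (a 0<|a 0<|a 0<|a 0<|c) c 0 0 c))))<|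
 a (b 25 (f 27085516 (a 2<|a 17<|a 21<|a 10<|c) 0 c (g (h 5208 (a 217<|a 4729<|a 4602<|a 4734<|c) (a 217<|a 4729<|a 4602<|a 4734<|c) (a 0<|a 0<|a 0<|a 0<|c) c 0 0 c))))<|c)<|c))

theorem svsF4_35 : tbF4.svs 4 svF4_35 = true := by decide +kernel

theorem svdF4_35 : tbF4.svd svF4_35 = true := by decide +kernel

theorem svcF4_35 : aL (tbF4.svc 4 svF4_35 ivF4_35 ceF4_35) 1 = true := by decide +kernel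

theorem goodF4_35 {M : CoxeterMatrix (Fin 4)} (hp : IsType chevF4 4 M) : Good hp tbF4 255040760051021 :=
  (gsF4 hp).good_sv (fun _ => rfl) svsF4_35 svdF4_35 (aL_iff.1 svcF4_35)

end Cfsg.Agent.N2.Ex.Al.Ck
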