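import Cfsg.Agent.N2.Ex.CC.Asm_mg_m3
import Cfsg.Agent.N2.Ex.Al.TbD
import Cfsg.Agent.N2.Ex.Mu.LatV_m3
import Cfsg.Agent.Prune
set_option linter.all false

section
prune_inst 0x7ffffffcffbfffffffff7fffffffffffbbf3ffffffdffb73ffefefff5fff9ffffbffffbffdf5fdffdef7e3fd7cbcfbdbfbffffffeffffd7ffffffffc7fffee5ff7ffffffffffffffffffffffffffffffffffffffffffffffffffffffffffffffffffffffffff

-- part: N2/Ex/Al/SvE8
section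
prune_inst 0x1000000000000800000000000440400000020048800101000a000600004000000020a020021001c0282410404040000001000020000000003800011a00800000000000000000000000000000000000000000000000000000000000000000000000000
set_option linter.all false
open scoped Cfsg.Agent.FastGrp
private noncomputable def lq26b895f9ecd2 {T : Sort _} (f :
    (type_of% @_root_.List.cons.{0}) →
    (type_of% @_root_.List.nil.{0}) →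
    (type_of% @_root_.Prod.mk.{0, 0}) →
    (type_of% @_root_.Bool.true) →
    (type_of% @_root_.Bool.false) →
    ((List (Prod Nat (Prod Nat (List Nat)))) → (List (Prod Nat (Prod Nat (List Nat))))) →
    (type_of% @_root_.Cfsg.Agent.N2.Ex.Al.Ck.Ce.mk) →
    (type_of% @_root_.Sum.inr.{0, 0}) →
    (type_of% @_root_.Sum.inl.{0, 0}) →
    (type_of% @_root_.Cfsg.Agent.N2.Ex.Al.Ck.CA.mk) →
    ((List Cfsg.Agent.N2.Ex.Al.Ck.En) → (List Cfsg.Agent.N2.Ex.Al.Ck.En)) →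
    (type_of% @_root_.Cfsg.Agent.N2.Ex.Al.Ck.En.mk) →
    (type_of% @_root_.Cfsg.Agent.N2.Ex.Al.Ck.CT.mk) → T) : T :=
  f (@_root_.List.cons.{0}) (@_root_.List.nil.{0}) (@_root_.Prod.mk.{0, 0}) (@_root_.Bool.true) (@_root_.Bool.false) (fun x => x) (@_root_.Cfsg.Agent.N2.Ex.Al.Ck.Ce.mk) (@_root_.Sum.inr.{0, 0}) (@_root_.Sum.inl.{0, 0}) (@_root_.Cfsg.Agent.N2.Ex.Al.Ck.CA.mk) (fun x => x) (@_root_.Cfsg.Agent.N2.Ex.Al.Ck.En.mk) (@_root_.Cfsg.Agent.N2.Ex.Al.Ck.CT.mk)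

/-!
# N2, subgroups of maximal rank: the surviving rows of `E8` (helper40, generated data)
-/

set_option autoImplicit false
set_option maxRecDepth 100000

namespace Cfsg.Agent.N2.Ex.Al.Ck

open Cfsg Cfsg.Lie Cfsg.Agent.Nodes.RGDChev

private noncomputable def drKE {α : Type} (n : ℕ) : List α → List α :=
  Nat.rec (motive := fun _ => List α → List α) (fun L => L)
    (fun _ ih L => List.rec (motive := fun _ => List α) [] (fun _ t _ => ih t) L) n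

private theorem mem_drKE {α : Type} {a : α} (n : ℕ) : ∀ L : List α, a ∈ drKE n L → a ∈ L := by
  induction n with
  | zero => exact fun _ h => h
  | succ n ih =>
    intro L h
    cases L with
    | nil => exact h
    | cons b t => exact List.mem_cons_of_mem _ (ih t h)

private noncomputable def fcKE {β : Type} (x : ℕ) (k : ℕ → β) : β :=
  Nat.rec (motive := fun _ => β) (k 0) (fun n _ => k (Nat.succ n)) x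

private theorem fcKE_eq {β : Type} (x : ℕ) (k : ℕ → β) : fcKE x k = k x := by cases x <;> rfl

private noncomputable def meKE (f : ℕ → ℕ → ℕ) (s r : ℕ) : ℕ := fcKE r fun r => Nat.add (f s r) 0

private theorem meKE_eq (f : ℕ → ℕ → ℕ) : meKE f = f := by
  funext r s
  delta meKE
  rw [fcKE_eq]
  rfl

private noncomputable def awKE (f : ℕ → ℕ → ℕ) (w : List ℕ) (r : ℕ) : ℕ :=
  List.rec (motive := fun _ => ℕ) r (fun s _ ih => f s ih) w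

private def gKE (T : Tb) (r s : ℕ) : ℕ := Nat.add (Nat.mul 8 (T.c r s)) (T.c s r)

private noncomputable def dfKE (T : Tb) (Δ E : List ℕ) (leaf : List (ℕ × ℕ) → ℕ) (t : List (ℕ × Bool)) :
    List (ℕ × ℕ) → ℕ :=
  List.rec (motive := fun _ => List (ℕ × ℕ) → ℕ) leaf (fun x _ ih d => Prod.rec (motive := fun _ => ℕ) (fun a b =>
    lS (fun r => cond (lA (fun e => Prod.rec (motive := fun _ => Bool) (fun u v => Nat.beq (gKE T r v) (gKE T a u)) e) d)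
      (ih ((a, r) :: d)) 0) (cond b Δ E)) x) t

private theorem dfs_le_dfKE (T : Tb) (Δ E : List ℕ) {l l' : List (ℕ × ℕ) → ℕ} (h : ∀ d, l d ≤ l' d)
    (t : List (ℕ × Bool)) : ∀ d, T.dfs Δ E l t d ≤ dfKE T Δ E l' t d := by
  induction t with
  | nil => exact h
  | cons x t ih =>
    intro d
    obtain ⟨a, b⟩ := x
    show lS (fun r => cond (T.cmp a r d) (T.dfs Δ E l t ((a, r) :: d)) 0) (cond b Δ E) ≤
      lS (fun r => cond (lA (fun e => Prod.rec (motive := fun _ => Bool) (fun u v => Nat.beq (gKE T r v) (gKE T a u)) e) d)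
        (dfKE T Δ E l' t ((a, r) :: d)) 0) (cond b Δ E)
    rw [lS_eq, lS_eq]
    refine List.sum_le_sum fun r _ => ?_
    cases hx : T.cmp a r d
    · exact Nat.zero_le _
    · have k : lA (fun e : ℕ × ℕ => Prod.rec (motive := fun _ => Bool) (fun u v => Nat.beq (gKE T r v) (gKE T a u)) e) d =
          true := lA_iff.2 fun e he => by
        have := lA_iff.1 hx e he
        obtain ⟨u, v⟩ := e
        rw [Bool.and_eq_true, Nat.beq_eq, Nat.beq_eq] at this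
        refine Nat.beq_eq.mpr ?_
        delta gKE
        rw [this.1, this.2]
      rw [k]
      exact ih _

private noncomputable def lfKE (T : Tb) (f : ℕ → ℕ → ℕ) (V : Sv) (sh M O : ℕ) (d : List (ℕ × ℕ)) : Bool :=
  fcKE (enc d) fun y => fcKE (Nat.mod (Nat.shiftRight O (Nat.mul 16 (Nat.mod (Nat.shiftRight y sh) M))) 65536) fun o =>
    lE (fun e => Prod.rec (motive := fun _ => Bool) (fun k z => and (Nat.beq k y)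
      (Prod.rec (motive := fun _ => Bool) (fun i w => and (T.lt w) (and (lA (fun x => V.m.testBit (awKE f w x)) V.Δ)
        (and (Nat.blt i V.cl.length) (Prod.rec (motive := fun _ => Bool) (fun sg u =>
          lA (fun x => Prod.rec (motive := fun _ => Bool) (fun a b => fcKE (awKE f w a) fun c =>
            Nat.beq (cond sg (T.ng (awKE f u c)) (awKE f u c)) (awKE f w b)) x) d) (V.cl.getD i (false, [])))))) z)) e)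
      (drKE o V.lf)

private theorem lfc_of_lfKE {T : Tb} {V : Sv} {sh M O : ℕ} {d : List (ℕ × ℕ)} (h : lfKE T T.f V sh M O d = true) :
    T.lfc V d = true := by
  delta lfKE at h
  simp only [fcKE_eq] at h
  obtain ⟨e, he, h⟩ := lE_iff.1 h
  exact lE_iff.2 ⟨e, mem_drKE _ _ he, h⟩

private theorem svd_of_KE (T : Tb) (V : Sv) (sh M O : ℕ)
    (h : Nat.ble (dfKE T V.Δ V.dm (fun d => cond (lfKE T (meKE T.f) V sh M O d) 1 (Nat.succ V.ω)) V.sq []) V.ω =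
      true) : T.svd V = true := by
  rw [meKE_eq] at h
  refine Nat.ble_eq.mpr (le_trans (dfs_le_dfKE T _ _ (fun d => ?_) _ _) (Nat.ble_eq.mp h))
  cases hx : lfKE T T.f V sh M O d
  · cases T.lfc V d
    exacts [le_rfl, Nat.succ_pos _]
  · rw [lfc_of_lfKE hx]

/-- A1A1A1A1A1A1A1A1 -/
def svE8_21 : Sv where
  m := 883423532800569873397395799593491270714318654428720779203080545590313043
  Δ := [0, 1, 4, 6, 70, 88, 43, 119]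
  dm := (beta% delta% lq26b895f9ecd2 fun vqc0 vqc1 _ _ _ _ _ _ _ _ _ _ _ =>
      (vqc0 0 (vqc0 1 (vqc0 4 (vqc0 6 (vqc0 29 (vqc0 43 (vqc0 45 (vqc0 58 (vqc0 63 (vqc0 70 (vqc0 74 (vqc0 84 (vqc0 88 (vqc0 94 (vqc0 96 (vqc0 103 (vqc0 108 (vqc0 112 (vqc0 114 (vqc0 116 (vqc0 118 (vqc0 119 vqc1)))))))))))))))))))))))
  s := 16
  sq := (beta% delta% lq26b895f9ecd2 fun vqc0 vqc1 vqc2 vqc3 vqc4 _ _ _ _ _ _ _ _ =>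
      (vqc0 (vqc2 0 vqc3) (vqc0 (vqc2 1 vqc3) (vqc0 (vqc2 29 vqc4) (vqc0 (vqc2 4 vqc3) (vqc0 (vqc2 43 vqc3) (vqc0 (vqc2 45 vqc4) (vqc0 (vqc2 112 vqc4) (vqc0 (vqc2 6 vqc3) (vqc0 (vqc2 70 vqc3) (vqc0 (vqc2 58 vqc4) vqc1)))))))))))
  co := (beta% delta% lq26b895f9ecd2 fun vqc0 vqc1 _ _ _ _ _ _ _ _ _ _ _ =>
      (vqc0 (vqc0 1 (vqc0 0 (vqc0 0 (vqc0 0 (vqc0 0 (vqc0 0 (vqc0 0 (vqc0 0 (vqc0 0 (vqc0 0 vqc1)))))))))) (vqc0 (vqc0 0 (vqc0 1 (vqc0 0 (vqc0 0 (vqc0 0 (vqc0 0 (vqc0 0 (vqc0 0 (vqc0 0 (vqc0 0 vqc1)))))))))) (vqc0 (vqc0 (-1) (vqc0 (-1) (vqc0 1 (vqc0 0 (vqc0 0 (vqc0 1 (vqc0 0 (vqc0 0 (vqc0 0 (vqc0 (-1) vqc1)))))))))) (vqc0 (vqc0 0 (vqc0 0 (vqc0 0 (vqc0 (-1) (vqc0 0 (vqc0 (-1) (vqc0 0 (vqc0 0 (vqc0 0 (vqc0 1 vqc1)))))))))) (vqc0 (vqc0 0 (vqc0 0 (vqc0 0 (vqc0 1 (vqc0 0 (vqc0 0 (vqc0 0 (vqc0 0 (vqc0 0 (vqc0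 0 vqc1)))))))))) (vqc0 (vqc0 0 (vqc0 0 (vqc0 (-1) (vqc0 0 (vqc0 0 (vqc0 1 (vqc0 0 (vqc0 (-1) (vqc0 0 (vqc0 0 vqc1)))))))))) (vqc0 (vqc0 0 (vqc0 0 (vqc0 0 (vqc0 0 (vqc0 0 (vqc0 0 (vqc0 0 (vqc0 1 (vqc0 0 (vqc0 0 vqc1)))))))))) (vqc0 (vqc0 1 (vqc0 0 (vqc0 0 (vqc0 1 (vqc0 0 (vqc0 (-1) (vqc0 1 (vqc0 1 (vqc0 0 (vqc0 (-2) vqc1)))))))))) vqc1)))))))))
  ω := 1344
  cl := (beta% delta% lq26b895f9ecd2 fun vqc0 vqc1 vqc2 _ vqc4 _ _ _ _ _ _ _ _ =>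
      (vqc0 (vqc2 vqc4 vqc1) (vqc0 (vqc2 vqc4 (vqc0 14 (vqc0 77 vqc1))) (vqc0 (vqc2 vqc4 (vqc0 28 (vqc0 93 (vqc0 12 (vqc0 102 vqc1))))) (vqc0 (vqc2 vqc4 (vqc0 28 (vqc0 13 (vqc0 77 (vqc0 64 vqc1))))) (vqc0 (vqc2 vqc4 (vqc0 41 (vqc0 77 (vqc0 25 (vqc0 95 (vqc0 11 (vqc0 9 vqc1))))))) (vqc0 (vqc2 vqc4 (vqc0 41 (vqc0 27 (vqc0 93 (vqc0 76 (vqc0 11 (vqc0 9 vqc1))))))) (vqc0 (vqc2 vqc4 (vqc0 64 (vqc0 13 (vqc0 77 (vqc0 28 (vqc0 16 (vqc0 15 vqc1))))))) (vqc0 (vqc2 vqc4 (vqc0 64 (vqc0 93 (vqc0 50 (vqc0 102 (vqc0 16 (vqc0 15 vqc1))))))) (vqc0 (vqc2 vqc4 (vqc0 14 (vqc0 77 (vqc0 16 (vqc0 15 vqc1))))) (vqc0 (vqc2 vqc4 (vqc0 73 (vqc0 77 (vqc0 31 (vqc0 14 (vqc0 47 (vqc0 44 (vqc0 16 (vqc0 15 vqc1))))))))) (vqc0 (vqc2 vqc4 (vqc0 93 (vqc0 77 (vqc0 47 (vqc0 44 (vqc0 16 (vqc0 15 vqc1))))))) vqc1))))))))))))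
  lf := (beta% delta% lq26b895f9ecd2 fun vqc0 vqc1 vqc2 _ _ vqc5 _ _ _ _ _ _ _ =>
      (let vqy1 : type_of% (vqc5 _) := (let vqy2 : type_of% (vqc5 _) := (let vqy3 : type_of% (vqc5 _) := (let vqy4 : type_of% (vqc5 _) := (let vqy5 : type_of% (vqc5 _) := (let vqy6 : type_of% (vqc5 _) := (let vqy7 : type_of% (vqc5 _) := (let vqy8 : type_of% (vqc5 _) := (vqc0 (vqc2 562763181360713975285342 (vqc2 3 (vqc0 70 (vqc0 38 (vqc0 0 (vqc0 45 (vqc0 18 (vqc0 16 (vqc0 92 (vqc0 8 vqc1))))))))))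
      (vqc0 (vqc2 562763181360713979789676 (vqc2 5 (vqc0 28 (vqc0 109 (vqc0 15 (vqc0 102 (vqc0 34 (vqc0 30 vqc1))))))))
      (vqc0 (vqc2 562763204912205982074480 (vqc2 9 (vqc0 32 (vqc0 30 (vqc0 31 (vqc0 2 vqc1))))))
      (vqc0 (vqc2 562763204912205982466166 (vqc2 5 (vqc0 64 (vqc0 102 (vqc0 48 (vqc0 44 (vqc0 16 (vqc0 15 vqc1))))))))
      (vqc0 (vqc2 562763204912253042247280 (vqc2 4 (vqc0 102 (vqc0 64 (vqc0 60 (vqc0 2 (vqc0 16 (vqc0 15 vqc1))))))))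
      (vqc0 (vqc2 562763204912253046751606 (vqc2 7 (vqc0 25 (vqc0 28 (vqc0 102 (vqc0 86 (vqc0 75 (vqc0 9 vqc1)))))))) vqc1))))));
      (vqc0 (vqc2 562763055727169824489590 (vqc2 3 (vqc0 26 (vqc0 30 (vqc0 88 (vqc0 38 (vqc0 110 (vqc0 42 (vqc0 31 (vqc0 2 vqc1))))))))))
      (vqc0 (vqc2 562763055727225440852076 (vqc2 7 (vqc0 47 (vqc0 48 (vqc0 60 (vqc0 2 vqc1))))))
      (vqc0 (vqc2 562763055727225446335606 (vqc2 6 (vqc0 87 (vqc0 86 (vqc0 75 (vqc0 9 vqc1))))))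
      (vqc0 (vqc2 562763181360666915112556 (vqc2 4 (vqc0 0 (vqc0 4 (vqc0 23 (vqc0 10 (vqc0 60 (vqc0 2 vqc1))))))))
      (vqc0 (vqc2 562763181360666915504222 (vqc2 2 (vqc0 0 (vqc0 16 (vqc0 18 (vqc0 6 (vqc0 69 (vqc0 19 (vqc0 60 (vqc0 2 vqc1))))))))))
      vqy8))))));
      (let vqy9 : type_of% vqy7 := (vqc0 (vqc2 562763036381262733379184 (vqc2 5 (vqc0 43 (vqc0 12 (vqc0 57 (vqc0 63 (vqc0 92 (vqc0 8 vqc1))))))))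
      (vqc0 (vqc2 562763036381262733770846 (vqc2 4 (vqc0 48 (vqc0 44 (vqc0 60 (vqc0 2 vqc1))))))
      (vqc0 (vqc2 562763036381318350133342 (vqc2 7 (vqc0 113 (vqc0 35 (vqc0 70 (vqc0 43 (vqc0 27 (vqc0 25 vqc1))))))))
      (vqc0 (vqc2 562763036381318355616880 (vqc2 9 (vqc0 87 (vqc0 86 (vqc0 75 (vqc0 9 vqc1))))))
      (vqc0 (vqc2 562763055727169824097900 (vqc2 7 (vqc0 14 (vqc0 93 (vqc0 31 (vqc0 2 vqc1))))))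
      vqy7)))));
      (vqc0 (vqc2 562762243395940402070640 (vqc2 10 (vqc0 70 (vqc0 57 (vqc0 43 (vqc0 63 (vqc0 113 (vqc0 35 vqc1))))))))
      (vqc0 (vqc2 562762245078184630503006 (vqc2 5 (vqc0 100 (vqc0 67 (vqc0 43 (vqc0 0 (vqc0 60 (vqc0 31 (vqc0 18 (vqc0 15 vqc1))))))))))
      (vqc0 (vqc2 562762245078184635007350 (vqc2 4 (vqc0 113 (vqc0 35 (vqc0 92 (vqc0 8 vqc1))))))
      (vqc0 (vqc2 562762245078193187084382 (vqc2 7 (vqc0 3 (vqc0 9 (vqc0 43 (vqc0 17 (vqc0 80 (vqc0 35 (vqc0 34 (vqc0 30 vqc1))))))))))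
      (vqc0 (vqc2 562762245078193192567926 (vqc2 9 (vqc0 113 (vqc0 70 (vqc0 69 (vqc0 19 (vqc0 83 (vqc0 43 (vqc0 11 (vqc0 9 vqc1))))))))))
      vqy9)))))));
      (let vqy10 : type_of% vqy6 := (let vqy11 : type_of% vqy6 := (vqc0 (vqc2 563593447446399118540914 (vqc2 10 (vqc0 113 (vqc0 35 (vqc0 70 (vqc0 43 (vqc0 27 (vqc0 25 vqc1))))))))
      (vqc0 (vqc2 563593447446416231508844 (vqc2 10 (vqc0 61 (vqc0 104 (vqc0 31 (vqc0 2 vqc1))))))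
      (vqc0 (vqc2 563593447446416234054770 (vqc2 8 (vqc0 87 (vqc0 86 (vqc0 75 (vqc0 9 vqc1))))))
      (vqc0 (vqc2 562762243395931840005744 (vqc2 2 (vqc0 25 (vqc0 62 (vqc0 18 (vqc0 16 (vqc0 60 (vqc0 2 vqc1))))))))
      (vqc0 (vqc2 562762243395931844510060 (vqc2 9 (vqc0 86 (vqc0 87 (vqc0 62 (vqc0 25 vqc1))))))
      (vqc0 (vqc2 562762243395940396587116 (vqc2 7 (vqc0 25 (vqc0 62 (vqc0 18 (vqc0 16 (vqc0 60 (vqc0 2 vqc1))))))))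
      vqy6))))));
      (vqc0 (vqc2 563593429502369353171303 (vqc2 9 (vqc0 70 (vqc0 43 (vqc0 113 (vqc0 35 vqc1))))))
      (vqc0 (vqc2 563593429502369353236574 (vqc2 9 (vqc0 43 (vqc0 12 (vqc0 57 (vqc0 63 (vqc0 113 (vqc0 35 vqc1))))))))
      (vqc0 (vqc2 563593429502386466204510 (vqc2 6 (vqc0 70 (vqc0 43 (vqc0 113 (vqc0 35 vqc1))))))
      (vqc0 (vqc2 563593429502386468750439 (vqc2 10 (vqc0 113 (vqc0 35 (vqc0 70 (vqc0 43 (vqc0 11 (vqc0 9 vqc1))))))))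
      (vqc0 (vqc2 563593447446399118475628 (vqc2 10 (vqc0 28 (vqc0 64 (vqc0 60 (vqc0 2 vqc1))))))
      vqy11))))));
      (let vqy12 : type_of% vqy10 := (vqc0 (vqc2 563593284794570217227884 (vqc2 3 (vqc0 117 (vqc0 7 (vqc0 88 (vqc0 70 (vqc0 18 (vqc0 15 vqc1))))))))
      (vqc0 (vqc2 563593295729187681730919 (vqc2 7 (vqc0 117 (vqc0 7 (vqc0 88 (vqc0 70 (vqc0 18 (vqc0 15 vqc1))))))))
      (vqc0 (vqc2 563593295729187681796210 (vqc2 7 (vqc0 77 (vqc0 30 (vqc0 93 (vqc0 32 (vqc0 18 (vqc0 15 vqc1))))))))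
      (vqc0 (vqc2 563593295729213351282279 (vqc2 3 (vqc0 28 (vqc0 102 (vqc0 34 (vqc0 30 vqc1))))))
      (vqc0 (vqc2 563593295729213355460210 (vqc2 6 (vqc0 76 (vqc0 20 (vqc0 56 (vqc0 82 (vqc0 81 (vqc0 3 vqc1))))))))
      vqy10)))));
      (vqc0 (vqc2 563592995672490198320734 (vqc2 2 (vqc0 28 (vqc0 64 (vqc0 34 (vqc0 30 vqc1))))))
      (vqc0 (vqc2 563592995672490202498674 (vqc2 7 (vqc0 28 (vqc0 64 (vqc0 34 (vqc0 30 vqc1))))))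
      (vqc0 (vqc2 563593284794544543498604 (vqc2 2 (vqc0 77 (vqc0 30 (vqc0 93 (vqc0 32 (vqc0 18 (vqc0 15 vqc1))))))))
      (vqc0 (vqc2 563593284794544543563870 (vqc2 2 (vqc0 117 (vqc0 7 (vqc0 88 (vqc0 70 (vqc0 18 (vqc0 15 vqc1))))))))
      (vqc0 (vqc2 563593284794570213049950 (vqc2 1 (vqc0 61 (vqc0 59 (vqc0 31 (vqc0 2 (vqc0 34 (vqc0 30 vqc1))))))))
      vqy12))))))));
      (let vqy13 : type_of% vqy5 := (let vqy14 : type_of% vqy5 := (let vqy15 : type_of% vqy5 := (vqc0 (vqc2 563592995392106176719724 (vqc2 9 (vqc0 12 (vqc0 13 (vqc0 70 (vqc0 43 (vqc0 113 (vqc0 35 vqc1))))))))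
      (vqc0 (vqc2 563592995392106179265639 (vqc2 10 (vqc0 113 (vqc0 43 (vqc0 76 (vqc0 4 (vqc0 81 (vqc0 3 vqc1))))))))
      (vqc0 (vqc2 563592995392114733237863 (vqc2 2 (vqc0 46 (vqc0 49 (vqc0 34 (vqc0 30 vqc1))))))
      (vqc0 (vqc2 563592995392114737415788 (vqc2 7 (vqc0 46 (vqc0 49 (vqc0 34 (vqc0 30 vqc1))))))
      (vqc0 (vqc2 563592995672481641802590 (vqc2 9 (vqc0 34 (vqc0 32 (vqc0 31 (vqc0 2 vqc1))))))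
      (vqc0 (vqc2 563592995672481644348530 (vqc2 10 (vqc0 91 (vqc0 87 (vqc0 70 (vqc0 82 (vqc0 81 (vqc0 3 vqc1))))))))
      vqy5))))));
      (vqc0 (vqc2 563261388128842249077095 (vqc2 7 (vqc0 60 (vqc0 2 vqc1))))
      (vqc0 (vqc2 563261411119604713915504 (vqc2 10 (vqc0 43 (vqc0 12 (vqc0 57 (vqc0 63 (vqc0 113 (vqc0 35 vqc1))))))))
      (vqc0 (vqc2 563261411119604714176628 (vqc2 9 (vqc0 59 (vqc0 104 (vqc0 48 (vqc0 44 (vqc0 16 (vqc0 15 vqc1))))))))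
      (vqc0 (vqc2 563261411119630383131504 (vqc2 9 (vqc0 48 (vqc0 44 (vqc0 31 (vqc0 2 vqc1))))))
      (vqc0 (vqc2 563261411119630385873268 (vqc2 6 (vqc0 86 (vqc0 87 (vqc0 62 (vqc0 25 vqc1))))))
      vqy15))))));
      (let vqy16 : type_of% vqy14 := (vqc0 (vqc2 563261110217399901509735 (vqc2 5 (vqc0 28 (vqc0 102 (vqc0 34 (vqc0 30 vqc1))))))
      (vqc0 (vqc2 563261110217399906862708 (vqc2 7 (vqc0 87 (vqc0 86 (vqc0 75 (vqc0 9 vqc1))))))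
      (vqc0 (vqc2 563261388128816577119335 (vqc2 7 (vqc0 27 (vqc0 62 (vqc0 18 (vqc0 16 (vqc0 60 (vqc0 2 vqc1))))))))
      (vqc0 (vqc2 563261388128816577380446 (vqc2 7 (vqc0 61 (vqc0 59 (vqc0 34 (vqc0 32 (vqc0 31 (vqc0 2 vqc1))))))))
      (vqc0 (vqc2 563261388128842246335326 (vqc2 7 (vqc0 86 (vqc0 87 (vqc0 62 (vqc0 25 vqc1))))))
      vqy14)))));
      (vqc0 (vqc2 563261098441587585974366 (vqc2 5 (vqc0 43 (vqc0 0 (vqc0 34 (vqc0 32 (vqc0 92 (vqc0 8 vqc1))))))))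
      (vqc0 (vqc2 563261098441630368028766 (vqc2 3 (vqc0 43 (vqc0 0 (vqc0 34 (vqc0 32 (vqc0 92 (vqc0 8 vqc1))))))))
      (vqc0 (vqc2 563261098441630373381744 (vqc2 4 (vqc0 14 (vqc0 77 (vqc0 11 (vqc0 9 (vqc0 31 (vqc0 2 vqc1))))))))
      (vqc0 (vqc2 563261110217357119194215 (vqc2 9 (vqc0 86 (vqc0 14 (vqc0 9 (vqc0 87 (vqc0 62 (vqc0 25 vqc1))))))))
      (vqc0 (vqc2 563261110217357119455348 (vqc2 4 (vqc0 59 (vqc0 104 (vqc0 31 (vqc0 2 (vqc0 16 (vqc0 15 vqc1))))))))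
      vqy16)))))));
      (let vqy17 : type_of% vqy13 := (let vqy18 : type_of% vqy13 := (vqc0 (vqc2 563260665771710316283504 (vqc2 9 (vqc0 77 (vqc0 30 (vqc0 93 (vqc0 32 (vqc0 18 (vqc0 15 vqc1))))))))
      (vqc0 (vqc2 563260666893195058162526 (vqc2 4 (vqc0 47 (vqc0 44 (vqc0 60 (vqc0 2 vqc1))))))
      (vqc0 (vqc2 563260666893195060904308 (vqc2 3 (vqc0 22 (vqc0 23 (vqc0 88 (vqc0 43 (vqc0 110 (vqc0 42 (vqc0 60 (vqc0 2 vqc1))))))))))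
      (vqc0 (vqc2 563260666893212171262046 (vqc2 2 (vqc0 61 (vqc0 59 (vqc0 34 (vqc0 32 (vqc0 31 (vqc0 2 vqc1))))))))
      (vqc0 (vqc2 563260666893212176615028 (vqc2 5 (vqc0 117 (vqc0 7 (vqc0 88 (vqc0 70 (vqc0 18 (vqc0 15 vqc1))))))))
      (vqc0 (vqc2 563261098441587585713264 (vqc2 2 (vqc0 27 (vqc0 62 (vqc0 18 (vqc0 16 (vqc0 60 (vqc0 2 vqc1))))))))
      vqy13))))));
      (vqc0 (vqc2 562080819569234236418928 (vqc2 7 (vqc0 43 (vqc0 6 (vqc0 69 (vqc0 19 (vqc0 60 (vqc0 2 vqc1))))))))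
      (vqc0 (vqc2 562080819569234239225972 (vqc2 7 (vqc0 18 (vqc0 16 (vqc0 60 (vqc0 2 vqc1))))))
      (vqc0 (vqc2 563260665771693197831024 (vqc2 5 (vqc0 59 (vqc0 104 (vqc0 31 (vqc0 2 (vqc0 16 (vqc0 15 vqc1))))))))
      (vqc0 (vqc2 563260665771693200572775 (vqc2 7 (vqc0 16 (vqc0 15 (vqc0 60 (vqc0 2 vqc1))))))
      (vqc0 (vqc2 563260665771710310930535 (vqc2 4 (vqc0 64 (vqc0 102 (vqc0 48 (vqc0 44 (vqc0 16 (vqc0 15 vqc1))))))))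
      vqy18))))));
      (let vqy19 : type_of% vqy17 := (vqc0 (vqc2 562080814522437361467756 (vqc2 9 (vqc0 48 (vqc0 47 (vqc0 31 (vqc0 2 vqc1))))))
      (vqc0 (vqc2 562080814522475864927084 (vqc2 9 (vqc0 113 (vqc0 35 (vqc0 70 (vqc0 43 (vqc0 11 (vqc0 9 vqc1))))))))
      (vqc0 (vqc2 562080814522475867734130 (vqc2 10 (vqc0 70 (vqc0 43 (vqc0 113 (vqc0 35 vqc1))))))
      (vqc0 (vqc2 562080819569195732763760 (vqc2 7 (vqc0 48 (vqc0 44 (vqc0 60 (vqc0 2 vqc1))))))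
      (vqc0 (vqc2 562080819569195732959604 (vqc2 7 (vqc0 12 (vqc0 13 (vqc0 70 (vqc0 43 (vqc0 113 (vqc0 35 vqc1))))))))
      vqy17)))));
      (vqc0 (vqc2 562079725961945649579122 (vqc2 7 (vqc0 27 (vqc0 25 (vqc0 16 (vqc0 15 (vqc0 60 (vqc0 2 vqc1))))))))
      (vqc0 (vqc2 562079725961945649774964 (vqc2 5 (vqc0 12 (vqc0 13 (vqc0 70 (vqc0 43 (vqc0 92 (vqc0 8 vqc1))))))))
      (vqc0 (vqc2 562079725962048330684530 (vqc2 9 (vqc0 76 (vqc0 20 (vqc0 56 (vqc0 82 (vqc0 81 (vqc0 3 vqc1))))))))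
      (vqc0 (vqc2 562079725962048331859572 (vqc2 4 (vqc0 59 (vqc0 104 (vqc0 48 (vqc0 44 (vqc0 16 (vqc0 15 vqc1))))))))
      (vqc0 (vqc2 562080814522437361271922 (vqc2 6 (vqc0 73 (vqc0 72 (vqc0 60 (vqc0 2 vqc1))))))
      vqy19)))))))));
      (let vqy20 : type_of% vqy4 := (let vqy21 : type_of% vqy4 := (let vqy22 : type_of% vqy4 := (let vqy23 : type_of% vqy4 := (vqc0 (vqc2 562079066467277560240236 (vqc2 4 (vqc0 61 (vqc0 59 (vqc0 60 (vqc0 31 (vqc0 34 (vqc0 30 vqc1))))))))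
      (vqc0 (vqc2 562079066467277561415284 (vqc2 3 (vqc0 70 (vqc0 0 (vqc0 18 (vqc0 16 (vqc0 92 (vqc0 8 vqc1))))))))
      (vqc0 (vqc2 562079713905800651015280 (vqc2 3 (vqc0 100 (vqc0 67 (vqc0 43 (vqc0 0 (vqc0 60 (vqc0 2 (vqc0 18 (vqc0 15 vqc1))))))))))
      (vqc0 (vqc2 562079713905800651211116 (vqc2 4 (vqc0 47 (vqc0 48 (vqc0 60 (vqc0 2 vqc1))))))
      (vqc0 (vqc2 562079713905903332120684 (vqc2 5 (vqc0 77 (vqc0 30 (vqc0 93 (vqc0 32 (vqc0 18 (vqc0 15 vqc1))))))))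
      (vqc0 (vqc2 562079713905903333295728 (vqc2 2 (vqc0 100 (vqc0 67 (vqc0 43 (vqc0 0 (vqc0 60 (vqc0 31 (vqc0 18 (vqc0 15 vqc1))))))))))
      vqy4))))));
      (vqc0 (vqc2 562079065626086990348402 (vqc2 9 (vqc0 11 (vqc0 9 (vqc0 31 (vqc0 2 vqc1))))))
      (vqc0 (vqc2 562079065626151164991602 (vqc2 7 (vqc0 113 (vqc0 35 (vqc0 70 (vqc0 43 (vqc0 11 (vqc0 9 vqc1))))))))
      (vqc0 (vqc2 562079065626151166166640 (vqc2 5 (vqc0 70 (vqc0 0 (vqc0 18 (vqc0 16 (vqc0 92 (vqc0 8 vqc1))))))))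
      (vqc0 (vqc2 562079066467213382789996 (vqc2 5 (vqc0 49 (vqc0 46 (vqc0 11 (vqc0 9 (vqc0 31 (vqc0 2 vqc1))))))))
      (vqc0 (vqc2 562079066467213385597044 (vqc2 2 (vqc0 18 (vqc0 16 (vqc0 60 (vqc0 2 vqc1))))))
      vqy23))))));
      (let vqy24 : type_of% vqy22 := (vqc0 (vqc2 562043769319277579011698 (vqc2 7 (vqc0 113 (vqc0 43 (vqc0 76 (vqc0 4 (vqc0 81 (vqc0 3 vqc1))))))))
      (vqc0 (vqc2 562043769319277579338087 (vqc2 4 (vqc0 61 (vqc0 46 (vqc0 75 (vqc0 59 (vqc0 60 (vqc0 31 (vqc0 34 (vqc0 30 vqc1))))))))))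
      (vqc0 (vqc2 562043769319337473623655 (vqc2 5 (vqc0 59 (vqc0 104 (vqc0 48 (vqc0 44 (vqc0 16 (vqc0 15 vqc1))))))))
      (vqc0 (vqc2 562043769319337478193266 (vqc2 9 (vqc0 91 (vqc0 87 (vqc0 70 (vqc0 82 (vqc0 81 (vqc0 3 vqc1))))))))
      (vqc0 (vqc2 562079065626086987541360 (vqc2 4 (vqc0 18 (vqc0 16 (vqc0 60 (vqc0 2 vqc1))))))
      vqy22)))));
      (vqc0 (vqc2 562043200361686880704626 (vqc2 10 (vqc0 87 (vqc0 86 (vqc0 75 (vqc0 9 vqc1))))))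
      (vqc0 (vqc2 562043781936173507741296 (vqc2 5 (vqc0 14 (vqc0 77 (vqc0 31 (vqc0 2 vqc1))))))
      (vqc0 (vqc2 562043781936173508067702 (vqc2 3 (vqc0 32 (vqc0 34 (vqc0 70 (vqc0 0 (vqc0 18 (vqc0 16 (vqc0 92 (vqc0 8 vqc1))))))))))
      (vqc0 (vqc2 562043781936233402353264 (vqc2 2 (vqc0 43 (vqc0 6 (vqc0 69 (vqc0 19 (vqc0 60 (vqc0 2 vqc1))))))))
      (vqc0 (vqc2 562043781936233406922870 (vqc2 4 (vqc0 14 (vqc0 77 (vqc0 31 (vqc0 2 vqc1))))))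
      vqy24)))))));
      (let vqy25 : type_of% vqy21 := (let vqy26 : type_of% vqy21 := (vqc0 (vqc2 562043180735310202274151 (vqc2 5 (vqc0 102 (vqc0 28 (vqc0 75 (vqc0 9 (vqc0 34 (vqc0 30 vqc1))))))))
      (vqc0 (vqc2 562043180735404327840624 (vqc2 7 (vqc0 8 (vqc0 31 (vqc0 36 (vqc0 1 (vqc0 80 (vqc0 35 (vqc0 34 (vqc0 30 vqc1))))))))))
      (vqc0 (vqc2 562043180735404324903015 (vqc2 9 (vqc0 70 (vqc0 4 (vqc0 81 (vqc0 3 (vqc0 31 (vqc0 2 vqc1))))))))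
      (vqc0 (vqc2 562043200361592757749362 (vqc2 9 (vqc0 73 (vqc0 72 (vqc0 60 (vqc0 2 vqc1))))))
      (vqc0 (vqc2 562043200361592758075766 (vqc2 2 (vqc0 25 (vqc0 27 (vqc0 18 (vqc0 16 (vqc0 60 (vqc0 2 vqc1))))))))
      (vqc0 (vqc2 562043200361686883642230 (vqc2 7 (vqc0 25 (vqc0 27 (vqc0 18 (vqc0 16 (vqc0 60 (vqc0 2 vqc1))))))))
      vqy21))))));
      (vqc0 (vqc2 562042173542037358397031 (vqc2 4 (vqc0 60 (vqc0 2 vqc1))))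
      (vqc0 (vqc2 562042173542037362966646 (vqc2 5 (vqc0 70 (vqc0 43 (vqc0 92 (vqc0 8 vqc1))))))
      (vqc0 (vqc2 562042173542071589677942 (vqc2 7 (vqc0 70 (vqc0 43 (vqc0 113 (vqc0 35 vqc1))))))
      (vqc0 (vqc2 562042173542071586740327 (vqc2 9 (vqc0 31 (vqc0 2 vqc1))))
      (vqc0 (vqc2 562043180735310201947760 (vqc2 4 (vqc0 25 (vqc0 27 (vqc0 18 (vqc0 16 (vqc0 60 (vqc0 2 vqc1))))))))
      vqy26))))));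
      (let vqy27 : type_of% vqy25 := (vqc0 (vqc2 561988284952154245431412 (vqc2 5 (vqc0 64 (vqc0 102 (vqc0 16 (vqc0 15 vqc1))))))
      (vqc0 (vqc2 562042172140160032982640 (vqc2 3 (vqc0 43 (vqc0 90 (vqc0 82 (vqc0 1 (vqc0 69 (vqc0 19 (vqc0 60 (vqc0 2 vqc1))))))))))
      (vqc0 (vqc2 562042172140160037552242 (vqc2 7 (vqc0 61 (vqc0 59 (vqc0 31 (vqc0 2 vqc1))))))
      (vqc0 (vqc2 562042172140194264263536 (vqc2 7 (vqc0 47 (vqc0 44 (vqc0 60 (vqc0 2 vqc1))))))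
      (vqc0 (vqc2 562042172140194261325938 (vqc2 6 (vqc0 61 (vqc0 59 (vqc0 31 (vqc0 2 vqc1))))))
      vqy25)))));
      (vqc0 (vqc2 561988292522291796924524 (vqc2 2 (vqc0 72 (vqc0 97 (vqc0 62 (vqc0 25 (vqc0 18 (vqc0 15 vqc1))))))))
      (vqc0 (vqc2 561988292522291802669174 (vqc2 3 (vqc0 14 (vqc0 93 (vqc0 31 (vqc0 2 vqc1))))))
      (vqc0 (vqc2 561988284952077232506484 (vqc2 3 (vqc0 70 (vqc0 4 (vqc0 16 (vqc0 15 (vqc0 92 (vqc0 8 vqc1))))))))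
      (vqc0 (vqc2 561988284952077232637031 (vqc2 2 (vqc0 48 (vqc0 44 (vqc0 60 (vqc0 2 vqc1))))))
      (vqc0 (vqc2 561988284952154239686759 (vqc2 4 (vqc0 16 (vqc0 15 (vqc0 60 (vqc0 2 vqc1))))))
      vqy27))))))));
      (let vqy28 : type_of% vqy20 := (let vqy29 : type_of% vqy20 := (let vqy30 : type_of% vqy20 := (vqc0 (vqc2 561988153426297328240244 (vqc2 4 (vqc0 62 (vqc0 25 (vqc0 16 (vqc0 15 (vqc0 60 (vqc0 2 vqc1))))))))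
      (vqc0 (vqc2 561988153426297328370806 (vqc2 2 (vqc0 27 (vqc0 25 (vqc0 16 (vqc0 15 (vqc0 60 (vqc0 2 vqc1))))))))
      (vqc0 (vqc2 561988153426382896376694 (vqc2 5 (vqc0 64 (vqc0 93 (vqc0 50 (vqc0 102 (vqc0 16 (vqc0 15 vqc1))))))))
      (vqc0 (vqc2 561988153426382894614132 (vqc2 3 (vqc0 28 (vqc0 102 (vqc0 60 (vqc0 2 (vqc0 34 (vqc0 30 vqc1))))))))
      (vqc0 (vqc2 561988292522214789744236 (vqc2 2 (vqc0 47 (vqc0 48 (vqc0 60 (vqc0 2 vqc1))))))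
      (vqc0 (vqc2 561988292522214789874806 (vqc2 1 (vqc0 59 (vqc0 61 (vqc0 75 (vqc0 9 (vqc0 34 (vqc0 30 vqc1))))))))
      vqy20))))));
      (vqc0 (vqc2 561986833313140470138471 (vqc2 2 (vqc0 60 (vqc0 2 vqc1))))
      (vqc0 (vqc2 561988128753256400946796 (vqc2 5 (vqc0 95 (vqc0 41 (vqc0 60 (vqc0 2 (vqc0 34 (vqc0 30 vqc1))))))))
      (vqc0 (vqc2 561988128753256401077351 (vqc2 3 (vqc0 95 (vqc0 41 (vqc0 60 (vqc0 2 (vqc0 34 (vqc0 30 vqc1))))))))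
      (vqc0 (vqc2 561988128753341969083244 (vqc2 4 (vqc0 64 (vqc0 102 (vqc0 16 (vqc0 15 vqc1))))))
      (vqc0 (vqc2 561988128753341967320679 (vqc2 2 (vqc0 16 (vqc0 15 (vqc0 60 (vqc0 2 vqc1))))))
      vqy30))))));
      (let vqy31 : type_of% vqy29 := (vqc0 (vqc2 561986832752389541735276 (vqc2 2 (vqc0 47 (vqc0 44 (vqc0 60 (vqc0 2 vqc1))))))
      (vqc0 (vqc2 561986832752389539972724 (vqc2 1 (vqc0 70 (vqc0 43 (vqc0 92 (vqc0 8 vqc1))))))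
      (vqc0 (vqc2 561986833313131910944871 (vqc2 5 (vqc0 77 (vqc0 14 (vqc0 32 (vqc0 30 (vqc0 31 (vqc0 2 vqc1))))))))
      (vqc0 (vqc2 561986833313131916689526 (vqc2 4 (vqc0 27 (vqc0 25 (vqc0 16 (vqc0 15 (vqc0 60 (vqc0 2 vqc1))))))))
      (vqc0 (vqc2 561986833313140471901046 (vqc2 3 (vqc0 70 (vqc0 43 (vqc0 92 (vqc0 8 vqc1))))))
      vqy29)))));
      (vqc0 (vqc2 561969706683361686914676 (vqc2 7 (vqc0 0 (vqc0 4 (vqc0 23 (vqc0 10 (vqc0 60 (vqc0 2 vqc1))))))))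
      (vqc0 (vqc2 561969706683383075325556 (vqc2 5 (vqc0 102 (vqc0 64 (vqc0 60 (vqc0 2 (vqc0 16 (vqc0 15 vqc1))))))))
      (vqc0 (vqc2 561969706683383079634038 (vqc2 9 (vqc0 72 (vqc0 97 (vqc0 62 (vqc0 25 (vqc0 18 (vqc0 15 vqc1))))))))
      (vqc0 (vqc2 561986832752380980779116 (vqc2 3 (vqc0 61 (vqc0 59 (vqc0 31 (vqc0 2 vqc1))))))
      (vqc0 (vqc2 561986832752380986523764 (vqc2 2 (vqc0 93 (vqc0 77 (vqc0 62 (vqc0 25 (vqc0 18 (vqc0 15 vqc1))))))))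
      vqy31)))))));
      (let vqy32 : type_of% vqy28 := (let vqy33 : type_of% vqy28 := (vqc0 (vqc2 561969413389773063061878 (vqc2 7 (vqc0 46 (vqc0 49 (vqc0 75 (vqc0 11 (vqc0 34 (vqc0 30 vqc1))))))))
      (vqc0 (vqc2 561969682290696222288734 (vqc2 5 (vqc0 95 (vqc0 41 (vqc0 75 (vqc0 11 (vqc0 34 (vqc0 30 vqc1))))))))
      (vqc0 (vqc2 561969682290696224704114 (vqc2 9 (vqc0 75 (vqc0 9 (vqc0 31 (vqc0 2 vqc1))))))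
      (vqc0 (vqc2 561969682290717613114974 (vqc2 4 (vqc0 27 (vqc0 25 (vqc0 60 (vqc0 2 vqc1))))))
      (vqc0 (vqc2 561969682290717617423474 (vqc2 7 (vqc0 4 (vqc0 44 (vqc0 88 (vqc0 39 (vqc0 23 (vqc0 10 (vqc0 60 (vqc0 2 vqc1))))))))))
      (vqc0 (vqc2 561969706683361684499318 (vqc2 4 (vqc0 16 (vqc0 15 (vqc0 27 (vqc0 25 (vqc0 60 (vqc0 2 vqc1))))))))
      vqy28))))));
      (vqc0 (vqc2 561969394884992361912414 (vqc2 5 (vqc0 93 (vqc0 77 (vqc0 62 (vqc0 25 (vqc0 18 (vqc0 15 vqc1))))))))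
      (vqc0 (vqc2 561969394884992367591796 (vqc2 4 (vqc0 93 (vqc0 77 (vqc0 62 (vqc0 25 (vqc0 18 (vqc0 15 vqc1))))))))
      (vqc0 (vqc2 561969413389734553987958 (vqc2 2 (vqc0 46 (vqc0 49 (vqc0 75 (vqc0 11 (vqc0 34 (vqc0 30 vqc1))))))))
      (vqc0 (vqc2 561969413389734556403314 (vqc2 10 (vqc0 86 (vqc0 87 (vqc0 62 (vqc0 25 vqc1))))))
      (vqc0 (vqc2 561969413389773057382514 (vqc2 9 (vqc0 64 (vqc0 102 (vqc0 16 (vqc0 15 vqc1))))))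
      vqy33))))));
      (let vqy34 : type_of% vqy32 := (vqc0 (vqc2 561969045504160495436914 (vqc2 10 (vqc0 64 (vqc0 102 (vqc0 16 (vqc0 15 vqc1))))))
      (vqc0 (vqc2 561969045504177603696754 (vqc2 7 (vqc0 51 (vqc0 39 (vqc0 23 (vqc0 10 (vqc0 60 (vqc0 2 vqc1))))))))
      (vqc0 (vqc2 561969045504177609376116 (vqc2 9 (vqc0 44 (vqc0 48 (vqc0 75 (vqc0 9 (vqc0 31 (vqc0 2 vqc1))))))))
      (vqc0 (vqc2 561969394884953858517854 (vqc2 3 (vqc0 95 (vqc0 41 (vqc0 75 (vqc0 11 (vqc0 34 (vqc0 30 vqc1))))))))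
      (vqc0 (vqc2 561969394884953860933236 (vqc2 2 (vqc0 0 (vqc0 4 (vqc0 23 (vqc0 10 (vqc0 60 (vqc0 2 vqc1))))))))
      vqy32)))));
      (vqc0 (vqc2 561969035130268283061854 (vqc2 3 (vqc0 100 (vqc0 67 (vqc0 43 (vqc0 0 (vqc0 60 (vqc0 31 (vqc0 18 (vqc0 15 vqc1))))))))))
      (vqc0 (vqc2 561969035130268287370358 (vqc2 2 (vqc0 100 (vqc0 67 (vqc0 43 (vqc0 0 (vqc0 60 (vqc0 2 (vqc0 18 (vqc0 15 vqc1))))))))))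
      (vqc0 (vqc2 561969035130285395630174 (vqc2 4 (vqc0 72 (vqc0 97 (vqc0 62 (vqc0 25 (vqc0 18 (vqc0 15 vqc1))))))))
      (vqc0 (vqc2 561969035130285401309558 (vqc2 5 (vqc0 72 (vqc0 97 (vqc0 62 (vqc0 25 (vqc0 18 (vqc0 15 vqc1))))))))
      (vqc0 (vqc2 561969045504160491128436 (vqc2 2 (vqc0 51 (vqc0 39 (vqc0 23 (vqc0 10 (vqc0 60 (vqc0 2 vqc1))))))))
      vqy34))))))))));
      (let vqy35 : type_of% vqy3 := (let vqy36 : type_of% vqy3 := (let vqy37 : type_of% vqy3 := (let vqy38 : type_of% vqy3 := (let vqy39 : type_of% vqy3 := (vqc0 (vqc2 205265281212222864967197 (vqc2 2 (vqc0 70 (vqc0 40 (vqc0 1 (vqc0 45 (vqc0 99 (vqc0 35 (vqc0 18 (vqc0 15 vqc1))))))))))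
      (vqc0 (vqc2 205265281212222869471551 (vqc2 4 (vqc0 14 (vqc0 77 (vqc0 31 (vqc0 2 (vqc0 16 (vqc0 15 vqc1))))))))
      (vqc0 (vqc2 205265304763714871756384 (vqc2 7 (vqc0 104 (vqc0 60 (vqc0 61 (vqc0 2 (vqc0 75 (vqc0 9 (vqc0 34 (vqc0 30 vqc1))))))))))
      (vqc0 (vqc2 205265304763714872148042 (vqc2 4 (vqc0 49 (vqc0 34 (vqc0 32 (vqc0 77 (vqc0 18 (vqc0 15 vqc1))))))))
      (vqc0 (vqc2 205265304763761931929162 (vqc2 5 (vqc0 59 (vqc0 104 (vqc0 75 (vqc0 9 (vqc0 34 (vqc0 30 vqc1))))))))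
      (vqc0 (vqc2 205265304763761936433504 (vqc2 9 (vqc0 62 (vqc0 25 vqc1))))
      vqy3))))));
      (vqc0 (vqc2 205265155578678714171455 (vqc2 5 (vqc0 49 (vqc0 34 (vqc0 32 (vqc0 77 (vqc0 18 (vqc0 15 vqc1))))))))
      (vqc0 (vqc2 205265155578734330533951 (vqc2 9 (vqc0 93 (vqc0 25 (vqc0 77 (vqc0 62 (vqc0 11 (vqc0 9 vqc1))))))))
      (vqc0 (vqc2 205265155578734336017504 (vqc2 7 (vqc0 41 (vqc0 32 (vqc0 34 (vqc0 72 (vqc0 60 (vqc0 2 (vqc0 18 (vqc0 15 vqc1))))))))))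
      (vqc0 (vqc2 205265281212175804794397 (vqc2 5 (vqc0 14 (vqc0 77 (vqc0 31 (vqc0 2 (vqc0 16 (vqc0 15 vqc1))))))))
      (vqc0 (vqc2 205265281212175805186111 (vqc2 3 (vqc0 32 (vqc0 34 (vqc0 60 (vqc0 2 (vqc0 18 (vqc0 15 vqc1))))))))
      vqy39))))));
      (let vqy40 : type_of% vqy38 := (vqc0 (vqc2 205265136232771623061021 (vqc2 9 (vqc0 34 (vqc0 32 (vqc0 18 (vqc0 15 vqc1))))))
      (vqc0 (vqc2 205265136232771623452746 (vqc2 2 (vqc0 25 (vqc0 27 (vqc0 60 (vqc0 31 (vqc0 18 (vqc0 15 vqc1))))))))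
      (vqc0 (vqc2 205265136232827239815197 (vqc2 10 (vqc0 70 (vqc0 43 (vqc0 92 (vqc0 8 (vqc0 16 (vqc0 15 vqc1))))))))
      (vqc0 (vqc2 205265136232827245298762 (vqc2 7 (vqc0 25 (vqc0 27 (vqc0 60 (vqc0 31 (vqc0 18 (vqc0 15 vqc1))))))))
      (vqc0 (vqc2 205265155578678713779808 (vqc2 4 (vqc0 25 (vqc0 27 (vqc0 60 (vqc0 31 (vqc0 18 (vqc0 15 vqc1))))))))
      vqy38)))));
      (vqc0 (vqc2 205264343247449291752544 (vqc2 7 (vqc0 95 (vqc0 76 (vqc0 60 (vqc0 2 (vqc0 34 (vqc0 30 vqc1))))))))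
      (vqc0 (vqc2 205264344929693520184906 (vqc2 3 (vqc0 29 (vqc0 90 (vqc0 89 (vqc0 100 (vqc0 38 (vqc0 26 (vqc0 92 (vqc0 8 vqc1))))))))))
      (vqc0 (vqc2 205264344929693524689215 (vqc2 7 (vqc0 62 (vqc0 25 (vqc0 75 (vqc0 9 vqc1))))))
      (vqc0 (vqc2 205264344929702076766271 (vqc2 6 (vqc0 93 (vqc0 14 (vqc0 62 (vqc0 25 vqc1))))))
      (vqc0 (vqc2 205264344929702082249802 (vqc2 7 (vqc0 93 (vqc0 14 (vqc0 62 (vqc0 25 vqc1))))))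
      vqy40)))))));
      (let vqy41 : type_of% vqy37 := (let vqy42 : type_of% vqy37 := (vqc0 (vqc2 204693464423029298037095 (vqc2 5 (vqc0 75 (vqc0 9 (vqc0 34 (vqc0 30 vqc1))))))
      (vqc0 (vqc2 204693464423123417843303 (vqc2 4 (vqc0 34 (vqc0 32 (vqc0 18 (vqc0 15 vqc1))))))
      (vqc0 (vqc2 204693464423123422412914 (vqc2 7 (vqc0 106 (vqc0 55 (vqc0 70 (vqc0 0 (vqc0 31 (vqc0 2 vqc1))))))))
      (vqc0 (vqc2 205264343247440729687581 (vqc2 4 (vqc0 60 (vqc0 2 (vqc0 16 (vqc0 15 vqc1))))))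
      (vqc0 (vqc2 205264343247440734191968 (vqc2 5 (vqc0 46 (vqc0 109 (vqc0 34 (vqc0 30 vqc1))))))
      (vqc0 (vqc2 205264343247449286268957 (vqc2 9 (vqc0 31 (vqc0 2 (vqc0 16 (vqc0 15 vqc1))))))
      vqy37))))));
      (vqc0 (vqc2 204693432179850813179421 (vqc2 4 (vqc0 31 (vqc0 60 (vqc0 75 (vqc0 9 (vqc0 34 (vqc0 30 vqc1))))))))
      (vqc0 (vqc2 204693432179850813505855 (vqc2 2 (vqc0 27 (vqc0 46 (vqc0 49 (vqc0 72 (vqc0 18 (vqc0 16 (vqc0 60 (vqc0 2 vqc1))))))))))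
      (vqc0 (vqc2 204693432179944933312029 (vqc2 3 (vqc0 41 (vqc0 32 (vqc0 34 (vqc0 72 (vqc0 60 (vqc0 2 (vqc0 18 (vqc0 15 vqc1))))))))))
      (vqc0 (vqc2 204693432179944937881663 (vqc2 5 (vqc0 70 (vqc0 107 (vqc0 106 (vqc0 43 (vqc0 92 (vqc0 8 vqc1))))))))
      (vqc0 (vqc2 204693464423029297710706 (vqc2 9 (vqc0 93 (vqc0 77 (vqc0 62 (vqc0 25 vqc1))))))
      vqy42))))));
      (let vqy43 : type_of% vqy41 := (vqc0 (vqc2 204691989848374105277543 (vqc2 9 (vqc0 31 (vqc0 2 (vqc0 34 (vqc0 30 vqc1))))))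
      (vqc0 (vqc2 204692009474476969363058 (vqc2 7 (vqc0 102 (vqc0 62 (vqc0 85 (vqc0 64 (vqc0 75 (vqc0 9 vqc1))))))))
      (vqc0 (vqc2 204692009474476969689407 (vqc2 3 (vqc0 79 (vqc0 17 (vqc0 74 (vqc0 27 (vqc0 111 (vqc0 42 vqc1))))))))
      (vqc0 (vqc2 204692009474656653571903 (vqc2 7 (vqc0 47 (vqc0 44 (vqc0 16 (vqc0 15 vqc1))))))
      (vqc0 (vqc2 204692009474656661079154 (vqc2 6 (vqc0 47 (vqc0 44 (vqc0 16 (vqc0 15 vqc1))))))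
      vqy41)))));
      (vqc0 (vqc2 204690406194289190401855 (vqc2 7 (vqc0 32 (vqc0 34 (vqc0 60 (vqc0 2 (vqc0 18 (vqc0 15 vqc1))))))))
      (vqc0 (vqc2 204690406194289197909095 (vqc2 9 (vqc0 31 (vqc0 2 (vqc0 75 (vqc0 9 (vqc0 34 (vqc0 30 vqc1))))))))
      (vqc0 (vqc2 204691989848194413561373 (vqc2 5 (vqc0 111 (vqc0 42 (vqc0 88 (vqc0 1 (vqc0 34 (vqc0 30 vqc1))))))))
      (vqc0 (vqc2 204691989848194413887847 (vqc2 4 (vqc0 73 (vqc0 72 (vqc0 60 (vqc0 2 (vqc0 16 (vqc0 15 vqc1))))))))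
      (vqc0 (vqc2 204691989848374097770269 (vqc2 7 (vqc0 12 (vqc0 13 (vqc0 70 (vqc0 43 (vqc0 92 (vqc0 8 vqc1))))))))
      vqy43))))))));
      (let vqy44 : type_of% vqy36 := (let vqy45 : type_of% vqy36 := (let vqy46 : type_of% vqy36 := (vqc0 (vqc2 204690404792326300911133 (vqc2 2 (vqc0 49 (vqc0 25 (vqc0 27 (vqc0 97 (vqc0 60 (vqc0 31 (vqc0 18 (vqc0 15 vqc1))))))))))
      (vqc0 (vqc2 204690404792326305480818 (vqc2 9 (vqc0 60 (vqc0 2 (vqc0 16 (vqc0 15 vqc1))))))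
      (vqc0 (vqc2 204690404792411864987421 (vqc2 7 (vqc0 49 (vqc0 25 (vqc0 27 (vqc0 97 (vqc0 60 (vqc0 31 (vqc0 18 (vqc0 15 vqc1))))))))))
      (vqc0 (vqc2 204690404792411872494706 (vqc2 10 (vqc0 60 (vqc0 31 (vqc0 34 (vqc0 30 vqc1))))))
      (vqc0 (vqc2 204690406194203626325607 (vqc2 5 (vqc0 34 (vqc0 32 (vqc0 18 (vqc0 15 vqc1))))))
      (vqc0 (vqc2 204690406194203630895167 (vqc2 4 (vqc0 1 (vqc0 88 (vqc0 111 (vqc0 42 vqc1))))))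
      vqy36))))));
      (vqc0 (vqc2 204361245827004976595018 (vqc2 7 (vqc0 34 (vqc0 32 (vqc0 31 (vqc0 2 vqc1))))))
      (vqc0 (vqc2 204361278911168670598772 (vqc2 5 (vqc0 27 (vqc0 62 (vqc0 18 (vqc0 16 (vqc0 60 (vqc0 2 vqc1))))))))
      (vqc0 (vqc2 204361278911168670729319 (vqc2 4 (vqc0 61 (vqc0 48 (vqc0 93 (vqc0 59 (vqc0 31 (vqc0 2 vqc1))))))))
      (vqc0 (vqc2 204361278911309850630247 (vqc2 7 (vqc0 104 (vqc0 9 (vqc0 11 (vqc0 49 (vqc0 60 (vqc0 31 (vqc0 34 (vqc0 30 vqc1))))))))))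
      (vqc0 (vqc2 204361278911309856374900 (vqc2 9 (vqc0 25 (vqc0 62 (vqc0 11 (vqc0 9 vqc1))))))
      vqy46))))));
      (let vqy47 : type_of% vqy45 := (vqc0 (vqc2 204359973147870687754058 (vqc2 7 (vqc0 62 (vqc0 25 vqc1))))
      (vqc0 (vqc2 204359973147870695457140 (vqc2 6 (vqc0 62 (vqc0 25 vqc1))))
      (vqc0 (vqc2 204361245826863790818845 (vqc2 9 (vqc0 27 (vqc0 25 (vqc0 60 (vqc0 2 vqc1))))))
      (vqc0 (vqc2 204361245826863790949450 (vqc2 2 (vqc0 34 (vqc0 32 (vqc0 31 (vqc0 2 vqc1))))))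
      (vqc0 (vqc2 204361245827004970850333 (vqc2 10 (vqc0 16 (vqc0 15 (vqc0 60 (vqc0 2 vqc1))))))
      vqy45)))));
      (vqc0 (vqc2 204359948474611573064807 (vqc2 5 (vqc0 34 (vqc0 30 vqc1))))
      (vqc0 (vqc2 204359948474829760460573 (vqc2 9 (vqc0 62 (vqc0 25 (vqc0 75 (vqc0 9 vqc1))))))
      (vqc0 (vqc2 204359948474829768163687 (vqc2 7 (vqc0 60 (vqc0 2 (vqc0 34 (vqc0 30 vqc1))))))
      (vqc0 (vqc2 204359973147652500227700 (vqc2 7 (vqc0 25 (vqc0 62 (vqc0 11 (vqc0 9 vqc1))))))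
      (vqc0 (vqc2 204359973147652500358218 (vqc2 3 (vqc0 29 (vqc0 18 (vqc0 90 (vqc0 89 (vqc0 38 (vqc0 26 (vqc0 92 (vqc0 8 vqc1))))))))))
      vqy47)))))));
      (let vqy48 : type_of% vqy44 := (let vqy49 : type_of% vqy44 := (vqc0 (vqc2 204357571609967023554932 (vqc2 3 (vqc0 10 (vqc0 15 (vqc0 88 (vqc0 23 (vqc0 110 (vqc0 42 (vqc0 60 (vqc0 2 vqc1))))))))))
      (vqc0 (vqc2 204357572170640938522727 (vqc2 9 (vqc0 93 (vqc0 14 (vqc0 62 (vqc0 25 vqc1))))))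
      (vqc0 (vqc2 204357572170640944267338 (vqc2 5 (vqc0 101 (vqc0 67 (vqc0 69 (vqc0 19 (vqc0 60 (vqc0 2 vqc1))))))))
      (vqc0 (vqc2 204357572170717946017610 (vqc2 4 (vqc0 9 (vqc0 11 (vqc0 34 (vqc0 32 (vqc0 31 (vqc0 2 vqc1))))))))
      (vqc0 (vqc2 204357572170717953720679 (vqc2 7 (vqc0 60 (vqc0 2 (vqc0 75 (vqc0 9 (vqc0 34 (vqc0 30 vqc1))))))))
      (vqc0 (vqc2 204359948474611572934173 (vqc2 4 (vqc0 73 (vqc0 97 (vqc0 60 (vqc0 2 (vqc0 16 (vqc0 15 vqc1))))))))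
      vqy44))))));
      (vqc0 (vqc2 203179894655864021276786 (vqc2 6 (vqc0 41 (vqc0 76 (vqc0 11 (vqc0 9 vqc1))))))
      (vqc0 (vqc2 203179894655864026956148 (vqc2 7 (vqc0 11 (vqc0 75 (vqc0 27 (vqc0 25 vqc1))))))
      (vqc0 (vqc2 204357571609890008356893 (vqc2 2 (vqc0 104 (vqc0 9 (vqc0 11 (vqc0 49 (vqc0 60 (vqc0 31 (vqc0 34 (vqc0 30 vqc1))))))))))
      (vqc0 (vqc2 204357571609890014101620 (vqc2 4 (vqc0 31 (vqc0 2 (vqc0 16 (vqc0 15 vqc1))))))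
      (vqc0 (vqc2 204357571609967015851805 (vqc2 5 (vqc0 31 (vqc0 2 (vqc0 16 (vqc0 15 vqc1))))))
      vqy49))))));
      (let vqy50 : type_of% vqy48 := (vqc0 (vqc2 203179861291136620823648 (vqc2 4 (vqc0 60 (vqc0 31 (vqc0 34 (vqc0 30 vqc1))))))
      (vqc0 (vqc2 203179861291183676413981 (vqc2 7 (vqc0 95 (vqc0 41 (vqc0 60 (vqc0 2 (vqc0 34 (vqc0 30 vqc1))))))))
      (vqc0 (vqc2 203179861291183682093408 (vqc2 9 (vqc0 102 (vqc0 62 (vqc0 85 (vqc0 64 (vqc0 75 (vqc0 9 vqc1))))))))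
      (vqc0 (vqc2 203179894655816961377908 (vqc2 3 (vqc0 70 (vqc0 99 (vqc0 113 (vqc0 0 (vqc0 18 (vqc0 16 (vqc0 92 (vqc0 8 vqc1))))))))))
      (vqc0 (vqc2 203179894655816965686386 (vqc2 7 (vqc0 41 (vqc0 76 (vqc0 11 (vqc0 9 vqc1))))))
      vqy48)))));
      (vqc0 (vqc2 203177796260965581604468 (vqc2 4 (vqc0 48 (vqc0 47 (vqc0 31 (vqc0 2 vqc1))))))
      (vqc0 (vqc2 203177796260965585912928 (vqc2 5 (vqc0 49 (vqc0 109 (vqc0 18 (vqc0 16 (vqc0 60 (vqc0 2 vqc1))))))))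
      (vqc0 (vqc2 203177796261136708958048 (vqc2 9 (vqc0 41 (vqc0 76 (vqc0 11 (vqc0 9 vqc1))))))
      (vqc0 (vqc2 203177796261136716726388 (vqc2 7 (vqc0 9 (vqc0 11 (vqc0 60 (vqc0 31 (vqc0 34 (vqc0 30 vqc1))))))))
      (vqc0 (vqc2 203179861291136616515101 (vqc2 5 (vqc0 46 (vqc0 49 (vqc0 34 (vqc0 30 vqc1))))))
      vqy50)))))))));
      (let vqy51 : type_of% vqy35 := (let vqy52 : type_of% vqy35 := (let vqy53 : type_of% vqy35 := (let vqy54 : type_of% vqy35 := (vqc0 (vqc2 203176998564351430391648 (vqc2 5 (vqc0 25 (vqc0 27 (vqc0 60 (vqc0 31 (vqc0 18 (vqc0 15 vqc1))))))))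
      (vqc0 (vqc2 203176998564351438159986 (vqc2 9 (vqc0 18 (vqc0 16 (vqc0 34 (vqc0 30 vqc1))))))
      (vqc0 (vqc2 203177771868300119393821 (vqc2 2 (vqc0 49 (vqc0 109 (vqc0 34 (vqc0 32 (vqc0 31 (vqc0 2 vqc1))))))))
      (vqc0 (vqc2 203177771868300123702386 (vqc2 9 (vqc0 73 (vqc0 97 (vqc0 60 (vqc0 2 (vqc0 16 (vqc0 15 vqc1))))))))
      (vqc0 (vqc2 203177771868471246747421 (vqc2 7 (vqc0 49 (vqc0 109 (vqc0 34 (vqc0 32 (vqc0 31 (vqc0 2 vqc1))))))))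
      (vqc0 (vqc2 203177771868471254515826 (vqc2 10 (vqc0 62 (vqc0 25 (vqc0 75 (vqc0 9 vqc1))))))
      vqy35))))));
      (vqc0 (vqc2 203176980059446673146228 (vqc2 5 (vqc0 14 (vqc0 93 (vqc0 31 (vqc0 2 (vqc0 16 (vqc0 15 vqc1))))))))
      (vqc0 (vqc2 203176980059570734921501 (vqc2 4 (vqc0 14 (vqc0 93 (vqc0 31 (vqc0 2 (vqc0 16 (vqc0 15 vqc1))))))))
      (vqc0 (vqc2 203176980059570742689908 (vqc2 2 (vqc0 9 (vqc0 11 (vqc0 60 (vqc0 31 (vqc0 34 (vqc0 30 vqc1))))))))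
      (vqc0 (vqc2 203176998564227362936946 (vqc2 7 (vqc0 27 (vqc0 25 (vqc0 31 (vqc0 2 (vqc0 18 (vqc0 15 vqc1))))))))
      (vqc0 (vqc2 203176998564227368616288 (vqc2 4 (vqc0 48 (vqc0 64 (vqc0 28 (vqc0 97 (vqc0 60 (vqc0 2 vqc1))))))))
      vqy54))))));
      (let vqy55 : type_of% vqy53 := (vqc0 (vqc2 203143938013002844864871 (vqc2 9 (vqc0 70 (vqc0 3 (vqc0 79 (vqc0 43 (vqc0 113 (vqc0 35 vqc1))))))))
      (vqc0 (vqc2 203143938013002844930162 (vqc2 10 (vqc0 60 (vqc0 2 (vqc0 16 (vqc0 15 vqc1))))))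
      (vqc0 (vqc2 203143938013148303738471 (vqc2 2 (vqc0 34 (vqc0 32 (vqc0 18 (vqc0 15 vqc1))))))
      (vqc0 (vqc2 203143938013148307916402 (vqc2 7 (vqc0 34 (vqc0 32 (vqc0 18 (vqc0 15 vqc1))))))
      (vqc0 (vqc2 203176980059446667466781 (vqc2 3 (vqc0 101 (vqc0 67 (vqc0 23 (vqc0 22 (vqc0 69 (vqc0 19 (vqc0 60 (vqc0 2 vqc1))))))))))
      vqy53)))));
      (vqc0 (vqc2 203140105078458121934962 (vqc2 10 (vqc0 102 (vqc0 11 (vqc0 75 (vqc0 95 (vqc0 27 (vqc0 25 vqc1))))))))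
      (vqc0 (vqc2 203143929321363427295584 (vqc2 10 (vqc0 60 (vqc0 2 vqc1))))
      (vqc0 (vqc2 203143929321363427360842 (vqc2 9 (vqc0 25 (vqc0 27 (vqc0 18 (vqc0 16 (vqc0 60 (vqc0 2 vqc1))))))))
      (vqc0 (vqc2 203143929321508886169162 (vqc2 2 (vqc0 49 (vqc0 34 (vqc0 32 (vqc0 77 (vqc0 18 (vqc0 15 vqc1))))))))
      (vqc0 (vqc2 203143929321508890347104 (vqc2 7 (vqc0 49 (vqc0 34 (vqc0 32 (vqc0 77 (vqc0 18 (vqc0 15 vqc1))))))))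
      vqy55)))))));
      (let vqy56 : type_of% vqy52 := (let vqy57 : type_of% vqy52 := (vqc0 (vqc2 203140087134056146337866 (vqc2 2 (vqc0 1 (vqc0 88 (vqc0 111 (vqc0 42 vqc1))))))
      (vqc0 (vqc2 203140087134428354606922 (vqc2 9 (vqc0 70 (vqc0 43 (vqc0 92 (vqc0 8 vqc1))))))
      (vqc0 (vqc2 203140087134428356630631 (vqc2 10 (vqc0 11 (vqc0 75 (vqc0 27 (vqc0 25 vqc1))))))
      (vqc0 (vqc2 203140105078085911576928 (vqc2 2 (vqc0 15 (vqc0 16 (vqc0 113 (vqc0 35 (vqc0 92 (vqc0 8 vqc1))))))))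
      (vqc0 (vqc2 203140105078085911642226 (vqc2 7 (vqc0 30 (vqc0 32 (vqc0 113 (vqc0 35 (vqc0 92 (vqc0 8 vqc1))))))))
      (vqc0 (vqc2 203140105078458119911264 (vqc2 9 (vqc0 70 (vqc0 43 (vqc0 92 (vqc0 8 (vqc0 16 (vqc0 15 vqc1))))))))
      vqy52))))));
      (vqc0 (vqc2 203137635691664188524106 (vqc2 1 (vqc0 79 (vqc0 17 (vqc0 74 (vqc0 27 (vqc0 111 (vqc0 42 vqc1))))))))
      (vqc0 (vqc2 203137635691664192702066 (vqc2 6 (vqc0 34 (vqc0 32 (vqc0 18 (vqc0 15 vqc1))))))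
      (vqc0 (vqc2 203137635691890937984842 (vqc2 6 (vqc0 34 (vqc0 32 (vqc0 31 (vqc0 2 vqc1))))))
      (vqc0 (vqc2 203137635691890940008562 (vqc2 8 (vqc0 62 (vqc0 25 vqc1))))
      (vqc0 (vqc2 203140087134056146272615 (vqc2 7 (vqc0 113 (vqc0 35 (vqc0 92 (vqc0 8 vqc1))))))
      vqy57))))));
      (let vqy58 : type_of% vqy56 := (vqc0 (vqc2 203088453645995139925620 (vqc2 4 (vqc0 14 (vqc0 77 (vqc0 16 (vqc0 15 vqc1))))))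
      (vqc0 (vqc2 203137635411288723441255 (vqc2 3 (vqc0 34 (vqc0 30 vqc1))))
      (vqc0 (vqc2 203137635411288727619168 (vqc2 3 (vqc0 46 (vqc0 109 (vqc0 34 (vqc0 30 vqc1))))))
      (vqc0 (vqc2 203137635411515472901984 (vqc2 10 (vqc0 31 (vqc0 2 vqc1))))
      (vqc0 (vqc2 203137635411515474925671 (vqc2 10 (vqc0 41 (vqc0 76 (vqc0 11 (vqc0 9 vqc1))))))
      vqy56)))));
      (vqc0 (vqc2 203088439907597345511487 (vqc2 2 (vqc0 102 (vqc0 64 (vqc0 75 (vqc0 9 (vqc0 34 (vqc0 30 vqc1))))))))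
      (vqc0 (vqc2 203088439907597350864480 (vqc2 5 (vqc0 117 (vqc0 7 (vqc0 88 (vqc0 70 (vqc0 16 (vqc0 15 vqc1))))))))
      (vqc0 (vqc2 203088453645802615604327 (vqc2 5 (vqc0 14 (vqc0 77 (vqc0 16 (vqc0 15 vqc1))))))
      (vqc0 (vqc2 203088453645802615865460 (vqc2 2 (vqc0 43 (vqc0 12 (vqc0 57 (vqc0 63 (vqc0 92 (vqc0 8 vqc1))))))))
      (vqc0 (vqc2 203088453645995134572647 (vqc2 3 (vqc0 75 (vqc0 9 (vqc0 34 (vqc0 30 vqc1))))))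
      vqy58))))))));
      (let vqy59 : type_of% vqy51 := (let vqy60 : type_of% vqy51 := (let vqy61 : type_of% vqy51 := (vqc0 (vqc2 203085562545948747367520 (vqc2 2 (vqc0 107 (vqc0 61 (vqc0 55 (vqc0 43 (vqc0 92 (vqc0 8 vqc1))))))))
      (vqc0 (vqc2 203085562545948747628660 (vqc2 5 (vqc0 16 (vqc0 15 vqc1))))
      (vqc0 (vqc2 203085562546312398141280 (vqc2 4 (vqc0 16 (vqc0 15 vqc1))))
      (vqc0 (vqc2 203085562546312401340020 (vqc2 3 (vqc0 28 (vqc0 102 (vqc0 60 (vqc0 2 vqc1))))))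
      (vqc0 (vqc2 203088439907404826543200 (vqc2 3 (vqc0 59 (vqc0 61 (vqc0 75 (vqc0 9 (vqc0 34 (vqc0 30 vqc1))))))))
      (vqc0 (vqc2 203088439907404826804287 (vqc2 4 (vqc0 117 (vqc0 7 (vqc0 88 (vqc0 70 (vqc0 16 (vqc0 15 vqc1))))))))
      vqy51))))));
      (vqc0 (vqc2 203082296304086336095860 (vqc2 1 (vqc0 60 (vqc0 31 (vqc0 34 (vqc0 30 vqc1))))))
      (vqc0 (vqc2 203085539555160610571367 (vqc2 4 (vqc0 14 (vqc0 93 (vqc0 16 (vqc0 15 vqc1))))))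
      (vqc0 (vqc2 203085539555160610832447 (vqc2 3 (vqc0 101 (vqc0 67 (vqc0 43 (vqc0 6 (vqc0 62 (vqc0 25 (vqc0 18 (vqc0 15 vqc1))))))))))
      (vqc0 (vqc2 203085539555524261345087 (vqc2 5 (vqc0 14 (vqc0 93 (vqc0 16 (vqc0 15 vqc1))))))
      (vqc0 (vqc2 203085539555524264543847 (vqc2 2 (vqc0 60 (vqc0 2 (vqc0 75 (vqc0 9 (vqc0 34 (vqc0 30 vqc1))))))))
      vqy61))))));
      (let vqy62 : type_of% vqy60 := (vqc0 (vqc2 203082295182584472565600 (vqc2 2 (vqc0 106 (vqc0 55 (vqc0 70 (vqc0 0 (vqc0 31 (vqc0 2 vqc1))))))))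
      (vqc0 (vqc2 203082295182584475764327 (vqc2 2 (vqc0 60 (vqc0 2 (vqc0 34 (vqc0 30 vqc1))))))
      (vqc0 (vqc2 203082296303915201091647 (vqc2 1 (vqc0 95 (vqc0 76 (vqc0 75 (vqc0 11 (vqc0 34 (vqc0 30 vqc1))))))))
      (vqc0 (vqc2 203082296303915206444660 (vqc2 3 (vqc0 70 (vqc0 113 (vqc0 99 (vqc0 4 (vqc0 16 (vqc0 15 (vqc0 92 (vqc0 8 vqc1))))))))))
      (vqc0 (vqc2 203082296304086332897087 (vqc2 3 (vqc0 70 (vqc0 107 (vqc0 106 (vqc0 43 (vqc0 92 (vqc0 8 vqc1))))))))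
      vqy60)))));
      (vqc0 (vqc2 203069214197826114027892 (vqc2 4 (vqc0 70 (vqc0 43 (vqc0 92 (vqc0 8 (vqc0 16 (vqc0 15 vqc1))))))))
      (vqc0 (vqc2 203069214198112757110898 (vqc2 7 (vqc0 95 (vqc0 2 (vqc0 109 (vqc0 76 (vqc0 75 (vqc0 11 (vqc0 34 (vqc0 30 vqc1))))))))))
      (vqc0 (vqc2 203069214198112758285940 (vqc2 5 (vqc0 60 (vqc0 2 (vqc0 16 (vqc0 15 vqc1))))))
      (vqc0 (vqc2 203082295182413340760167 (vqc2 2 (vqc0 27 (vqc0 25 (vqc0 31 (vqc0 2 (vqc0 18 (vqc0 15 vqc1))))))))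
      (vqc0 (vqc2 203082295182413346113120 (vqc2 2 (vqc0 95 (vqc0 76 (vqc0 60 (vqc0 2 (vqc0 34 (vqc0 30 vqc1))))))))
      vqy62)))))));
      (let vqy63 : type_of% vqy59 := (let vqy64 : type_of% vqy59 := (vqc0 (vqc2 203068701139629025724020 (vqc2 7 (vqc0 2 (vqc0 60 (vqc0 75 (vqc0 11 (vqc0 34 (vqc0 30 vqc1))))))))
      (vqc0 (vqc2 203069182515398559466570 (vqc2 5 (vqc0 46 (vqc0 49 (vqc0 75 (vqc0 11 (vqc0 34 (vqc0 30 vqc1))))))))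
      (vqc0 (vqc2 203069182515398559662399 (vqc2 7 (vqc0 95 (vqc0 49 (vqc0 60 (vqc0 41 (vqc0 75 (vqc0 11 (vqc0 34 (vqc0 30 vqc1))))))))))
      (vqc0 (vqc2 203069182515685202745407 (vqc2 9 (vqc0 102 (vqc0 76 (vqc0 75 (vqc0 64 (vqc0 27 (vqc0 25 vqc1))))))))
      (vqc0 (vqc2 203069182515685203920458 (vqc2 4 (vqc0 60 (vqc0 31 (vqc0 75 (vqc0 11 (vqc0 34 (vqc0 30 vqc1))))))))
      (vqc0 (vqc2 203069214197826113832050 (vqc2 9 (vqc0 16 (vqc0 15 vqc1))))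
      vqy59))))));
      (vqc0 (vqc2 203068696092870646855487 (vqc2 4 (vqc0 95 (vqc0 76 (vqc0 75 (vqc0 11 (vqc0 34 (vqc0 30 vqc1))))))))
      (vqc0 (vqc2 203068696092870654232178 (vqc2 9 (vqc0 14 (vqc0 93 (vqc0 16 (vqc0 15 vqc1))))))
      (vqc0 (vqc2 203068701139312431924298 (vqc2 4 (vqc0 101 (vqc0 73 (vqc0 70 (vqc0 67 (vqc0 92 (vqc0 8 (vqc0 16 (vqc0 15 vqc1))))))))))
      (vqc0 (vqc2 203068701139312432120180 (vqc2 9 (vqc0 11 (vqc0 75 (vqc0 27 (vqc0 25 vqc1))))))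
      (vqc0 (vqc2 203068701139629018347338 (vqc2 5 (vqc0 75 (vqc0 11 (vqc0 34 (vqc0 30 vqc1))))))
      vqy64))))));
      (let vqy65 : type_of% vqy63 := (vqc0 (vqc2 203063849561035313268340 (vqc2 2 (vqc0 41 (vqc0 32 (vqc0 34 (vqc0 72 (vqc0 60 (vqc0 2 (vqc0 18 (vqc0 15 vqc1))))))))))
      (vqc0 (vqc2 203063849561065255237439 (vqc2 2 (vqc0 32 (vqc0 34 (vqc0 60 (vqc0 2 (vqc0 18 (vqc0 15 vqc1))))))))
      (vqc0 (vqc2 203063849561065262614132 (vqc2 2 (vqc0 2 (vqc0 60 (vqc0 75 (vqc0 11 (vqc0 34 (vqc0 30 vqc1))))))))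
      (vqc0 (vqc2 203068696092554060432498 (vqc2 7 (vqc0 70 (vqc0 40 (vqc0 1 (vqc0 45 (vqc0 99 (vqc0 35 (vqc0 18 (vqc0 15 vqc1))))))))))
      (vqc0 (vqc2 203068696092554060628287 (vqc2 5 (vqc0 73 (vqc0 97 (vqc0 60 (vqc0 2 (vqc0 16 (vqc0 15 vqc1))))))))
      vqy63)))));
      (vqc0 (vqc2 203063848719908916844658 (vqc2 10 (vqc0 16 (vqc0 15 vqc1))))
      (vqc0 (vqc2 203063848719908918019658 (vqc2 3 (vqc0 46 (vqc0 109 (vqc0 75 (vqc0 11 (vqc0 34 (vqc0 30 vqc1))))))))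
      (vqc0 (vqc2 203063848719938859988810 (vqc2 3 (vqc0 75 (vqc0 11 (vqc0 34 (vqc0 30 vqc1))))))
      (vqc0 (vqc2 203063848719938867365490 (vqc2 10 (vqc0 62 (vqc0 25 vqc1))))
      (vqc0 (vqc2 203063849561035312093247 (vqc2 2 (vqc0 95 (vqc0 2 (vqc0 109 (vqc0 76 (vqc0 75 (vqc0 11 (vqc0 34 (vqc0 30 vqc1))))))))))
      vqy65)))))))))));
      (let vqy66 : type_of% vqy2 := (let vqy67 : type_of% vqy2 := (let vqy68 : type_of% vqy2 := (let vqy69 : type_of% vqy2 := (let vqy70 : type_of% vqy2 := (let vqy71 : type_of% vqy2 := (vqc0 (vqc2 417771917599712460679994 (vqc2 8 (vqc0 41 (vqc0 95 (vqc0 11 (vqc0 9 vqc1))))))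
      (vqc0 (vqc2 417771917599712463225930 (vqc2 10 (vqc0 31 (vqc0 2 (vqc0 34 (vqc0 30 vqc1))))))
      (vqc0 (vqc2 417771935543725112951136 (vqc2 9 (vqc0 3 (vqc0 75 (vqc0 81 (vqc0 43 (vqc0 113 (vqc0 35 vqc1))))))))
      (vqc0 (vqc2 417771935543725113016404 (vqc2 9 (vqc0 9 (vqc0 11 (vqc0 60 (vqc0 31 (vqc0 34 (vqc0 30 vqc1))))))))
      (vqc0 (vqc2 417771935543742225984340 (vqc2 10 (vqc0 41 (vqc0 95 (vqc0 11 (vqc0 9 vqc1))))))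
      (vqc0 (vqc2 417771935543742228530272 (vqc2 6 (vqc0 3 (vqc0 75 (vqc0 81 (vqc0 43 (vqc0 113 (vqc0 35 vqc1))))))))
      vqy2))))));
      (vqc0 (vqc2 417771783826513676271690 (vqc2 7 (vqc0 14 (vqc0 93 (vqc0 18 (vqc0 15 vqc1))))))
      (vqc0 (vqc2 417771783826539345757770 (vqc2 3 (vqc0 30 (vqc0 109 (vqc0 46 (vqc0 93 (vqc0 18 (vqc0 15 vqc1))))))))
      (vqc0 (vqc2 417771783826539349935712 (vqc2 6 (vqc0 56 (vqc0 20 (vqc0 81 (vqc0 3 vqc1))))))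
      (vqc0 (vqc2 417771917599695347646778 (vqc2 10 (vqc0 41 (vqc0 76 (vqc0 27 (vqc0 25 vqc1))))))
      (vqc0 (vqc2 417771917599695347712074 (vqc2 10 (vqc0 70 (vqc0 20 (vqc0 57 (vqc0 4 (vqc0 81 (vqc0 3 vqc1))))))))
      vqy71))))));
      (let vqy72 : type_of% vqy70 := (vqc0 (vqc2 417771772891870537974074 (vqc2 2 (vqc0 14 (vqc0 93 (vqc0 18 (vqc0 15 vqc1))))))
      (vqc0 (vqc2 417771772891870538039380 (vqc2 2 (vqc0 18 (vqc0 16 (vqc0 34 (vqc0 30 vqc1))))))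
      (vqc0 (vqc2 417771772891896207525434 (vqc2 1 (vqc0 31 (vqc0 2 (vqc0 34 (vqc0 30 vqc1))))))
      (vqc0 (vqc2 417771772891896211703380 (vqc2 3 (vqc0 14 (vqc0 93 (vqc0 18 (vqc0 15 vqc1))))))
      (vqc0 (vqc2 417771783826513676206432 (vqc2 7 (vqc0 18 (vqc0 15 (vqc0 34 (vqc0 30 vqc1))))))
      vqy70)))));
      (vqc0 (vqc2 417771483489440731891296 (vqc2 7 (vqc0 34 (vqc0 30 vqc1))))
      (vqc0 (vqc2 417771483769807636278100 (vqc2 10 (vqc0 70 (vqc0 4 (vqc0 81 (vqc0 3 vqc1))))))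
      (vqc0 (vqc2 417771483769807638824010 (vqc2 9 (vqc0 3 (vqc0 62 (vqc0 81 (vqc0 57 (vqc0 113 (vqc0 35 vqc1))))))))
      (vqc0 (vqc2 417771483769816192796234 (vqc2 2 (vqc0 15 (vqc0 16 (vqc0 34 (vqc0 30 vqc1))))))
      (vqc0 (vqc2 417771483769816196974164 (vqc2 7 (vqc0 15 (vqc0 16 (vqc0 34 (vqc0 30 vqc1))))))
      vqy72)))))));
      (let vqy73 : type_of% vqy69 := (let vqy74 : type_of% vqy69 := (vqc0 (vqc2 416369852668846402830710 (vqc2 4 (vqc0 34 (vqc0 30 (vqc0 11 (vqc0 9 (vqc0 31 (vqc0 2 vqc1))))))))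
      (vqc0 (vqc2 416369852668940522636912 (vqc2 5 (vqc0 2 (vqc0 60 (vqc0 48 (vqc0 44 (vqc0 16 (vqc0 15 vqc1))))))))
      (vqc0 (vqc2 416369852668940527206518 (vqc2 9 (vqc0 4 (vqc0 50 (vqc0 43 (vqc0 20 (vqc0 81 (vqc0 3 vqc1))))))))
      (vqc0 (vqc2 417771483489432171195194 (vqc2 10 (vqc0 9 (vqc0 64 (vqc0 28 (vqc0 76 (vqc0 27 (vqc0 25 vqc1))))))))
      (vqc0 (vqc2 417771483489432173741152 (vqc2 9 (vqc0 60 (vqc0 31 (vqc0 34 (vqc0 30 vqc1))))))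
      (vqc0 (vqc2 417771483489440727713338 (vqc2 2 (vqc0 34 (vqc0 30 vqc1))))
      vqy69))))));
      (vqc0 (vqc2 416369820425667917973076 (vqc2 5 (vqc0 0 (vqc0 4 (vqc0 23 (vqc0 10 (vqc0 60 (vqc0 2 vqc1))))))))
      (vqc0 (vqc2 416369820425667918299450 (vqc2 3 (vqc0 99 (vqc0 73 (vqc0 38 (vqc0 35 (vqc0 18 (vqc0 16 (vqc0 92 (vqc0 8 vqc1))))))))))
      (vqc0 (vqc2 416369820425762038105658 (vqc2 2 (vqc0 62 (vqc0 46 (vqc0 109 (vqc0 72 (vqc0 60 (vqc0 31 (vqc0 18 (vqc0 15 vqc1))))))))))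
      (vqc0 (vqc2 416369820425762042675284 (vqc2 4 (vqc0 31 (vqc0 2 (vqc0 48 (vqc0 44 (vqc0 16 (vqc0 15 vqc1))))))))
      (vqc0 (vqc2 416369852668846402504304 (vqc2 7 (vqc0 70 (vqc0 4 (vqc0 81 (vqc0 3 vqc1))))))
      vqy74))))));
      (let vqy75 : type_of% vqy73 := (vqc0 (vqc2 416368378094191210071152 (vqc2 7 (vqc0 109 (vqc0 46 (vqc0 60 (vqc0 31 (vqc0 34 (vqc0 30 vqc1))))))))
      (vqc0 (vqc2 416368397720294074156628 (vqc2 4 (vqc0 73 (vqc0 97 (vqc0 60 (vqc0 2 (vqc0 18 (vqc0 15 vqc1))))))))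
      (vqc0 (vqc2 416368397720294074483062 (vqc2 5 (vqc0 73 (vqc0 72 (vqc0 60 (vqc0 31 (vqc0 18 (vqc0 15 vqc1))))))))
      (vqc0 (vqc2 416368397720473758365524 (vqc2 9 (vqc0 31 (vqc0 60 (vqc0 48 (vqc0 44 (vqc0 16 (vqc0 15 vqc1))))))))
      (vqc0 (vqc2 416368397720473765872758 (vqc2 7 (vqc0 62 (vqc0 46 (vqc0 109 (vqc0 72 (vqc0 60 (vqc0 31 (vqc0 18 (vqc0 15 vqc1))))))))))
      vqy73)))));
      (vqc0 (vqc2 416366794440106295195450 (vqc2 6 (vqc0 31 (vqc0 2 vqc1))))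
      (vqc0 (vqc2 416366794440106302702710 (vqc2 7 (vqc0 31 (vqc0 2 (vqc0 62 (vqc0 25 (vqc0 18 (vqc0 15 vqc1))))))))
      (vqc0 (vqc2 416368378094011518355056 (vqc2 9 (vqc0 46 (vqc0 109 (vqc0 34 (vqc0 30 vqc1))))))
      (vqc0 (vqc2 416368378094011518681402 (vqc2 2 (vqc0 109 (vqc0 46 (vqc0 60 (vqc0 31 (vqc0 34 (vqc0 30 vqc1))))))))
      (vqc0 (vqc2 416368378094191202563898 (vqc2 10 (vqc0 34 (vqc0 32 (vqc0 31 (vqc0 2 vqc1))))))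
      vqy75))))))));
      (let vqy76 : type_of% vqy68 := (let vqy77 : type_of% vqy68 := (let vqy78 : type_of% vqy68 := (vqc0 (vqc2 416366793038143405704816 (vqc2 4 (vqc0 28 (vqc0 102 (vqc0 60 (vqc0 2 vqc1))))))
      (vqc0 (vqc2 416366793038143410274388 (vqc2 5 (vqc0 49 (vqc0 109 (vqc0 27 (vqc0 25 (vqc0 60 (vqc0 2 vqc1))))))))
      (vqc0 (vqc2 416366793038228969781076 (vqc2 9 (vqc0 61 (vqc0 59 (vqc0 31 (vqc0 2 vqc1))))))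
      (vqc0 (vqc2 416366793038228977288304 (vqc2 7 (vqc0 41 (vqc0 76 (vqc0 27 (vqc0 25 vqc1))))))
      (vqc0 (vqc2 416366794440020731119162 (vqc2 3 (vqc0 107 (vqc0 55 (vqc0 81 (vqc0 3 (vqc0 31 (vqc0 2 vqc1))))))))
      (vqc0 (vqc2 416366794440020735688822 (vqc2 7 (vqc0 31 (vqc0 2 vqc1))))
      vqy68))))));
      (vqc0 (vqc2 416868027193890395848778 (vqc2 9 (vqc0 2 (vqc0 60 (vqc0 48 (vqc0 44 (vqc0 16 (vqc0 15 vqc1))))))))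
      (vqc0 (vqc2 416868058876266609181808 (vqc2 7 (vqc0 9 (vqc0 64 (vqc0 28 (vqc0 76 (vqc0 27 (vqc0 25 vqc1))))))))
      (vqc0 (vqc2 416868058876266609377652 (vqc2 7 (vqc0 28 (vqc0 102 (vqc0 60 (vqc0 2 vqc1))))))
      (vqc0 (vqc2 416868058876317947407216 (vqc2 7 (vqc0 73 (vqc0 97 (vqc0 18 (vqc0 16 (vqc0 60 (vqc0 2 vqc1))))))))
      (vqc0 (vqc2 416868058876317950214260 (vqc2 7 (vqc0 73 (vqc0 72 (vqc0 60 (vqc0 31 (vqc0 18 (vqc0 15 vqc1))))))))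
      vqy78))))));
      (let vqy79 : type_of% vqy77 := (vqc0 (vqc2 416866452210648302909258 (vqc2 4 (vqc0 48 (vqc0 44 (vqc0 16 (vqc0 15 vqc1))))))
      (vqc0 (vqc2 416866452210648310285940 (vqc2 9 (vqc0 56 (vqc0 20 (vqc0 81 (vqc0 3 vqc1))))))
      (vqc0 (vqc2 416868027193839054816330 (vqc2 9 (vqc0 64 (vqc0 28 (vqc0 16 (vqc0 15 (vqc0 60 (vqc0 2 vqc1))))))))
      (vqc0 (vqc2 416868027193839055012154 (vqc2 6 (vqc0 60 (vqc0 2 vqc1))))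
      (vqc0 (vqc2 416868027193890393041722 (vqc2 10 (vqc0 48 (vqc0 44 (vqc0 16 (vqc0 15 vqc1))))))
      vqy77)))));
      (vqc0 (vqc2 416866440154357845721402 (vqc2 3 (vqc0 73 (vqc0 97 (vqc0 60 (vqc0 2 (vqc0 18 (vqc0 15 vqc1))))))))
      (vqc0 (vqc2 416866440154503304345402 (vqc2 2 (vqc0 73 (vqc0 72 (vqc0 60 (vqc0 31 (vqc0 18 (vqc0 15 vqc1))))))))
      (vqc0 (vqc2 416866440154503311722096 (vqc2 5 (vqc0 31 (vqc0 60 (vqc0 48 (vqc0 44 (vqc0 16 (vqc0 15 vqc1))))))))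
      (vqc0 (vqc2 416866452210502844089418 (vqc2 5 (vqc0 73 (vqc0 97 (vqc0 60 (vqc0 2 (vqc0 18 (vqc0 15 vqc1))))))))
      (vqc0 (vqc2 416866452210502844285300 (vqc2 7 (vqc0 48 (vqc0 47 (vqc0 31 (vqc0 2 vqc1))))))
      vqy79)))))));
      (let vqy80 : type_of% vqy76 := (let vqy81 : type_of% vqy76 := (vqc0 (vqc2 416865575701969081140848 (vqc2 7 (vqc0 70 (vqc0 20 (vqc0 57 (vqc0 4 (vqc0 81 (vqc0 3 vqc1))))))))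
      (vqc0 (vqc2 416865576543001348418362 (vqc2 2 (vqc0 73 (vqc0 97 (vqc0 18 (vqc0 16 (vqc0 60 (vqc0 2 vqc1))))))))
      (vqc0 (vqc2 416865576543001351225460 (vqc2 5 (vqc0 32 (vqc0 30 (vqc0 11 (vqc0 9 (vqc0 31 (vqc0 2 vqc1))))))))
      (vqc0 (vqc2 416865576543095469012794 (vqc2 3 (vqc0 51 (vqc0 54 (vqc0 22 (vqc0 23 (vqc0 96 (vqc0 60 (vqc0 111 (vqc0 42 vqc1))))))))))
      (vqc0 (vqc2 416865576543095476389492 (vqc2 4 (vqc0 32 (vqc0 30 (vqc0 11 (vqc0 9 (vqc0 31 (vqc0 2 vqc1))))))))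
      (vqc0 (vqc2 416866440154357845525616 (vqc2 4 (vqc0 31 (vqc0 2 (vqc0 34 (vqc0 30 vqc1))))))
      vqy76))))));
      (vqc0 (vqc2 415687467325874354858864 (vqc2 6 (vqc0 41 (vqc0 95 (vqc0 11 (vqc0 9 vqc1))))))
      (vqc0 (vqc2 415687467325874357600628 (vqc2 9 (vqc0 59 (vqc0 48 (vqc0 44 (vqc0 93 (vqc0 31 (vqc0 2 vqc1))))))))
      (vqc0 (vqc2 416865575701874953169776 (vqc2 9 (vqc0 47 (vqc0 44 (vqc0 60 (vqc0 2 vqc1))))))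
      (vqc0 (vqc2 416865575701874955976778 (vqc2 4 (vqc0 73 (vqc0 97 (vqc0 18 (vqc0 16 (vqc0 60 (vqc0 2 vqc1))))))))
      (vqc0 (vqc2 416865575701969073764170 (vqc2 5 (vqc0 115 (vqc0 21 (vqc0 88 (vqc0 43 (vqc0 34 (vqc0 30 vqc1))))))))
      vqy81))))));
      (let vqy82 : type_of% vqy80 := (vqc0 (vqc2 415687453587408114942036 (vqc2 7 (vqc0 73 (vqc0 97 (vqc0 60 (vqc0 2 (vqc0 18 (vqc0 15 vqc1))))))))
      (vqc0 (vqc2 415687453587476565797716 (vqc2 7 (vqc0 73 (vqc0 72 (vqc0 60 (vqc0 2 vqc1))))))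
      (vqc0 (vqc2 415687453587476568539488 (vqc2 7 (vqc0 3 (vqc0 62 (vqc0 81 (vqc0 57 (vqc0 113 (vqc0 35 vqc1))))))))
      (vqc0 (vqc2 415687467325805903742064 (vqc2 9 (vqc0 41 (vqc0 95 (vqc0 11 (vqc0 9 vqc1))))))
      (vqc0 (vqc2 415687467325805904003188 (vqc2 10 (vqc0 3 (vqc0 75 (vqc0 81 (vqc0 43 (vqc0 113 (vqc0 35 vqc1))))))))
      vqy80)))));
      (vqc0 (vqc2 415684275323704440783968 (vqc2 4 (vqc0 49 (vqc0 109 (vqc0 18 (vqc0 16 (vqc0 60 (vqc0 2 vqc1))))))))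
      (vqc0 (vqc2 415684275323704441045108 (vqc2 9 (vqc0 47 (vqc0 48 (vqc0 60 (vqc0 2 vqc1))))))
      (vqc0 (vqc2 415684275323961136805728 (vqc2 7 (vqc0 41 (vqc0 95 (vqc0 11 (vqc0 9 vqc1))))))
      (vqc0 (vqc2 415684275323961140004468 (vqc2 5 (vqc0 15 (vqc0 49 (vqc0 102 (vqc0 16 (vqc0 34 (vqc0 30 vqc1))))))))
      (vqc0 (vqc2 415687453587408114680928 (vqc2 7 (vqc0 70 (vqc0 0 (vqc0 18 (vqc0 16 (vqc0 92 (vqc0 8 vqc1))))))))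
      vqy82)))))))));
      (let vqy83 : type_of% vqy67 := (let vqy84 : type_of% vqy67 := (let vqy85 : type_of% vqy67 := (let vqy86 : type_of% vqy67 := (vqc0 (vqc2 415683111423833195050836 (vqc2 5 (vqc0 14 (vqc0 93 (vqc0 18 (vqc0 15 vqc1))))))
      (vqc0 (vqc2 415683111423833198249588 (vqc2 2 (vqc0 43 (vqc0 15 (vqc0 22 (vqc0 29 (vqc0 80 (vqc0 35 (vqc0 34 (vqc0 30 vqc1))))))))))
      (vqc0 (vqc2 415684263547934907303024 (vqc2 5 (vqc0 11 (vqc0 9 (vqc0 31 (vqc0 2 vqc1))))))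
      (vqc0 (vqc2 415684263547934907564116 (vqc2 2 (vqc0 49 (vqc0 109 (vqc0 18 (vqc0 16 (vqc0 60 (vqc0 2 vqc1))))))))
      (vqc0 (vqc2 415684263548191603324756 (vqc2 4 (vqc0 11 (vqc0 9 (vqc0 31 (vqc0 2 vqc1))))))
      (vqc0 (vqc2 415684263548191606523504 (vqc2 3 (vqc0 99 (vqc0 41 (vqc0 35 (vqc0 0 (vqc0 18 (vqc0 16 (vqc0 92 (vqc0 8 vqc1))))))))))
      vqy67))))));
      (vqc0 (vqc2 415683110302143092556128 (vqc2 5 (vqc0 107 (vqc0 73 (vqc0 57 (vqc0 55 (vqc0 92 (vqc0 8 vqc1))))))))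
      (vqc0 (vqc2 415683110302331334719328 (vqc2 9 (vqc0 70 (vqc0 20 (vqc0 57 (vqc0 4 (vqc0 81 (vqc0 3 vqc1))))))))
      (vqc0 (vqc2 415683110302331337918064 (vqc2 4 (vqc0 2 (vqc0 60 (vqc0 48 (vqc0 44 (vqc0 16 (vqc0 15 vqc1))))))))
      (vqc0 (vqc2 415683111423644950145876 (vqc2 3 (vqc0 107 (vqc0 55 (vqc0 40 (vqc0 37 (vqc0 81 (vqc0 3 (vqc0 31 (vqc0 2 vqc1))))))))))
      (vqc0 (vqc2 415683111423644952887668 (vqc2 4 (vqc0 14 (vqc0 93 (vqc0 18 (vqc0 15 vqc1))))))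
      vqy86))))));
      (let vqy87 : type_of% vqy85 := (vqc0 (vqc2 415650429692783762605680 (vqc2 4 (vqc0 31 (vqc0 60 (vqc0 48 (vqc0 44 (vqc0 16 (vqc0 15 vqc1))))))))
      (vqc0 (vqc2 415650429692783762997366 (vqc2 2 (vqc0 1 (vqc0 22 (vqc0 43 (vqc0 29 (vqc0 80 (vqc0 35 (vqc0 34 (vqc0 30 vqc1))))))))))
      (vqc0 (vqc2 415650429692894995629680 (vqc2 3 (vqc0 6 (vqc0 103 (vqc0 73 (vqc0 1 (vqc0 38 (vqc0 26 (vqc0 92 (vqc0 8 vqc1))))))))))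
      (vqc0 (vqc2 415650429692895000134006 (vqc2 5 (vqc0 64 (vqc0 109 (vqc0 102 (vqc0 16 (vqc0 34 (vqc0 30 vqc1))))))))
      (vqc0 (vqc2 415683110302143089814384 (vqc2 7 (vqc0 48 (vqc0 44 (vqc0 31 (vqc0 2 vqc1))))))
      vqy85)))));
      (vqc0 (vqc2 415648110011569881426806 (vqc2 9 (vqc0 14 (vqc0 93 (vqc0 31 (vqc0 2 vqc1))))))
      (vqc0 (vqc2 415650408384248416306784 (vqc2 9 (vqc0 70 (vqc0 4 (vqc0 81 (vqc0 3 vqc1))))))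
      (vqc0 (vqc2 415650408384248416698442 (vqc2 5 (vqc0 48 (vqc0 44 (vqc0 16 (vqc0 15 vqc1))))))
      (vqc0 (vqc2 415650408384359649330762 (vqc2 4 (vqc0 34 (vqc0 32 (vqc0 11 (vqc0 9 (vqc0 31 (vqc0 2 vqc1))))))))
      (vqc0 (vqc2 415650408384359653835104 (vqc2 7 (vqc0 41 (vqc0 77 (vqc0 25 (vqc0 95 (vqc0 11 (vqc0 9 vqc1))))))))
      vqy87)))))));
      (let vqy88 : type_of% vqy84 := (let vqy89 : type_of% vqy84 := (vqc0 (vqc2 415648090665414648266826 (vqc2 3 (vqc0 38 (vqc0 107 (vqc0 87 (vqc0 37 (vqc0 81 (vqc0 3 (vqc0 31 (vqc0 2 vqc1))))))))))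
      (vqc0 (vqc2 415648090665662785746762 (vqc2 7 (vqc0 62 (vqc0 25 (vqc0 18 (vqc0 15 vqc1))))))
      (vqc0 (vqc2 415648090665662790708080 (vqc2 6 (vqc0 41 (vqc0 76 (vqc0 27 (vqc0 25 vqc1))))))
      (vqc0 (vqc2 415648110011321738593888 (vqc2 5 (vqc0 109 (vqc0 49 (vqc0 75 (vqc0 9 (vqc0 31 (vqc0 2 vqc1))))))))
      (vqc0 (vqc2 415648110011321738985590 (vqc2 4 (vqc0 73 (vqc0 72 (vqc0 60 (vqc0 2 vqc1))))))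
      (vqc0 (vqc2 415648110011569876465504 (vqc2 7 (vqc0 56 (vqc0 57 (vqc0 92 (vqc0 8 (vqc0 16 (vqc0 15 vqc1))))))))
      vqy84))))));
      (vqc0 (vqc2 415646218498490400589386 (vqc2 2 (vqc0 107 (vqc0 55 (vqc0 81 (vqc0 3 (vqc0 31 (vqc0 2 vqc1))))))))
      (vqc0 (vqc2 415646218498490405093750 (vqc2 9 (vqc0 60 (vqc0 2 vqc1))))
      (vqc0 (vqc2 415646218498627305437002 (vqc2 7 (vqc0 88 (vqc0 0 (vqc0 110 (vqc0 42 (vqc0 31 (vqc0 2 vqc1))))))))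
      (vqc0 (vqc2 415646218498627310398326 (vqc2 10 (vqc0 89 (vqc0 82 (vqc0 4 (vqc0 1 (vqc0 75 (vqc0 9 vqc1))))))))
      (vqc0 (vqc2 415648090665414647875184 (vqc2 7 (vqc0 47 (vqc0 44 (vqc0 31 (vqc0 2 vqc1))))))
      vqy89))))));
      (let vqy90 : type_of% vqy88 := (vqc0 (vqc2 415594801183018988209270 (vqc2 4 (vqc0 105 (vqc0 21 (vqc0 88 (vqc0 4 (vqc0 16 (vqc0 15 vqc1))))))))
      (vqc0 (vqc2 415646216816237610092144 (vqc2 5 (vqc0 34 (vqc0 32 (vqc0 11 (vqc0 9 (vqc0 31 (vqc0 2 vqc1))))))))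
      (vqc0 (vqc2 415646216816237614596448 (vqc2 4 (vqc0 15 (vqc0 16 (vqc0 113 (vqc0 35 (vqc0 92 (vqc0 8 vqc1))))))))
      (vqc0 (vqc2 415646216816374514939744 (vqc2 7 (vqc0 43 (vqc0 1 (vqc0 80 (vqc0 35 (vqc0 34 (vqc0 30 vqc1))))))))
      (vqc0 (vqc2 415646216816374519901040 (vqc2 9 (vqc0 41 (vqc0 77 (vqc0 25 (vqc0 95 (vqc0 11 (vqc0 9 vqc1))))))))
      vqy88)))));
      (vqc0 (vqc2 415594767818338639038010 (vqc2 3 (vqc0 60 (vqc0 2 (vqc0 34 (vqc0 30 vqc1))))))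
      (vqc0 (vqc2 415594767818338643346528 (vqc2 5 (vqc0 60 (vqc0 2 (vqc0 34 (vqc0 30 vqc1))))))
      (vqc0 (vqc2 415594801182976202124150 (vqc2 3 (vqc0 48 (vqc0 44 (vqc0 31 (vqc0 2 vqc1))))))
      (vqc0 (vqc2 415594801182976204539508 (vqc2 5 (vqc0 14 (vqc0 77 (vqc0 31 (vqc0 2 (vqc0 18 (vqc0 15 vqc1))))))))
      (vqc0 (vqc2 415594801183018983900788 (vqc2 2 (vqc0 60 (vqc0 2 (vqc0 62 (vqc0 25 (vqc0 18 (vqc0 15 vqc1))))))))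
      vqy90))))))));
      (let vqy91 : type_of% vqy83 := (let vqy92 : type_of% vqy83 := (let vqy93 : type_of% vqy83 := (vqc0 (vqc2 415592769782467797592950 (vqc2 2 (vqc0 73 (vqc0 72 (vqc0 60 (vqc0 2 vqc1))))))
      (vqc0 (vqc2 415592769782467800008288 (vqc2 3 (vqc0 107 (vqc0 73 (vqc0 57 (vqc0 55 (vqc0 92 (vqc0 8 vqc1))))))))
      (vqc0 (vqc2 415592769782630368442208 (vqc2 4 (vqc0 64 (vqc0 102 (vqc0 16 (vqc0 15 (vqc0 60 (vqc0 2 vqc1))))))))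
      (vqc0 (vqc2 415592769782630376210550 (vqc2 5 (vqc0 105 (vqc0 21 (vqc0 88 (vqc0 4 (vqc0 16 (vqc0 15 vqc1))))))))
      (vqc0 (vqc2 415594767818295857261370 (vqc2 2 (vqc0 60 (vqc0 31 (vqc0 62 (vqc0 25 (vqc0 18 (vqc0 15 vqc1))))))))
      (vqc0 (vqc2 415594767818295859676768 (vqc2 4 (vqc0 95 (vqc0 76 (vqc0 60 (vqc0 2 (vqc0 34 (vqc0 30 vqc1))))))))
      vqy83))))));
      (vqc0 (vqc2 415592041609064816771188 (vqc2 4 (vqc0 87 (vqc0 85 (vqc0 16 (vqc0 15 (vqc0 60 (vqc0 2 vqc1))))))))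
      (vqc0 (vqc2 415592751277687102122810 (vqc2 1 (vqc0 73 (vqc0 97 (vqc0 60 (vqc0 2 vqc1))))))
      (vqc0 (vqc2 415592751277687104538228 (vqc2 2 (vqc0 47 (vqc0 44 (vqc0 31 (vqc0 2 vqc1))))))
      (vqc0 (vqc2 415592751277849672972090 (vqc2 2 (vqc0 62 (vqc0 25 (vqc0 18 (vqc0 15 vqc1))))))
      (vqc0 (vqc2 415592751277849680740468 (vqc2 3 (vqc0 62 (vqc0 25 (vqc0 18 (vqc0 15 vqc1))))))
      vqy93))))));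
      (let vqy94 : type_of% vqy92 := (vqc0 (vqc2 415592031235172600936250 (vqc2 3 (vqc0 31 (vqc0 2 vqc1))))
      (vqc0 (vqc2 415592031235172608704630 (vqc2 2 (vqc0 31 (vqc0 2 (vqc0 62 (vqc0 25 (vqc0 18 (vqc0 15 vqc1))))))))
      (vqc0 (vqc2 415592041608945019930228 (vqc2 2 (vqc0 28 (vqc0 102 (vqc0 60 (vqc0 2 vqc1))))))
      (vqc0 (vqc2 415592041608945024238688 (vqc2 3 (vqc0 107 (vqc0 61 (vqc0 55 (vqc0 43 (vqc0 92 (vqc0 8 vqc1))))))))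
      (vqc0 (vqc2 415592041609064809002848 (vqc2 5 (vqc0 11 (vqc0 75 (vqc0 60 (vqc0 2 (vqc0 34 (vqc0 30 vqc1))))))))
      vqy92)))));
      (vqc0 (vqc2 415576354439933486040182 (vqc2 5 (vqc0 60 (vqc0 31 (vqc0 62 (vqc0 25 (vqc0 18 (vqc0 15 vqc1))))))))
      (vqc0 (vqc2 415576354440096061467510 (vqc2 7 (vqc0 41 (vqc0 109 (vqc0 49 (vqc0 31 (vqc0 75 (vqc0 11 (vqc0 34 (vqc0 30 vqc1))))))))))
      (vqc0 (vqc2 415576354440096059704948 (vqc2 4 (vqc0 60 (vqc0 2 (vqc0 62 (vqc0 25 (vqc0 18 (vqc0 15 vqc1))))))))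
      (vqc0 (vqc2 415592031235052811863610 (vqc2 1 (vqc0 107 (vqc0 61 (vqc0 55 (vqc0 43 (vqc0 92 (vqc0 8 vqc1))))))))
      (vqc0 (vqc2 415592031235052816172150 (vqc2 2 (vqc0 31 (vqc0 2 vqc1))))
      vqy94)))))));
      (let vqy95 : type_of% vqy91 := (let vqy96 : type_of% vqy91 := (vqc0 (vqc2 415575180202428249604468 (vqc2 7 (vqc0 109 (vqc0 60 (vqc0 49 (vqc0 31 (vqc0 75 (vqc0 11 (vqc0 34 (vqc0 30 vqc1))))))))))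
      (vqc0 (vqc2 415576321355628606129748 (vqc2 7 (vqc0 110 (vqc0 88 (vqc0 109 (vqc0 4 (vqc0 23 (vqc0 10 (vqc0 60 (vqc0 2 vqc1))))))))))
      (vqc0 (vqc2 415576321355628606260298 (vqc2 4 (vqc0 60 (vqc0 31 (vqc0 62 (vqc0 25 (vqc0 18 (vqc0 15 vqc1))))))))
      (vqc0 (vqc2 415576321355791181687636 (vqc2 9 (vqc0 41 (vqc0 76 (vqc0 27 (vqc0 25 vqc1))))))
      (vqc0 (vqc2 415576321355791179925066 (vqc2 5 (vqc0 60 (vqc0 2 (vqc0 62 (vqc0 25 (vqc0 18 (vqc0 15 vqc1))))))))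
      (vqc0 (vqc2 415576354439933485909620 (vqc2 9 (vqc0 31 (vqc0 2 (vqc0 62 (vqc0 25 (vqc0 18 (vqc0 15 vqc1))))))))
      vqy91))))));
      (vqc0 (vqc2 415575187772565799139156 (vqc2 5 (vqc0 31 (vqc0 2 (vqc0 62 (vqc0 25 (vqc0 18 (vqc0 15 vqc1))))))))
      (vqc0 (vqc2 415575187772565806842230 (vqc2 4 (vqc0 31 (vqc0 2 (vqc0 62 (vqc0 25 (vqc0 18 (vqc0 15 vqc1))))))))
      (vqc0 (vqc2 415575180202197219804788 (vqc2 10 (vqc0 27 (vqc0 25 (vqc0 60 (vqc0 2 vqc1))))))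
      (vqc0 (vqc2 415575180202197219935306 (vqc2 2 (vqc0 109 (vqc0 60 (vqc0 49 (vqc0 31 (vqc0 75 (vqc0 11 (vqc0 34 (vqc0 30 vqc1))))))))))
      (vqc0 (vqc2 415575180202428241901386 (vqc2 9 (vqc0 9 (vqc0 64 (vqc0 28 (vqc0 76 (vqc0 27 (vqc0 25 vqc1))))))))
      vqy96))))));
      (let vqy97 : type_of% vqy95 := (vqc0 (vqc2 415572431526645084145226 (vqc2 2 (vqc0 88 (vqc0 0 (vqc0 110 (vqc0 42 (vqc0 31 (vqc0 2 vqc1))))))))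
      (vqc0 (vqc2 415572431526713532446538 (vqc2 7 (vqc0 107 (vqc0 55 (vqc0 81 (vqc0 3 (vqc0 31 (vqc0 2 vqc1))))))))
      (vqc0 (vqc2 415572431526713540149622 (vqc2 9 (vqc0 60 (vqc0 2 (vqc0 62 (vqc0 25 (vqc0 18 (vqc0 15 vqc1))))))))
      (vqc0 (vqc2 415575187772334777042516 (vqc2 2 (vqc0 73 (vqc0 97 (vqc0 60 (vqc0 2 (vqc0 18 (vqc0 15 vqc1))))))))
      (vqc0 (vqc2 415575187772334777173110 (vqc2 3 (vqc0 73 (vqc0 72 (vqc0 60 (vqc0 31 (vqc0 18 (vqc0 15 vqc1))))))))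
      vqy95)))));
      (vqc0 (vqc2 415572430965894155742036 (vqc2 2 (vqc0 41 (vqc0 109 (vqc0 49 (vqc0 31 (vqc0 75 (vqc0 11 (vqc0 34 (vqc0 30 vqc1))))))))))
      (vqc0 (vqc2 415572430965894153979508 (vqc2 3 (vqc0 62 (vqc0 46 (vqc0 109 (vqc0 72 (vqc0 60 (vqc0 31 (vqc0 18 (vqc0 15 vqc1))))))))))
      (vqc0 (vqc2 415572430965962602280788 (vqc2 4 (vqc0 62 (vqc0 25 (vqc0 18 (vqc0 15 vqc1))))))
      (vqc0 (vqc2 415572430965962609983860 (vqc2 5 (vqc0 62 (vqc0 25 (vqc0 18 (vqc0 15 vqc1))))))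
      (vqc0 (vqc2 415572431526645085907830 (vqc2 10 (vqc0 105 (vqc0 21 (vqc0 88 (vqc0 4 (vqc0 16 (vqc0 15 vqc1))))))))
      vqy97))))))))));
      (let vqy98 : type_of% vqy66 := (let vqy99 : type_of% vqy66 := (let vqy100 : type_of% vqy66 := (let vqy101 : type_of% vqy66 := (let vqy102 : type_of% vqy66 := (vqc0 (vqc2 332769320927841398893357 (vqc2 10 (vqc0 71 (vqc0 21 (vqc0 43 (vqc0 4 (vqc0 75 (vqc0 9 vqc1))))))))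
      (vqc0 (vqc2 332769320927841401635135 (vqc2 9 (vqc0 95 (vqc0 93 (vqc0 77 (vqc0 62 (vqc0 11 (vqc0 9 vqc1))))))))
      (vqc0 (vqc2 332769343918603866473568 (vqc2 7 (vqc0 73 (vqc0 97 (vqc0 60 (vqc0 2 vqc1))))))
      (vqc0 (vqc2 332769343918603866734676 (vqc2 7 (vqc0 60 (vqc0 2 (vqc0 16 (vqc0 15 vqc1))))))
      (vqc0 (vqc2 332769343918629535689556 (vqc2 7 (vqc0 62 (vqc0 27 (vqc0 60 (vqc0 31 (vqc0 18 (vqc0 15 vqc1))))))))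
      (vqc0 (vqc2 332769343918629538431328 (vqc2 7 (vqc0 73 (vqc0 72 (vqc0 60 (vqc0 2 (vqc0 18 (vqc0 15 vqc1))))))))
      vqy66))))));
      (vqc0 (vqc2 332769043016356272013375 (vqc2 7 (vqc0 75 (vqc0 9 vqc1))))
      (vqc0 (vqc2 332769043016399054067775 (vqc2 4 (vqc0 102 (vqc0 64 (vqc0 75 (vqc0 9 (vqc0 34 (vqc0 30 vqc1))))))))
      (vqc0 (vqc2 332769043016399059420768 (vqc2 9 (vqc0 75 (vqc0 9 (vqc0 62 (vqc0 25 vqc1))))))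
      (vqc0 (vqc2 332769320927815729677357 (vqc2 9 (vqc0 102 (vqc0 28 (vqc0 75 (vqc0 9 vqc1))))))
      (vqc0 (vqc2 332769320927815729938495 (vqc2 6 (vqc0 102 (vqc0 28 (vqc0 75 (vqc0 9 vqc1))))))
      vqy102))))));
      (let vqy103 : type_of% vqy101 := (vqc0 (vqc2 332769031240586738271277 (vqc2 4 (vqc0 47 (vqc0 44 (vqc0 60 (vqc0 2 (vqc0 16 (vqc0 15 vqc1))))))))
      (vqc0 (vqc2 332769031240586738532436 (vqc2 3 (vqc0 43 (vqc0 80 (vqc0 113 (vqc0 0 (vqc0 34 (vqc0 32 (vqc0 92 (vqc0 8 vqc1))))))))))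
      (vqc0 (vqc2 332769031240629520586797 (vqc2 2 (vqc0 1 (vqc0 30 (vqc0 40 (vqc0 45 (vqc0 99 (vqc0 35 (vqc0 18 (vqc0 15 vqc1))))))))))
      (vqc0 (vqc2 332769031240629525939796 (vqc2 5 (vqc0 70 (vqc0 8 (vqc0 65 (vqc0 4 (vqc0 107 (vqc0 55 (vqc0 16 (vqc0 15 vqc1))))))))))
      (vqc0 (vqc2 332769043016356271752288 (vqc2 5 (vqc0 15 (vqc0 102 (vqc0 28 (vqc0 109 (vqc0 34 (vqc0 30 vqc1))))))))
      vqy101)))));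
      (vqc0 (vqc2 332768598570709468841568 (vqc2 7 (vqc0 87 (vqc0 86 (vqc0 16 (vqc0 15 (vqc0 60 (vqc0 2 vqc1))))))))
      (vqc0 (vqc2 332768599692194210720596 (vqc2 2 (vqc0 62 (vqc0 27 (vqc0 60 (vqc0 31 (vqc0 18 (vqc0 15 vqc1))))))))
      (vqc0 (vqc2 332768599692194213462335 (vqc2 5 (vqc0 14 (vqc0 77 (vqc0 18 (vqc0 15 vqc1))))))
      (vqc0 (vqc2 332768599692211323820095 (vqc2 3 (vqc0 30 (vqc0 34 (vqc0 60 (vqc0 2 (vqc0 18 (vqc0 15 vqc1))))))))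
      (vqc0 (vqc2 332768599692211329173076 (vqc2 4 (vqc0 14 (vqc0 77 (vqc0 18 (vqc0 15 vqc1))))))
      vqy103)))))));
      (let vqy104 : type_of% vqy100 := (let vqy105 : type_of% vqy100 := (vqc0 (vqc2 331367111858658933605494 (vqc2 3 (vqc0 37 (vqc0 38 (vqc0 88 (vqc0 70 (vqc0 110 (vqc0 42 (vqc0 31 (vqc0 2 vqc1))))))))))
      (vqc0 (vqc2 331367111858800113506412 (vqc2 7 (vqc0 11 (vqc0 75 (vqc0 60 (vqc0 2 (vqc0 34 (vqc0 30 vqc1))))))))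
      (vqc0 (vqc2 331367111858800119251062 (vqc2 6 (vqc0 75 (vqc0 9 vqc1))))
      (vqc0 (vqc2 332768598570692350389037 (vqc2 9 (vqc0 30 (vqc0 32 (vqc0 18 (vqc0 15 vqc1))))))
      (vqc0 (vqc2 332768598570692353130848 (vqc2 4 (vqc0 62 (vqc0 27 (vqc0 60 (vqc0 31 (vqc0 18 (vqc0 15 vqc1))))))))
      (vqc0 (vqc2 332768598570709463488557 (vqc2 5 (vqc0 30 (vqc0 34 (vqc0 60 (vqc0 2 (vqc0 18 (vqc0 15 vqc1))))))))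
      vqy100))))));
      (vqc0 (vqc2 331367078774354053695060 (vqc2 4 (vqc0 34 (vqc0 32 (vqc0 31 (vqc0 2 vqc1))))))
      (vqc0 (vqc2 331367078774354053825581 (vqc2 5 (vqc0 48 (vqc0 44 (vqc0 31 (vqc0 2 (vqc0 16 (vqc0 15 vqc1))))))))
      (vqc0 (vqc2 331367078774495233726509 (vqc2 9 (vqc0 75 (vqc0 9 vqc1))))
      (vqc0 (vqc2 331367078774495239471188 (vqc2 7 (vqc0 41 (vqc0 95 (vqc0 27 (vqc0 25 vqc1))))))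
      (vqc0 (vqc2 331367111858658933474924 (vqc2 7 (vqc0 14 (vqc0 93 (vqc0 31 (vqc0 2 (vqc0 18 (vqc0 15 vqc1))))))))
      vqy105))))));
      (let vqy106 : type_of% vqy104 := (vqc0 (vqc2 331365781422320031039852 (vqc2 7 (vqc0 109 (vqc0 49 (vqc0 60 (vqc0 31 (vqc0 34 (vqc0 30 vqc1))))))))
      (vqc0 (vqc2 331365806095142763103828 (vqc2 5 (vqc0 70 (vqc0 4 (vqc0 107 (vqc0 55 (vqc0 16 (vqc0 15 vqc1))))))))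
      (vqc0 (vqc2 331365806095142763234422 (vqc2 4 (vqc0 48 (vqc0 44 (vqc0 31 (vqc0 2 (vqc0 16 (vqc0 15 vqc1))))))))
      (vqc0 (vqc2 331365806095360950630228 (vqc2 7 (vqc0 9 (vqc0 11 (vqc0 34 (vqc0 32 (vqc0 31 (vqc0 2 vqc1))))))))
      (vqc0 (vqc2 331365806095360958333302 (vqc2 9 (vqc0 27 (vqc0 62 (vqc0 11 (vqc0 9 vqc1))))))
      vqy104)))));
      (vqc0 (vqc2 331363405118208208893741 (vqc2 9 (vqc0 18 (vqc0 16 (vqc0 27 (vqc0 25 (vqc0 60 (vqc0 2 vqc1))))))))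
      (vqc0 (vqc2 331363405118208216596854 (vqc2 5 (vqc0 25 (vqc0 62 (vqc0 18 (vqc0 16 (vqc0 60 (vqc0 2 vqc1))))))))
      (vqc0 (vqc2 331365781422101835810412 (vqc2 9 (vqc0 46 (vqc0 49 (vqc0 34 (vqc0 30 vqc1))))))
      (vqc0 (vqc2 331365781422101835940909 (vqc2 2 (vqc0 109 (vqc0 49 (vqc0 60 (vqc0 31 (vqc0 34 (vqc0 30 vqc1))))))))
      (vqc0 (vqc2 331365781422320023336749 (vqc2 10 (vqc0 102 (vqc0 64 (vqc0 75 (vqc0 9 vqc1))))))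
      vqy106))))))));
      (let vqy107 : type_of% vqy99 := (let vqy108 : type_of% vqy99 := (let vqy109 : type_of% vqy99 := (vqc0 (vqc2 331363404557380271233132 (vqc2 5 (vqc0 18 (vqc0 15 (vqc0 34 (vqc0 30 vqc1))))))
      (vqc0 (vqc2 331363404557380276977748 (vqc2 3 (vqc0 68 (vqc0 33 (vqc0 84 (vqc0 11 (vqc0 111 (vqc0 42 vqc1))))))))
      (vqc0 (vqc2 331363404557457278728020 (vqc2 2 (vqc0 9 (vqc0 11 (vqc0 34 (vqc0 32 (vqc0 31 (vqc0 2 vqc1))))))))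
      (vqc0 (vqc2 331363404557457286431084 (vqc2 4 (vqc0 61 (vqc0 59 (vqc0 31 (vqc0 2 vqc1))))))
      (vqc0 (vqc2 331363405118131201398829 (vqc2 4 (vqc0 101 (vqc0 67 (vqc0 69 (vqc0 19 (vqc0 60 (vqc0 2 vqc1))))))))
      (vqc0 (vqc2 331363405118131207143542 (vqc2 7 (vqc0 27 (vqc0 62 (vqc0 11 (vqc0 9 vqc1))))))
      vqy99))))));
      (vqc0 (vqc2 332197471895563553931327 (vqc2 7 (vqc0 9 (vqc0 95 (vqc0 75 (vqc0 64 (vqc0 27 (vqc0 25 vqc1))))))))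
      (vqc0 (vqc2 332197503577939767264370 (vqc2 10 (vqc0 102 (vqc0 28 (vqc0 75 (vqc0 9 vqc1))))))
      (vqc0 (vqc2 332197503577939767460204 (vqc2 9 (vqc0 60 (vqc0 2 (vqc0 75 (vqc0 9 (vqc0 34 (vqc0 30 vqc1))))))))
      (vqc0 (vqc2 332197503577991105489772 (vqc2 9 (vqc0 71 (vqc0 21 (vqc0 43 (vqc0 4 (vqc0 75 (vqc0 9 vqc1))))))))
      (vqc0 (vqc2 332197503577991108296818 (vqc2 6 (vqc0 60 (vqc0 2 (vqc0 16 (vqc0 15 vqc1))))))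
      vqy109))))));
      (let vqy110 : type_of% vqy108 := (vqc0 (vqc2 332195896912321460991807 (vqc2 5 (vqc0 73 (vqc0 72 (vqc0 60 (vqc0 2 (vqc0 18 (vqc0 15 vqc1))))))))
      (vqc0 (vqc2 332195896912321468368498 (vqc2 7 (vqc0 70 (vqc0 20 (vqc0 4 (vqc0 63 (vqc0 16 (vqc0 15 (vqc0 92 (vqc0 8 vqc1))))))))))
      (vqc0 (vqc2 332197471895512212898861 (vqc2 7 (vqc0 73 (vqc0 97 (vqc0 60 (vqc0 31 (vqc0 18 (vqc0 15 vqc1))))))))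
      (vqc0 (vqc2 332197471895512213094719 (vqc2 7 (vqc0 30 (vqc0 34 (vqc0 60 (vqc0 2 (vqc0 18 (vqc0 15 vqc1))))))))
      (vqc0 (vqc2 332197471895563551124269 (vqc2 7 (vqc0 70 (vqc0 43 (vqc0 92 (vqc0 8 vqc1))))))
      vqy108)))));
      (vqc0 (vqc2 332195884856031003804012 (vqc2 5 (vqc0 30 (vqc0 32 (vqc0 18 (vqc0 15 vqc1))))))
      (vqc0 (vqc2 332195884856176462427949 (vqc2 3 (vqc0 73 (vqc0 72 (vqc0 60 (vqc0 2 (vqc0 18 (vqc0 15 vqc1))))))))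
      (vqc0 (vqc2 332195884856176469804652 (vqc2 4 (vqc0 30 (vqc0 32 (vqc0 18 (vqc0 15 vqc1))))))
      (vqc0 (vqc2 332195896912176002172018 (vqc2 9 (vqc0 14 (vqc0 77 (vqc0 18 (vqc0 15 vqc1))))))
      (vqc0 (vqc2 332195896912176002367807 (vqc2 4 (vqc0 61 (vqc0 104 (vqc0 31 (vqc0 2 vqc1))))))
      vqy110)))))));
      (let vqy111 : type_of% vqy107 := (let vqy112 : type_of% vqy107 := (vqc0 (vqc2 332195020403642239223410 (vqc2 9 (vqc0 85 (vqc0 75 (vqc0 11 (vqc0 77 (vqc0 62 (vqc0 25 vqc1))))))))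
      (vqc0 (vqc2 332195021244674506500972 (vqc2 4 (vqc0 28 (vqc0 47 (vqc0 48 (vqc0 72 (vqc0 60 (vqc0 2 (vqc0 16 (vqc0 15 vqc1))))))))))
      (vqc0 (vqc2 332195021244674509307967 (vqc2 3 (vqc0 107 (vqc0 45 (vqc0 34 (vqc0 90 (vqc0 23 (vqc0 10 (vqc0 92 (vqc0 8 vqc1))))))))))
      (vqc0 (vqc2 332195021244768627095359 (vqc2 2 (vqc0 73 (vqc0 72 (vqc0 18 (vqc0 16 (vqc0 60 (vqc0 2 vqc1))))))))
      (vqc0 (vqc2 332195021244768634472044 (vqc2 5 (vqc0 31 (vqc0 60 (vqc0 75 (vqc0 9 (vqc0 34 (vqc0 30 vqc1))))))))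
      (vqc0 (vqc2 332195884856031003608109 (vqc2 2 (vqc0 73 (vqc0 97 (vqc0 60 (vqc0 31 (vqc0 18 (vqc0 15 vqc1))))))))
      vqy107))))));
      (vqc0 (vqc2 330684870653964487764844 (vqc2 10 (vqc0 9 (vqc0 75 (vqc0 27 (vqc0 25 vqc1))))))
      (vqc0 (vqc2 330684870653964490310770 (vqc2 10 (vqc0 41 (vqc0 95 (vqc0 27 (vqc0 25 vqc1))))))
      (vqc0 (vqc2 332195020403548111252269 (vqc2 5 (vqc0 61 (vqc0 104 (vqc0 31 (vqc0 2 vqc1))))))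
      (vqc0 (vqc2 332195020403548114059378 (vqc2 7 (vqc0 102 (vqc0 64 (vqc0 75 (vqc0 9 vqc1))))))
      (vqc0 (vqc2 332195020403642231846701 (vqc2 4 (vqc0 75 (vqc0 9 (vqc0 34 (vqc0 30 vqc1))))))
      vqy112))))));
      (let vqy113 : type_of% vqy111 := (vqc0 (vqc2 330684861962248062566484 (vqc2 6 (vqc0 18 (vqc0 16 (vqc0 60 (vqc0 2 vqc1))))))
      (vqc0 (vqc2 330684861962325070195540 (vqc2 9 (vqc0 49 (vqc0 46 (vqc0 18 (vqc0 16 (vqc0 60 (vqc0 2 vqc1))))))))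
      (vqc0 (vqc2 330684861962325072741472 (vqc2 9 (vqc0 107 (vqc0 73 (vqc0 57 (vqc0 55 (vqc0 92 (vqc0 8 vqc1))))))))
      (vqc0 (vqc2 330684870653887480070508 (vqc2 10 (vqc0 27 (vqc0 62 (vqc0 11 (vqc0 9 vqc1))))))
      (vqc0 (vqc2 330684870653887480135794 (vqc2 8 (vqc0 75 (vqc0 9 vqc1))))
      vqy111)))));
      (vqc0 (vqc2 330680886001759110037856 (vqc2 3 (vqc0 15 (vqc0 102 (vqc0 28 (vqc0 109 (vqc0 34 (vqc0 30 vqc1))))))))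
      (vqc0 (vqc2 330680886001759110103154 (vqc2 6 (vqc0 14 (vqc0 77 (vqc0 18 (vqc0 15 vqc1))))))
      (vqc0 (vqc2 330680886002071423711072 (vqc2 7 (vqc0 14 (vqc0 77 (vqc0 18 (vqc0 15 vqc1))))))
      (vqc0 (vqc2 330680886002071425734770 (vqc2 7 (vqc0 30 (vqc0 32 (vqc0 18 (vqc0 15 vqc1))))))
      (vqc0 (vqc2 330684861962248062501216 (vqc2 10 (vqc0 48 (vqc0 47 (vqc0 31 (vqc0 2 vqc1))))))
      vqy113)))))))));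
      (let vqy114 : type_of% vqy98 := (let vqy115 : type_of% vqy98 := (let vqy116 : type_of% vqy98 := (let vqy117 : type_of% vqy98 := (vqc0 (vqc2 330679577139031974639444 (vqc2 9 (vqc0 18 (vqc0 16 (vqc0 60 (vqc0 2 vqc1))))))
      (vqc0 (vqc2 330679577139031976663154 (vqc2 10 (vqc0 89 (vqc0 82 (vqc0 70 (vqc0 1 (vqc0 81 (vqc0 3 vqc1))))))))
      (vqc0 (vqc2 330680875067115971805548 (vqc2 3 (vqc0 14 (vqc0 77 (vqc0 18 (vqc0 15 vqc1))))))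
      (vqc0 (vqc2 330680875067115971870804 (vqc2 1 (vqc0 99 (vqc0 35 (vqc0 70 (vqc0 1 (vqc0 31 (vqc0 2 (vqc0 34 (vqc0 30 vqc1))))))))))
      (vqc0 (vqc2 330680875067428285478740 (vqc2 2 (vqc0 14 (vqc0 77 (vqc0 18 (vqc0 15 vqc1))))))
      (vqc0 (vqc2 330680875067428287502444 (vqc2 2 (vqc0 30 (vqc0 32 (vqc0 18 (vqc0 15 vqc1))))))
      vqy98))))));
      (vqc0 (vqc2 330679576858421206123616 (vqc2 2 (vqc0 111 (vqc0 42 (vqc0 88 (vqc0 1 (vqc0 34 (vqc0 30 vqc1))))))))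
      (vqc0 (vqc2 330679576858656509556576 (vqc2 10 (vqc0 47 (vqc0 48 (vqc0 60 (vqc0 2 vqc1))))))
      (vqc0 (vqc2 330679576858656511580268 (vqc2 9 (vqc0 62 (vqc0 27 (vqc0 60 (vqc0 31 (vqc0 18 (vqc0 15 vqc1))))))))
      (vqc0 (vqc2 330679577138796668660564 (vqc2 2 (vqc0 49 (vqc0 109 (vqc0 27 (vqc0 25 (vqc0 60 (vqc0 2 vqc1))))))))
      (vqc0 (vqc2 330679577138796671206514 (vqc2 7 (vqc0 49 (vqc0 109 (vqc0 27 (vqc0 25 (vqc0 60 (vqc0 2 vqc1))))))))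
      vqy117))))));
      (let vqy118 : type_of% vqy116 := (vqc0 (vqc2 330647256493120320580470 (vqc2 2 (vqc0 75 (vqc0 11 (vqc0 60 (vqc0 31 (vqc0 34 (vqc0 30 vqc1))))))))
      (vqc0 (vqc2 330647256493120322995826 (vqc2 9 (vqc0 15 (vqc0 16 (vqc0 34 (vqc0 30 vqc1))))))
      (vqc0 (vqc2 330647256493210162255986 (vqc2 10 (vqc0 75 (vqc0 9 vqc1))))
      (vqc0 (vqc2 330647256493210167935350 (vqc2 7 (vqc0 75 (vqc0 11 (vqc0 60 (vqc0 31 (vqc0 34 (vqc0 30 vqc1))))))))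
      (vqc0 (vqc2 330679576858421203577708 (vqc2 7 (vqc0 111 (vqc0 42 (vqc0 88 (vqc0 1 (vqc0 34 (vqc0 30 vqc1))))))))
      vqy116)))));
      (vqc0 (vqc2 330645518386431572508790 (vqc2 7 (vqc0 9 (vqc0 75 (vqc0 27 (vqc0 25 vqc1))))))
      (vqc0 (vqc2 330647223128439975717677 (vqc2 4 (vqc0 30 (vqc0 34 (vqc0 60 (vqc0 2 (vqc0 18 (vqc0 15 vqc1))))))))
      (vqc0 (vqc2 330647223128439978133088 (vqc2 5 (vqc0 62 (vqc0 27 (vqc0 60 (vqc0 31 (vqc0 18 (vqc0 15 vqc1))))))))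
      (vqc0 (vqc2 330647223128529817393197 (vqc2 7 (vqc0 92 (vqc0 36 (vqc0 88 (vqc0 1 (vqc0 80 (vqc0 35 (vqc0 34 (vqc0 30 vqc1))))))))))
      (vqc0 (vqc2 330647223128529823072608 (vqc2 9 (vqc0 41 (vqc0 27 (vqc0 93 (vqc0 76 (vqc0 11 (vqc0 9 vqc1))))))))
      vqy118)))))));
      (let vqy119 : type_of% vqy115 := (let vqy120 : type_of% vqy115 := (vqc0 (vqc2 330645493993573586765426 (vqc2 7 (vqc0 62 (vqc0 25 (vqc0 31 (vqc0 2 (vqc0 18 (vqc0 15 vqc1))))))))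
      (vqc0 (vqc2 330645493993766102529837 (vqc2 7 (vqc0 102 (vqc0 97 (vqc0 64 (vqc0 44 (vqc0 60 (vqc0 2 vqc1))))))))
      (vqc0 (vqc2 330645493993766110298226 (vqc2 6 (vqc0 41 (vqc0 95 (vqc0 27 (vqc0 25 vqc1))))))
      (vqc0 (vqc2 330645518386239046560630 (vqc2 5 (vqc0 16 (vqc0 15 (vqc0 27 (vqc0 25 (vqc0 60 (vqc0 2 vqc1))))))))
      (vqc0 (vqc2 330645518386239048975968 (vqc2 4 (vqc0 73 (vqc0 97 (vqc0 60 (vqc0 2 vqc1))))))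
      (vqc0 (vqc2 330645518386431564740448 (vqc2 9 (vqc0 102 (vqc0 64 (vqc0 75 (vqc0 9 vqc1))))))
      vqy115))))));
      (vqc0 (vqc2 330643992515978050230386 (vqc2 9 (vqc0 89 (vqc0 82 (vqc0 70 (vqc0 1 (vqc0 81 (vqc0 3 vqc1))))))))
      (vqc0 (vqc2 330643992515978055909728 (vqc2 5 (vqc0 56 (vqc0 20 (vqc0 84 (vqc0 9 (vqc0 111 (vqc0 42 vqc1))))))))
      (vqc0 (vqc2 330643992516080726734688 (vqc2 4 (vqc0 9 (vqc0 75 (vqc0 60 (vqc0 31 (vqc0 34 (vqc0 30 vqc1))))))))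
      (vqc0 (vqc2 330643992516080734503026 (vqc2 7 (vqc0 41 (vqc0 27 (vqc0 93 (vqc0 76 (vqc0 11 (vqc0 9 vqc1))))))))
      (vqc0 (vqc2 330645493993573584349997 (vqc2 3 (vqc0 24 (vqc0 87 (vqc0 67 (vqc0 22 (vqc0 69 (vqc0 19 (vqc0 60 (vqc0 2 vqc1))))))))))
      vqy120))))));
      (let vqy121 : type_of% vqy119 := (vqc0 (vqc2 330592348653831964853366 (vqc2 3 (vqc0 14 (vqc0 93 (vqc0 31 (vqc0 2 (vqc0 18 (vqc0 15 vqc1))))))))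
      (vqc0 (vqc2 330643982142085842163757 (vqc2 2 (vqc0 101 (vqc0 67 (vqc0 69 (vqc0 19 (vqc0 60 (vqc0 2 vqc1))))))))
      (vqc0 (vqc2 330643982142085847843190 (vqc2 4 (vqc0 31 (vqc0 2 vqc1))))
      (vqc0 (vqc2 330643982142188518668077 (vqc2 5 (vqc0 31 (vqc0 2 vqc1))))
      (vqc0 (vqc2 330643982142188526436470 (vqc2 3 (vqc0 43 (vqc0 103 (vqc0 97 (vqc0 1 (vqc0 38 (vqc0 26 (vqc0 92 (vqc0 8 vqc1))))))))))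
      vqy119)))));
      (vqc0 (vqc2 330592327345296613070911 (vqc2 5 (vqc0 16 (vqc0 15 (vqc0 60 (vqc0 2 vqc1))))))
      (vqc0 (vqc2 330592327345296618554464 (vqc2 4 (vqc0 13 (vqc0 50 (vqc0 16 (vqc0 15 vqc1))))))
      (vqc0 (vqc2 330592348653665109673580 (vqc2 2 (vqc0 14 (vqc0 93 (vqc0 31 (vqc0 2 (vqc0 18 (vqc0 15 vqc1))))))))
      (vqc0 (vqc2 330592348653665110065270 (vqc2 1 (vqc0 75 (vqc0 9 (vqc0 34 (vqc0 30 vqc1))))))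
      (vqc0 (vqc2 330592348653831959369836 (vqc2 2 (vqc0 31 (vqc0 2 (vqc0 75 (vqc0 9 (vqc0 34 (vqc0 30 vqc1))))))))
      vqy121))))))));
      (let vqy122 : type_of% vqy114 := (let vqy123 : type_of% vqy114 := (let vqy124 : type_of% vqy114 := (vqc0 (vqc2 330590178157239243638368 (vqc2 2 (vqc0 73 (vqc0 97 (vqc0 60 (vqc0 2 vqc1))))))
      (vqc0 (vqc2 330590178157239244030070 (vqc2 3 (vqc0 43 (vqc0 101 (vqc0 20 (vqc0 66 (vqc0 108 (vqc0 50 (vqc0 92 (vqc0 8 vqc1))))))))))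
      (vqc0 (vqc2 330590178157534441600864 (vqc2 5 (vqc0 32 (vqc0 30 (vqc0 31 (vqc0 2 vqc1))))))
      (vqc0 (vqc2 330590178157534446562166 (vqc2 4 (vqc0 32 (vqc0 30 (vqc0 31 (vqc0 2 vqc1))))))
      (vqc0 (vqc2 330592327345129763374688 (vqc2 2 (vqc0 70 (vqc0 4 (vqc0 16 (vqc0 15 (vqc0 92 (vqc0 8 vqc1))))))))
      (vqc0 (vqc2 330592327345129763766335 (vqc2 3 (vqc0 70 (vqc0 107 (vqc0 72 (vqc0 56 (vqc0 106 (vqc0 43 (vqc0 92 (vqc0 8 vqc1))))))))))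
      vqy114))))));
      (vqc0 (vqc2 330587344826021484899190 (vqc2 2 (vqc0 70 (vqc0 57 (vqc0 43 (vqc0 63 (vqc0 92 (vqc0 8 vqc1))))))))
      (vqc0 (vqc2 330590154605700176676460 (vqc2 2 (vqc0 62 (vqc0 25 (vqc0 31 (vqc0 2 (vqc0 18 (vqc0 15 vqc1))))))))
      (vqc0 (vqc2 330590154605700177068095 (vqc2 1 (vqc0 73 (vqc0 72 (vqc0 60 (vqc0 2 vqc1))))))
      (vqc0 (vqc2 330590154605995374638911 (vqc2 2 (vqc0 11 (vqc0 9 (vqc0 32 (vqc0 30 (vqc0 31 (vqc0 2 vqc1))))))))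
      (vqc0 (vqc2 330590154605995379600236 (vqc2 3 (vqc0 47 (vqc0 44 (vqc0 60 (vqc0 2 vqc1))))))
      vqy124))))));
      (let vqy125 : type_of% vqy123 := (vqc0 (vqc2 330587343143768689440608 (vqc2 3 (vqc0 80 (vqc0 35 (vqc0 43 (vqc0 1 (vqc0 60 (vqc0 2 (vqc0 34 (vqc0 30 vqc1))))))))))
      (vqc0 (vqc2 330587343143768694401900 (vqc2 5 (vqc0 28 (vqc0 13 (vqc0 12 (vqc0 77 (vqc0 16 (vqc0 15 vqc1))))))))
      (vqc0 (vqc2 330587344825893131671615 (vqc2 3 (vqc0 54 (vqc0 44 (vqc0 64 (vqc0 67 (vqc0 52 (vqc0 43 (vqc0 60 (vqc0 2 vqc1))))))))))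
      (vqc0 (vqc2 330587344825893137155190 (vqc2 5 (vqc0 13 (vqc0 50 (vqc0 16 (vqc0 15 vqc1))))))
      (vqc0 (vqc2 330587344826021479937855 (vqc2 4 (vqc0 14 (vqc0 93 (vqc0 31 (vqc0 2 (vqc0 18 (vqc0 15 vqc1))))))))
      vqy123)))));
      (vqc0 (vqc2 330573469521146420789622 (vqc2 2 (vqc0 75 (vqc0 11 (vqc0 34 (vqc0 30 vqc1))))))
      (vqc0 (vqc2 330573469521364613868406 (vqc2 7 (vqc0 75 (vqc0 11 (vqc0 34 (vqc0 30 vqc1))))))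
      (vqc0 (vqc2 330573469521364610930802 (vqc2 9 (vqc0 50 (vqc0 102 (vqc0 64 (vqc0 93 (vqc0 16 (vqc0 15 vqc1))))))))
      (vqc0 (vqc2 330587343143640341174380 (vqc2 4 (vqc0 50 (vqc0 102 (vqc0 64 (vqc0 93 (vqc0 16 (vqc0 15 vqc1))))))))
      (vqc0 (vqc2 330587343143640346657888 (vqc2 2 (vqc0 87 (vqc0 86 (vqc0 16 (vqc0 15 (vqc0 60 (vqc0 2 vqc1))))))))
      vqy125)))))));
      (let vqy126 : type_of% vqy122 := (let vqy127 : type_of% vqy122 := (vqc0 (vqc2 330572583530548447085682 (vqc2 7 (vqc0 95 (vqc0 76 (vqc0 75 (vqc0 11 (vqc0 34 (vqc0 30 vqc1))))))))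
      (vqc0 (vqc2 330573437277967935931988 (vqc2 3 (vqc0 62 (vqc0 27 (vqc0 60 (vqc0 31 (vqc0 18 (vqc0 15 vqc1))))))))
      (vqc0 (vqc2 330573437277967936258367 (vqc2 2 (vqc0 30 (vqc0 34 (vqc0 60 (vqc0 2 (vqc0 18 (vqc0 15 vqc1))))))))
      (vqc0 (vqc2 330573437278186129337172 (vqc2 5 (vqc0 2 (vqc0 60 (vqc0 75 (vqc0 11 (vqc0 34 (vqc0 30 vqc1))))))))
      (vqc0 (vqc2 330573437278186126399551 (vqc2 4 (vqc0 83 (vqc0 7 (vqc0 70 (vqc0 6 (vqc0 62 (vqc0 25 (vqc0 18 (vqc0 15 vqc1))))))))))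
      (vqc0 (vqc2 330573469521146420463218 (vqc2 10 (vqc0 75 (vqc0 9 (vqc0 62 (vqc0 25 vqc1))))))
      vqy122))))));
      (vqc0 (vqc2 330572596147444368308052 (vqc2 4 (vqc0 2 (vqc0 31 (vqc0 75 (vqc0 11 (vqc0 34 (vqc0 30 vqc1))))))))
      (vqc0 (vqc2 330572596147444375815286 (vqc2 5 (vqc0 47 (vqc0 44 (vqc0 60 (vqc0 2 (vqc0 16 (vqc0 15 vqc1))))))))
      (vqc0 (vqc2 330572583530278913377906 (vqc2 10 (vqc0 13 (vqc0 50 (vqc0 16 (vqc0 15 vqc1))))))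
      (vqc0 (vqc2 330572583530278913704255 (vqc2 2 (vqc0 95 (vqc0 76 (vqc0 75 (vqc0 11 (vqc0 34 (vqc0 30 vqc1))))))))
      (vqc0 (vqc2 330572583530548439578431 (vqc2 9 (vqc0 9 (vqc0 95 (vqc0 75 (vqc0 64 (vqc0 27 (vqc0 25 vqc1))))))))
      vqy127))))));
      (let vqy128 : type_of% vqy126 := (vqc0 (vqc2 330568898082970375247935 (vqc2 5 (vqc0 1 (vqc0 88 (vqc0 111 (vqc0 42 vqc1))))))
      (vqc0 (vqc2 330568898083021710980927 (vqc2 7 (vqc0 95 (vqc0 41 (vqc0 75 (vqc0 11 (vqc0 34 (vqc0 30 vqc1))))))))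
      (vqc0 (vqc2 330568898083021718488182 (vqc2 4 (vqc0 70 (vqc0 57 (vqc0 20 (vqc0 43 (vqc0 92 (vqc0 8 (vqc0 16 (vqc0 15 vqc1))))))))))
      (vqc0 (vqc2 330572596147174842107476 (vqc2 3 (vqc0 73 (vqc0 97 (vqc0 60 (vqc0 31 (vqc0 18 (vqc0 15 vqc1))))))))
      (vqc0 (vqc2 330572596147174842433910 (vqc2 2 (vqc0 73 (vqc0 72 (vqc0 60 (vqc0 2 (vqc0 18 (vqc0 15 vqc1))))))))
      vqy126)))));
      (vqc0 (vqc2 330568896681093052771156 (vqc2 4 (vqc0 49 (vqc0 109 (vqc0 27 (vqc0 25 (vqc0 60 (vqc0 2 vqc1))))))))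
      (vqc0 (vqc2 330568896681093049833586 (vqc2 7 (vqc0 43 (vqc0 0 (vqc0 34 (vqc0 32 (vqc0 92 (vqc0 8 vqc1))))))))
      (vqc0 (vqc2 330568896681144385566548 (vqc2 5 (vqc0 34 (vqc0 32 (vqc0 31 (vqc0 2 vqc1))))))
      (vqc0 (vqc2 330568896681144393073778 (vqc2 9 (vqc0 41 (vqc0 95 (vqc0 27 (vqc0 25 vqc1))))))
      (vqc0 (vqc2 330568898082970378185590 (vqc2 9 (vqc0 9 (vqc0 75 (vqc0 27 (vqc0 25 vqc1))))))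
      vqy128))))))))))));
      (let vqy129 : type_of% vqy1 := (let vqy130 : type_of% vqy1 := (let vqy131 : type_of% vqy1 := (let vqy132 : type_of% vqy1 := (let vqy133 : type_of% vqy1 := (let vqy134 : type_of% vqy1 := (let vqy135 : type_of% vqy1 := (vqc0 (vqc2 30537884038535135111981 (vqc2 7 (vqc0 28 (vqc0 64 (vqc0 27 (vqc0 25 vqc1))))))
      (vqc0 (vqc2 30537884038535137919039 (vqc2 7 (vqc0 86 (vqc0 87 (vqc0 32 (vqc0 30 (vqc0 31 (vqc0 2 vqc1))))))))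
      (vqc0 (vqc2 30537889085255002948682 (vqc2 9 (vqc0 76 (vqc0 95 (vqc0 31 (vqc0 2 (vqc0 18 (vqc0 15 vqc1))))))))
      (vqc0 (vqc2 30537889085255003144506 (vqc2 10 (vqc0 25 (vqc0 85 (vqc0 28 (vqc0 27 (vqc0 75 (vqc0 9 vqc1))))))))
      (vqc0 (vqc2 30537889085293506603834 (vqc2 6 (vqc0 60 (vqc0 2 (vqc0 18 (vqc0 15 vqc1))))))
      (vqc0 (vqc2 30537889085293509410890 (vqc2 9 (vqc0 48 (vqc0 47 (vqc0 31 (vqc0 2 (vqc0 16 (vqc0 15 vqc1))))))))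
      vqy1))))));
      (vqc0 (vqc2 30536795478004919959871 (vqc2 9 (vqc0 18 (vqc0 15 vqc1))))
      (vqc0 (vqc2 30536795478107600869439 (vqc2 7 (vqc0 76 (vqc0 95 (vqc0 31 (vqc0 2 (vqc0 18 (vqc0 15 vqc1))))))))
      (vqc0 (vqc2 30536795478107602044490 (vqc2 5 (vqc0 60 (vqc0 2 (vqc0 18 (vqc0 15 vqc1))))))
      (vqc0 (vqc2 30537884038496631456813 (vqc2 7 (vqc0 95 (vqc0 41 (vqc0 60 (vqc0 2 (vqc0 18 (vqc0 15 vqc1))))))))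
      (vqc0 (vqc2 30537884038496631652671 (vqc2 7 (vqc0 60 (vqc0 31 (vqc0 18 (vqc0 15 vqc1))))))
      vqy135))))));
      (let vqy136 : type_of% vqy134 := (vqc0 (vqc2 30536783421859921200173 (vqc2 5 (vqc0 46 (vqc0 49 (vqc0 18 (vqc0 15 vqc1))))))
      (vqc0 (vqc2 30536783421859921396026 (vqc2 2 (vqc0 60 (vqc0 31 (vqc0 18 (vqc0 15 vqc1))))))
      (vqc0 (vqc2 30536783421962602305581 (vqc2 4 (vqc0 46 (vqc0 49 (vqc0 18 (vqc0 15 vqc1))))))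
      (vqc0 (vqc2 30536783421962603480634 (vqc2 3 (vqc0 60 (vqc0 2 (vqc0 18 (vqc0 15 vqc1))))))
      (vqc0 (vqc2 30536795478004919764042 (vqc2 4 (vqc0 60 (vqc0 31 (vqc0 18 (vqc0 15 vqc1))))))
      vqy134)))));
      (vqc0 (vqc2 30536135142210436351562 (vqc2 4 (vqc0 95 (vqc0 76 (vqc0 60 (vqc0 2 (vqc0 18 (vqc0 15 vqc1))))))))
      (vqc0 (vqc2 30536135983272652974906 (vqc2 3 (vqc0 88 (vqc0 10 (vqc0 16 (vqc0 24 (vqc0 74 (vqc0 27 (vqc0 111 (vqc0 42 vqc1))))))))))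
      (vqc0 (vqc2 30536135983272655781951 (vqc2 4 (vqc0 47 (vqc0 48 (vqc0 60 (vqc0 2 (vqc0 16 (vqc0 15 vqc1))))))))
      (vqc0 (vqc2 30536135983336830425151 (vqc2 5 (vqc0 109 (vqc0 46 (vqc0 60 (vqc0 31 (vqc0 18 (vqc0 15 vqc1))))))))
      (vqc0 (vqc2 30536135983336831600186 (vqc2 2 (vqc0 70 (vqc0 1 (vqc0 99 (vqc0 35 (vqc0 18 (vqc0 15 vqc1))))))))
      vqy136)))))));
      (let vqy137 : type_of% vqy133 := (let vqy138 : type_of% vqy133 := (vqc0 (vqc2 29134864320367346189430 (vqc2 5 (vqc0 60 (vqc0 31 (vqc0 18 (vqc0 15 vqc1))))))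
      (vqc0 (vqc2 29134864320414401779806 (vqc2 9 (vqc0 31 (vqc0 2 (vqc0 18 (vqc0 15 vqc1))))))
      (vqc0 (vqc2 29134864320414407459190 (vqc2 7 (vqc0 109 (vqc0 46 (vqc0 60 (vqc0 31 (vqc0 18 (vqc0 15 vqc1))))))))
      (vqc0 (vqc2 30536135142146257726253 (vqc2 7 (vqc0 25 (vqc0 27 (vqc0 75 (vqc0 9 vqc1))))))
      (vqc0 (vqc2 30536135142146260533322 (vqc2 5 (vqc0 56 (vqc0 57 (vqc0 92 (vqc0 8 (vqc0 16 (vqc0 15 vqc1))))))))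
      (vqc0 (vqc2 30536135142210435176493 (vqc2 9 (vqc0 75 (vqc0 11 (vqc0 62 (vqc0 25 vqc1))))))
      vqy133))))));
      (vqc0 (vqc2 29134830955686997018170 (vqc2 2 (vqc0 60 (vqc0 31 (vqc0 34 (vqc0 30 vqc1))))))
      (vqc0 (vqc2 29134830955687001326637 (vqc2 9 (vqc0 34 (vqc0 30 vqc1))))
      (vqc0 (vqc2 29134830955734056917037 (vqc2 7 (vqc0 60 (vqc0 31 (vqc0 34 (vqc0 30 vqc1))))))
      (vqc0 (vqc2 29134830955734062596410 (vqc2 10 (vqc0 25 (vqc0 27 (vqc0 75 (vqc0 9 vqc1))))))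
      (vqc0 (vqc2 29134864320367341880926 (vqc2 4 (vqc0 60 (vqc0 2 (vqc0 18 (vqc0 15 vqc1))))))
      vqy138))))));
      (let vqy139 : type_of% vqy137 := (vqc0 (vqc2 29132741533021635018846 (vqc2 9 (vqc0 87 (vqc0 85 (vqc0 75 (vqc0 9 vqc1))))))
      (vqc0 (vqc2 29132765925515962107450 (vqc2 3 (vqc0 95 (vqc0 76 (vqc0 60 (vqc0 2 (vqc0 18 (vqc0 15 vqc1))))))))
      (vqc0 (vqc2 29132765925515966415990 (vqc2 7 (vqc0 31 (vqc0 2 (vqc0 18 (vqc0 15 vqc1))))))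
      (vqc0 (vqc2 29132765925687089461050 (vqc2 6 (vqc0 28 (vqc0 102 (vqc0 27 (vqc0 25 vqc1))))))
      (vqc0 (vqc2 29132765925687097229430 (vqc2 7 (vqc0 32 (vqc0 30 (vqc0 31 (vqc0 2 vqc1))))))
      vqy137)))));
      (vqc0 (vqc2 29131968228901810894637 (vqc2 7 (vqc0 48 (vqc0 44 (vqc0 16 (vqc0 15 vqc1))))))
      (vqc0 (vqc2 29131968228901818663030 (vqc2 4 (vqc0 9 (vqc0 11 (vqc0 60 (vqc0 31 (vqc0 34 (vqc0 30 vqc1))))))))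
      (vqc0 (vqc2 29132741532850499896926 (vqc2 5 (vqc0 27 (vqc0 25 (vqc0 60 (vqc0 2 vqc1))))))
      (vqc0 (vqc2 29132741532850504205357 (vqc2 4 (vqc0 111 (vqc0 42 (vqc0 88 (vqc0 1 (vqc0 18 (vqc0 15 vqc1))))))))
      (vqc0 (vqc2 29132741533021627250477 (vqc2 7 (vqc0 27 (vqc0 25 vqc1))))
      vqy139))))))));
      (let vqy140 : type_of% vqy132 := (let vqy141 : type_of% vqy132 := (let vqy142 : type_of% vqy132 := (vqc0 (vqc2 29131949723997047969886 (vqc2 4 (vqc0 47 (vqc0 44 (vqc0 31 (vqc0 2 vqc1))))))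
      (vqc0 (vqc2 29131949723997053649210 (vqc2 2 (vqc0 109 (vqc0 46 (vqc0 60 (vqc0 31 (vqc0 18 (vqc0 15 vqc1))))))))
      (vqc0 (vqc2 29131949724121115424570 (vqc2 3 (vqc0 22 (vqc0 23 (vqc0 113 (vqc0 35 (vqc0 34 (vqc0 32 (vqc0 92 (vqc0 8 vqc1))))))))))
      (vqc0 (vqc2 29131949724121123192926 (vqc2 5 (vqc0 47 (vqc0 44 (vqc0 31 (vqc0 2 vqc1))))))
      (vqc0 (vqc2 29131968228777743439917 (vqc2 5 (vqc0 111 (vqc0 42 (vqc0 88 (vqc0 1 (vqc0 18 (vqc0 15 vqc1))))))))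
      (vqc0 (vqc2 29131968228777749119350 (vqc2 9 (vqc0 46 (vqc0 109 (vqc0 18 (vqc0 15 vqc1))))))
      vqy132))))));
      (vqc0 (vqc2 29966035006209844248895 (vqc2 10 (vqc0 60 (vqc0 2 (vqc0 75 (vqc0 9 (vqc0 34 (vqc0 30 vqc1))))))))
      (vqc0 (vqc2 29966048744539179451495 (vqc2 7 (vqc0 115 (vqc0 21 (vqc0 88 (vqc0 43 (vqc0 27 (vqc0 25 vqc1))))))))
      (vqc0 (vqc2 29966048744539179712606 (vqc2 7 (vqc0 100 (vqc0 67 (vqc0 43 (vqc0 0 (vqc0 60 (vqc0 2 vqc1))))))))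
      (vqc0 (vqc2 29966048744607630568286 (vqc2 7 (vqc0 60 (vqc0 2 (vqc0 18 (vqc0 15 vqc1))))))
      (vqc0 (vqc2 29966048744607633310055 (vqc2 7 (vqc0 109 (vqc0 49 (vqc0 60 (vqc0 31 (vqc0 18 (vqc0 15 vqc1))))))))
      vqy142))))));
      (let vqy143 : type_of% vqy141 := (vqc0 (vqc2 29962856742694412515135 (vqc2 9 (vqc0 86 (vqc0 75 (vqc0 77 (vqc0 85 (vqc0 62 (vqc0 25 vqc1))))))))
      (vqc0 (vqc2 29962856742694415713895 (vqc2 4 (vqc0 60 (vqc0 2 (vqc0 75 (vqc0 9 (vqc0 34 (vqc0 30 vqc1))))))))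
      (vqc0 (vqc2 29966035006141390390317 (vqc2 6 (vqc0 28 (vqc0 64 (vqc0 27 (vqc0 25 vqc1))))))
      (vqc0 (vqc2 29966035006141390651455 (vqc2 9 (vqc0 25 (vqc0 85 (vqc0 28 (vqc0 27 (vqc0 75 (vqc0 9 vqc1))))))))
      (vqc0 (vqc2 29966035006209841507117 (vqc2 9 (vqc0 75 (vqc0 9 (vqc0 34 (vqc0 30 vqc1))))))
      vqy141)))));
      (vqc0 (vqc2 29962844966668183273566 (vqc2 4 (vqc0 43 (vqc0 0 (vqc0 34 (vqc0 32 (vqc0 92 (vqc0 8 vqc1))))))))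
      (vqc0 (vqc2 29962844966924879034157 (vqc2 5 (vqc0 31 (vqc0 2 (vqc0 75 (vqc0 9 (vqc0 34 (vqc0 30 vqc1))))))))
      (vqc0 (vqc2 29962844966924882232926 (vqc2 2 (vqc0 8 (vqc0 60 (vqc0 65 (vqc0 1 (vqc0 99 (vqc0 35 (vqc0 18 (vqc0 15 vqc1))))))))))
      (vqc0 (vqc2 29962856742437716493415 (vqc2 7 (vqc0 87 (vqc0 85 (vqc0 75 (vqc0 9 vqc1))))))
      (vqc0 (vqc2 29962856742437716754495 (vqc2 5 (vqc0 92 (vqc0 65 (vqc0 88 (vqc0 1 (vqc0 99 (vqc0 35 (vqc0 18 (vqc0 15 vqc1))))))))))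
      vqy143)))))));
      (let vqy144 : type_of% vqy140 := (let vqy145 : type_of% vqy140 := (vqc0 (vqc2 29961691721064613627495 (vqc2 5 (vqc0 95 (vqc0 41 (vqc0 60 (vqc0 2 (vqc0 18 (vqc0 15 vqc1))))))))
      (vqc0 (vqc2 29961692842378225855326 (vqc2 5 (vqc0 18 (vqc0 15 vqc1))))
      (vqc0 (vqc2 29961692842378228597055 (vqc2 2 (vqc0 109 (vqc0 49 (vqc0 60 (vqc0 31 (vqc0 18 (vqc0 15 vqc1))))))))
      (vqc0 (vqc2 29961692842566470760255 (vqc2 4 (vqc0 18 (vqc0 15 vqc1))))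
      (vqc0 (vqc2 29961692842566473959006 (vqc2 3 (vqc0 95 (vqc0 41 (vqc0 60 (vqc0 2 (vqc0 18 (vqc0 15 vqc1))))))))
      (vqc0 (vqc2 29962844966668183012397 (vqc2 3 (vqc0 88 (vqc0 1 (vqc0 74 (vqc0 27 (vqc0 111 (vqc0 42 vqc1))))))))
      vqy140))))));
      (vqc0 (vqc2 29634007371024605391710 (vqc2 9 (vqc0 68 (vqc0 69 (vqc0 88 (vqc0 70 (vqc0 113 (vqc0 35 vqc1))))))))
      (vqc0 (vqc2 29634007371024607937639 (vqc2 9 (vqc0 56 (vqc0 57 (vqc0 92 (vqc0 8 (vqc0 16 (vqc0 15 vqc1))))))))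
      (vqc0 (vqc2 29961691720876365523757 (vqc2 4 (vqc0 109 (vqc0 49 (vqc0 60 (vqc0 31 (vqc0 18 (vqc0 15 vqc1))))))))
      (vqc0 (vqc2 29961691720876368265575 (vqc2 9 (vqc0 46 (vqc0 49 (vqc0 18 (vqc0 15 vqc1))))))
      (vqc0 (vqc2 29961691721064610428717 (vqc2 7 (vqc0 99 (vqc0 35 (vqc0 70 (vqc0 1 (vqc0 31 (vqc0 2 (vqc0 18 (vqc0 15 vqc1))))))))))
      vqy145))))));
      (let vqy146 : type_of% vqy144 := (vqc0 (vqc2 29633998679308180193354 (vqc2 10 (vqc0 27 (vqc0 25 (vqc0 11 (vqc0 9 vqc1))))))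
      (vqc0 (vqc2 29633998679385187822394 (vqc2 10 (vqc0 27 (vqc0 25 vqc1))))
      (vqc0 (vqc2 29633998679385190368330 (vqc2 10 (vqc0 28 (vqc0 102 (vqc0 27 (vqc0 25 vqc1))))))
      (vqc0 (vqc2 29634007370947597697383 (vqc2 6 (vqc0 60 (vqc0 31 (vqc0 18 (vqc0 15 vqc1))))))
      (vqc0 (vqc2 29634007370947597762654 (vqc2 10 (vqc0 48 (vqc0 44 (vqc0 31 (vqc0 2 vqc1))))))
      vqy144)))));
      (vqc0 (vqc2 29630022718819227664743 (vqc2 6 (vqc0 18 (vqc0 15 vqc1))))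
      (vqc0 (vqc2 29630022718819227729994 (vqc2 3 (vqc0 46 (vqc0 109 (vqc0 18 (vqc0 15 vqc1))))))
      (vqc0 (vqc2 29630022719131541337930 (vqc2 7 (vqc0 18 (vqc0 15 vqc1))))
      (vqc0 (vqc2 29630022719131543361639 (vqc2 7 (vqc0 46 (vqc0 49 (vqc0 18 (vqc0 15 vqc1))))))
      (vqc0 (vqc2 29633998679308180128058 (vqc2 8 (vqc0 27 (vqc0 25 vqc1))))
      vqy146)))))))));
      (let vqy147 : type_of% vqy131 := (let vqy148 : type_of% vqy131 := (let vqy149 : type_of% vqy131 := (let vqy150 : type_of% vqy131 := (vqc0 (vqc2 29628713856092092266314 (vqc2 9 (vqc0 60 (vqc0 31 (vqc0 18 (vqc0 15 vqc1))))))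
      (vqc0 (vqc2 29628713856092094290014 (vqc2 10 (vqc0 47 (vqc0 44 (vqc0 60 (vqc0 2 vqc1))))))
      (vqc0 (vqc2 29630011784176089432378 (vqc2 1 (vqc0 76 (vqc0 95 (vqc0 31 (vqc0 2 (vqc0 34 (vqc0 30 vqc1))))))))
      (vqc0 (vqc2 29630011784176089497694 (vqc2 3 (vqc0 18 (vqc0 15 vqc1))))
      (vqc0 (vqc2 29630011784488403105594 (vqc2 2 (vqc0 18 (vqc0 15 vqc1))))
      (vqc0 (vqc2 29630011784488405129310 (vqc2 2 (vqc0 46 (vqc0 49 (vqc0 18 (vqc0 15 vqc1))))))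
      vqy131))))));
      (vqc0 (vqc2 29628713575481323750503 (vqc2 7 (vqc0 46 (vqc0 109 (vqc0 34 (vqc0 30 vqc1))))))
      (vqc0 (vqc2 29628713575716627183418 (vqc2 10 (vqc0 28 (vqc0 64 (vqc0 27 (vqc0 25 vqc1))))))
      (vqc0 (vqc2 29628713575716629207143 (vqc2 9 (vqc0 109 (vqc0 49 (vqc0 60 (vqc0 31 (vqc0 18 (vqc0 15 vqc1))))))))
      (vqc0 (vqc2 29628713855856786287454 (vqc2 7 (vqc0 46 (vqc0 109 (vqc0 18 (vqc0 15 vqc1))))))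
      (vqc0 (vqc2 29628713855856788833354 (vqc2 2 (vqc0 111 (vqc0 42 (vqc0 88 (vqc0 1 (vqc0 18 (vqc0 15 vqc1))))))))
      vqy150))))));
      (let vqy151 : type_of% vqy149 := (vqc0 (vqc2 28414792784224180000871 (vqc2 7 (vqc0 28 (vqc0 102 (vqc0 27 (vqc0 25 vqc1))))))
      (vqc0 (vqc2 28414792784224185745526 (vqc2 9 (vqc0 25 (vqc0 27 (vqc0 75 (vqc0 9 vqc1))))))
      (vqc0 (vqc2 28414792784245575527286 (vqc2 4 (vqc0 46 (vqc0 109 (vqc0 18 (vqc0 15 vqc1))))))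
      (vqc0 (vqc2 28414792784245573764711 (vqc2 5 (vqc0 48 (vqc0 47 (vqc0 31 (vqc0 2 (vqc0 16 (vqc0 15 vqc1))))))))
      (vqc0 (vqc2 29628713575481321204538 (vqc2 2 (vqc0 46 (vqc0 109 (vqc0 18 (vqc0 15 vqc1))))))
      vqy149)))));
      (vqc0 (vqc2 28412537682731619254631 (vqc2 9 (vqc0 4 (vqc0 91 (vqc0 70 (vqc0 89 (vqc0 81 (vqc0 3 vqc1))))))))
      (vqc0 (vqc2 28414759699919300220973 (vqc2 6 (vqc0 27 (vqc0 25 vqc1))))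
      (vqc0 (vqc2 28414759699919305965642 (vqc2 7 (vqc0 93 (vqc0 14 (vqc0 62 (vqc0 25 (vqc0 18 (vqc0 15 vqc1))))))))
      (vqc0 (vqc2 28414759699940695747373 (vqc2 7 (vqc0 76 (vqc0 41 (vqc0 31 (vqc0 2 (vqc0 18 (vqc0 15 vqc1))))))))
      (vqc0 (vqc2 28414759699940693984842 (vqc2 3 (vqc0 80 (vqc0 35 (vqc0 43 (vqc0 1 (vqc0 60 (vqc0 2 (vqc0 18 (vqc0 15 vqc1))))))))))
      vqy151)))))));
      (let vqy152 : type_of% vqy148 := (let vqy153 : type_of% vqy148 := (vqc0 (vqc2 28412545252715159617654 (vqc2 5 (vqc0 18 (vqc0 16 (vqc0 34 (vqc0 30 vqc1))))))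
      (vqc0 (vqc2 28412545252869168789293 (vqc2 4 (vqc0 14 (vqc0 93 (vqc0 31 (vqc0 2 vqc1))))))
      (vqc0 (vqc2 28412545252869176492406 (vqc2 2 (vqc0 9 (vqc0 75 (vqc0 34 (vqc0 32 (vqc0 31 (vqc0 2 vqc1))))))))
      (vqc0 (vqc2 28412537682577596635239 (vqc2 7 (vqc0 27 (vqc0 25 (vqc0 11 (vqc0 9 vqc1))))))
      (vqc0 (vqc2 28412537682577602379850 (vqc2 4 (vqc0 56 (vqc0 20 (vqc0 84 (vqc0 9 (vqc0 111 (vqc0 42 vqc1))))))))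
      (vqc0 (vqc2 28412537682731611551562 (vqc2 5 (vqc0 46 (vqc0 109 (vqc0 18 (vqc0 15 vqc1))))))
      vqy148))))));
      (vqc0 (vqc2 28412189984037024443254 (vqc2 9 (vqc0 60 (vqc0 2 (vqc0 18 (vqc0 15 vqc1))))))
      (vqc0 (vqc2 28412189984037022680650 (vqc2 2 (vqc0 61 (vqc0 104 (vqc0 60 (vqc0 31 (vqc0 34 (vqc0 30 vqc1))))))))
      (vqc0 (vqc2 28412189984169643833162 (vqc2 7 (vqc0 95 (vqc0 76 (vqc0 60 (vqc0 2 (vqc0 18 (vqc0 15 vqc1))))))))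
      (vqc0 (vqc2 28412189984169651536246 (vqc2 10 (vqc0 87 (vqc0 85 (vqc0 75 (vqc0 9 vqc1))))))
      (vqc0 (vqc2 28412545252715153872941 (vqc2 3 (vqc0 0 (vqc0 103 (vqc0 72 (vqc0 1 (vqc0 38 (vqc0 26 (vqc0 92 (vqc0 8 vqc1))))))))))
      vqy153))))));
      (let vqy154 : type_of% vqy152 := (vqc0 (vqc2 28359452555370006534247 (vqc2 4 (vqc0 13 (vqc0 12 (vqc0 16 (vqc0 15 vqc1))))))
      (vqc0 (vqc2 28412165310996097149741 (vqc2 5 (vqc0 109 (vqc0 49 (vqc0 60 (vqc0 31 (vqc0 18 (vqc0 15 vqc1))))))))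
      (vqc0 (vqc2 28412165310996095387239 (vqc2 4 (vqc0 48 (vqc0 47 (vqc0 31 (vqc0 2 (vqc0 16 (vqc0 15 vqc1))))))))
      (vqc0 (vqc2 28412165311128716539693 (vqc2 9 (vqc0 27 (vqc0 25 (vqc0 11 (vqc0 9 vqc1))))))
      (vqc0 (vqc2 28412165311128724242791 (vqc2 7 (vqc0 9 (vqc0 75 (vqc0 34 (vqc0 32 (vqc0 31 (vqc0 2 vqc1))))))))
      vqy152)))));
      (vqc0 (vqc2 28359420312191524940602 (vqc2 2 (vqc0 93 (vqc0 14 (vqc0 62 (vqc0 25 (vqc0 18 (vqc0 15 vqc1))))))))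
      (vqc0 (vqc2 28359420312191522003007 (vqc2 3 (vqc0 76 (vqc0 41 (vqc0 31 (vqc0 2 (vqc0 18 (vqc0 15 vqc1))))))))
      (vqc0 (vqc2 28359452555245936199271 (vqc2 3 (vqc0 100 (vqc0 67 (vqc0 70 (vqc0 0 (vqc0 92 (vqc0 8 vqc1))))))))
      (vqc0 (vqc2 28359452555245940768886 (vqc2 2 (vqc0 100 (vqc0 67 (vqc0 43 (vqc0 0 (vqc0 60 (vqc0 2 vqc1))))))))
      (vqc0 (vqc2 28359452555370009471862 (vqc2 5 (vqc0 76 (vqc0 95 (vqc0 31 (vqc0 2 (vqc0 18 (vqc0 15 vqc1))))))))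
      vqy154))))))));
      (let vqy155 : type_of% vqy147 := (let vqy156 : type_of% vqy147 := (let vqy157 : type_of% vqy147 := (vqc0 (vqc2 28357990103626259908199 (vqc2 3 (vqc0 89 (vqc0 82 (vqc0 70 (vqc0 1 (vqc0 16 (vqc0 15 (vqc0 92 (vqc0 8 vqc1))))))))))
      (vqc0 (vqc2 28357990103626264477759 (vqc2 2 (vqc0 76 (vqc0 95 (vqc0 31 (vqc0 2 (vqc0 18 (vqc0 15 vqc1))))))))
      (vqc0 (vqc2 28357990103835891496767 (vqc2 4 (vqc0 64 (vqc0 13 (vqc0 77 (vqc0 28 (vqc0 16 (vqc0 15 vqc1))))))))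
      (vqc0 (vqc2 28357990103835899004007 (vqc2 5 (vqc0 102 (vqc0 77 (vqc0 93 (vqc0 12 (vqc0 16 (vqc0 15 vqc1))))))))
      (vqc0 (vqc2 28359420312067451668026 (vqc2 1 (vqc0 60 (vqc0 2 vqc1))))
      (vqc0 (vqc2 28359420312067456237631 (vqc2 2 (vqc0 76 (vqc0 41 (vqc0 31 (vqc0 2 (vqc0 18 (vqc0 15 vqc1))))))))
      vqy147))))));
      (vqc0 (vqc2 28355907936676633576566 (vqc2 3 (vqc0 99 (vqc0 35 (vqc0 70 (vqc0 1 (vqc0 31 (vqc0 2 (vqc0 18 (vqc0 15 vqc1))))))))))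
      (vqc0 (vqc2 28358002720522188637754 (vqc2 1 (vqc0 28 (vqc0 102 (vqc0 60 (vqc0 2 vqc1))))))
      (vqc0 (vqc2 28358002720522193207414 (vqc2 2 (vqc0 31 (vqc0 2 (vqc0 18 (vqc0 15 vqc1))))))
      (vqc0 (vqc2 28358002720731820226362 (vqc2 3 (vqc0 31 (vqc0 2 (vqc0 18 (vqc0 15 vqc1))))))
      (vqc0 (vqc2 28358002720731827733622 (vqc2 2 (vqc0 32 (vqc0 30 (vqc0 31 (vqc0 2 vqc1))))))
      vqy157))))));
      (let vqy158 : type_of% vqy156 := (vqc0 (vqc2 28355888310394070267706 (vqc2 2 (vqc0 12 (vqc0 13 (vqc0 70 (vqc0 43 (vqc0 92 (vqc0 8 vqc1))))))))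
      (vqc0 (vqc2 28355888310394077774951 (vqc2 4 (vqc0 60 (vqc0 2 (vqc0 34 (vqc0 30 vqc1))))))
      (vqc0 (vqc2 28355907936591067753334 (vqc2 4 (vqc0 31 (vqc0 2 (vqc0 18 (vqc0 15 vqc1))))))
      (vqc0 (vqc2 28355907936591064815679 (vqc2 2 (vqc0 107 (vqc0 73 (vqc0 57 (vqc0 55 (vqc0 92 (vqc0 8 vqc1))))))))
      (vqc0 (vqc2 28355907936676626069311 (vqc2 5 (vqc0 31 (vqc0 2 (vqc0 18 (vqc0 15 vqc1))))))
      vqy156)))));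
      (vqc0 (vqc2 28341654372399257616758 (vqc2 3 (vqc0 60 (vqc0 31 (vqc0 18 (vqc0 15 vqc1))))))
      (vqc0 (vqc2 28341654372454869784670 (vqc2 5 (vqc0 2 (vqc0 31 (vqc0 75 (vqc0 11 (vqc0 34 (vqc0 30 vqc1))))))))
      (vqc0 (vqc2 28341654372454875268214 (vqc2 4 (vqc0 77 (vqc0 31 (vqc0 14 (vqc0 2 (vqc0 62 (vqc0 25 (vqc0 18 (vqc0 15 vqc1))))))))))
      (vqc0 (vqc2 28355888310308511951674 (vqc2 3 (vqc0 76 (vqc0 95 (vqc0 31 (vqc0 2 (vqc0 18 (vqc0 15 vqc1))))))))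
      (vqc0 (vqc2 28355888310308509014119 (vqc2 5 (vqc0 13 (vqc0 12 (vqc0 16 (vqc0 15 vqc1))))))
      vqy158)))))));
      (let vqy159 : type_of% vqy155 := (let vqy160 : type_of% vqy155 := (vqc0 (vqc2 28338403012311212567414 (vqc2 9 (vqc0 115 (vqc0 21 (vqc0 88 (vqc0 43 (vqc0 27 (vqc0 25 vqc1))))))))
      (vqc0 (vqc2 28341633063863906813514 (vqc2 2 (vqc0 60 (vqc0 31 (vqc0 75 (vqc0 11 (vqc0 34 (vqc0 30 vqc1))))))))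
      (vqc0 (vqc2 28341633063863911317823 (vqc2 10 (vqc0 75 (vqc0 11 (vqc0 62 (vqc0 25 vqc1))))))
      (vqc0 (vqc2 28341633063919523485759 (vqc2 7 (vqc0 60 (vqc0 31 (vqc0 75 (vqc0 11 (vqc0 34 (vqc0 30 vqc1))))))))
      (vqc0 (vqc2 28341633063919528969290 (vqc2 9 (vqc0 28 (vqc0 64 (vqc0 27 (vqc0 25 vqc1))))))
      (vqc0 (vqc2 28341654372399253112414 (vqc2 2 (vqc0 60 (vqc0 2 (vqc0 18 (vqc0 15 vqc1))))))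
      vqy155))))));
      (vqc0 (vqc2 28338379460772140644159 (vqc2 5 (vqc0 47 (vqc0 48 (vqc0 60 (vqc0 2 (vqc0 16 (vqc0 15 vqc1))))))))
      (vqc0 (vqc2 28338379460772145605470 (vqc2 4 (vqc0 93 (vqc0 14 (vqc0 62 (vqc0 25 (vqc0 18 (vqc0 15 vqc1))))))))
      (vqc0 (vqc2 28338403012063069816394 (vqc2 2 (vqc0 95 (vqc0 76 (vqc0 60 (vqc0 2 (vqc0 18 (vqc0 15 vqc1))))))))
      (vqc0 (vqc2 28338403012063074320758 (vqc2 10 (vqc0 13 (vqc0 12 (vqc0 16 (vqc0 15 vqc1))))))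
      (vqc0 (vqc2 28338403012311207606090 (vqc2 7 (vqc0 46 (vqc0 109 (vqc0 75 (vqc0 11 (vqc0 34 (vqc0 30 vqc1))))))))
      vqy160))))));
      (let vqy161 : type_of% vqy159 := (vqc0 (vqc2 28337461193548301337718 (vqc2 7 (vqc0 70 (vqc0 1 (vqc0 99 (vqc0 35 (vqc0 18 (vqc0 15 vqc1))))))))
      (vqc0 (vqc2 28337461193740816971583 (vqc2 9 (vqc0 28 (vqc0 102 (vqc0 27 (vqc0 25 vqc1))))))
      (vqc0 (vqc2 28337461193740821932918 (vqc2 5 (vqc0 11 (vqc0 75 (vqc0 34 (vqc0 32 (vqc0 31 (vqc0 2 vqc1))))))))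
      (vqc0 (vqc2 28338379460524002854494 (vqc2 2 (vqc0 95 (vqc0 41 (vqc0 60 (vqc0 2 (vqc0 18 (vqc0 15 vqc1))))))))
      (vqc0 (vqc2 28338379460524007358783 (vqc2 3 (vqc0 109 (vqc0 46 (vqc0 60 (vqc0 31 (vqc0 18 (vqc0 15 vqc1))))))))
      vqy159)))));
      (vqc0 (vqc2 28337441847641205135454 (vqc2 9 (vqc0 27 (vqc0 25 vqc1))))
      (vqc0 (vqc2 28337441847641210618954 (vqc2 5 (vqc0 49 (vqc0 109 (vqc0 34 (vqc0 32 (vqc0 31 (vqc0 2 vqc1))))))))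
      (vqc0 (vqc2 28337441847833726252874 (vqc2 4 (vqc0 56 (vqc0 57 (vqc0 92 (vqc0 8 (vqc0 16 (vqc0 15 vqc1))))))))
      (vqc0 (vqc2 28337441847833731214174 (vqc2 7 (vqc0 8 (vqc0 60 (vqc0 65 (vqc0 1 (vqc0 99 (vqc0 35 (vqc0 18 (vqc0 15 vqc1))))))))))
      (vqc0 (vqc2 28337461193548295854143 (vqc2 4 (vqc0 97 (vqc0 14 (vqc0 73 (vqc0 2 (vqc0 62 (vqc0 25 (vqc0 18 (vqc0 15 vqc1))))))))))
      vqy161))))))))));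
      (let vqy162 : type_of% vqy130 := (let vqy163 : type_of% vqy130 := (let vqy164 : type_of% vqy130 := (let vqy165 : type_of% vqy130 := (let vqy166 : type_of% vqy130 := (vqc0 (vqc2 21093011974700801214010 (vqc2 3 (vqc0 32 (vqc0 30 (vqc0 60 (vqc0 2 (vqc0 18 (vqc0 15 vqc1))))))))
      (vqc0 (vqc2 21093011974700805783636 (vqc2 5 (vqc0 32 (vqc0 30 (vqc0 60 (vqc0 2 (vqc0 18 (vqc0 15 vqc1))))))))
      (vqc0 (vqc2 21092999357744977872413 (vqc2 9 (vqc0 9 (vqc0 11 (vqc0 62 (vqc0 25 vqc1))))))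
      (vqc0 (vqc2 21092999357744978198847 (vqc2 5 (vqc0 102 (vqc0 64 (vqc0 75 (vqc0 9 (vqc0 34 (vqc0 30 vqc1))))))))
      (vqc0 (vqc2 21092999357804872484381 (vqc2 4 (vqc0 46 (vqc0 34 (vqc0 77 (vqc0 49 (vqc0 18 (vqc0 15 vqc1))))))))
      (vqc0 (vqc2 21092999357804877054015 (vqc2 7 (vqc0 61 (vqc0 104 (vqc0 31 (vqc0 2 vqc1))))))
      vqy130))))));
      (vqc0 (vqc2 21092430400060156936511 (vqc2 4 (vqc0 44 (vqc0 48 (vqc0 60 (vqc0 2 (vqc0 16 (vqc0 15 vqc1))))))))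
      (vqc0 (vqc2 21092430400154282502996 (vqc2 9 (vqc0 44 (vqc0 47 (vqc0 31 (vqc0 2 (vqc0 16 (vqc0 15 vqc1))))))))
      (vqc0 (vqc2 21092430400154279565375 (vqc2 7 (vqc0 107 (vqc0 73 (vqc0 57 (vqc0 55 (vqc0 92 (vqc0 8 vqc1))))))))
      (vqc0 (vqc2 21093011974640906602068 (vqc2 4 (vqc0 75 (vqc0 9 (vqc0 31 (vqc0 2 vqc1))))))
      (vqc0 (vqc2 21093011974640906928442 (vqc2 2 (vqc0 30 (vqc0 34 (vqc0 70 (vqc0 1 (vqc0 99 (vqc0 35 (vqc0 18 (vqc0 15 vqc1))))))))))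
      vqy166))))));
      (let vqy167 : type_of% vqy165 := (vqc0 (vqc2 21092410773777600808477 (vqc2 7 (vqc0 62 (vqc0 27 (vqc0 75 (vqc0 9 vqc1))))))
      (vqc0 (vqc2 21092410773777601134906 (vqc2 3 (vqc0 37 (vqc0 38 (vqc0 113 (vqc0 35 (vqc0 18 (vqc0 16 (vqc0 92 (vqc0 8 vqc1))))))))))
      (vqc0 (vqc2 21092410773871726701370 (vqc2 6 (vqc0 31 (vqc0 2 (vqc0 34 (vqc0 30 vqc1))))))
      (vqc0 (vqc2 21092410773871723763741 (vqc2 7 (vqc0 28 (vqc0 76 (vqc0 9 (vqc0 64 (vqc0 27 (vqc0 25 vqc1))))))))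
      (vqc0 (vqc2 21092430400060156610132 (vqc2 5 (vqc0 43 (vqc0 12 (vqc0 4 (vqc0 57 (vqc0 92 (vqc0 8 (vqc0 16 (vqc0 15 vqc1))))))))))
      vqy165)))));
      (vqc0 (vqc2 21091402178661660186653 (vqc2 7 (vqc0 95 (vqc0 32 (vqc0 72 (vqc0 41 (vqc0 60 (vqc0 2 (vqc0 18 (vqc0 15 vqc1))))))))))
      (vqc0 (vqc2 21091403580504757257786 (vqc2 2 (vqc0 25 (vqc0 62 (vqc0 60 (vqc0 31 (vqc0 18 (vqc0 15 vqc1))))))))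
      (vqc0 (vqc2 21091403580504761827391 (vqc2 9 (vqc0 34 (vqc0 30 (vqc0 18 (vqc0 15 vqc1))))))
      (vqc0 (vqc2 21091403580538988538682 (vqc2 10 (vqc0 64 (vqc0 86 (vqc0 28 (vqc0 27 (vqc0 75 (vqc0 9 vqc1))))))))
      (vqc0 (vqc2 21091403580538985601087 (vqc2 7 (vqc0 25 (vqc0 62 (vqc0 60 (vqc0 31 (vqc0 18 (vqc0 15 vqc1))))))))
      vqy167)))))));
      (let vqy168 : type_of% vqy164 := (let vqy169 : type_of% vqy164 := (vqc0 (vqc2 19691068199961354109022 (vqc2 10 (vqc0 48 (vqc0 44 (vqc0 60 (vqc0 2 vqc1))))))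
      (vqc0 (vqc2 19691068200106812917342 (vqc2 2 (vqc0 46 (vqc0 34 (vqc0 77 (vqc0 49 (vqc0 18 (vqc0 15 vqc1))))))))
      (vqc0 (vqc2 19691068200106817095276 (vqc2 7 (vqc0 28 (vqc0 102 (vqc0 34 (vqc0 30 vqc1))))))
      (vqc0 (vqc2 21091402178627431843357 (vqc2 5 (vqc0 46 (vqc0 34 (vqc0 77 (vqc0 49 (vqc0 18 (vqc0 15 vqc1))))))))
      (vqc0 (vqc2 21091402178627436413012 (vqc2 4 (vqc0 25 (vqc0 62 (vqc0 60 (vqc0 31 (vqc0 18 (vqc0 15 vqc1))))))))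
      (vqc0 (vqc2 21091402178661663124308 (vqc2 9 (vqc0 117 (vqc0 7 (vqc0 88 (vqc0 70 (vqc0 11 (vqc0 9 vqc1))))))))
      vqy164))))));
      (vqc0 (vqc2 19691059508321936474426 (vqc2 10 (vqc0 28 (vqc0 102 (vqc0 60 (vqc0 2 vqc1))))))
      (vqc0 (vqc2 19691059508321936539732 (vqc2 9 (vqc0 25 (vqc0 62 (vqc0 60 (vqc0 31 (vqc0 18 (vqc0 15 vqc1))))))))
      (vqc0 (vqc2 19691059508467395348026 (vqc2 2 (vqc0 34 (vqc0 30 (vqc0 18 (vqc0 15 vqc1))))))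
      (vqc0 (vqc2 19691059508467399525972 (vqc2 7 (vqc0 34 (vqc0 30 (vqc0 18 (vqc0 15 vqc1))))))
      (vqc0 (vqc2 19691068199961354043756 (vqc2 9 (vqc0 79 (vqc0 81 (vqc0 88 (vqc0 43 (vqc0 113 (vqc0 35 vqc1))))))))
      vqy169))))));
      (let vqy170 : type_of% vqy168 := (vqc0 (vqc2 19687217321386865809502 (vqc2 9 (vqc0 43 (vqc0 12 (vqc0 57 (vqc0 63 (vqc0 92 (vqc0 8 vqc1))))))))
      (vqc0 (vqc2 19687235265044420755820 (vqc2 7 (vqc0 15 (vqc0 102 (vqc0 28 (vqc0 109 (vqc0 34 (vqc0 30 vqc1))))))))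
      (vqc0 (vqc2 19687235265044420821076 (vqc2 2 (vqc0 30 (vqc0 32 (vqc0 113 (vqc0 35 (vqc0 92 (vqc0 8 vqc1))))))))
      (vqc0 (vqc2 19687235265416629090132 (vqc2 10 (vqc0 75 (vqc0 11 (vqc0 34 (vqc0 30 vqc1))))))
      (vqc0 (vqc2 19687235265416631113836 (vqc2 9 (vqc0 61 (vqc0 59 (vqc0 60 (vqc0 31 (vqc0 34 (vqc0 30 vqc1))))))))
      vqy168)))));
      (vqc0 (vqc2 19684765878849447163732 (vqc2 10 (vqc0 11 (vqc0 9 vqc1))))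
      (vqc0 (vqc2 19684765878849449187422 (vqc2 10 (vqc0 14 (vqc0 77 (vqc0 11 (vqc0 9 vqc1))))))
      (vqc0 (vqc2 19687217321014655451450 (vqc2 2 (vqc0 113 (vqc0 35 (vqc0 92 (vqc0 8 vqc1))))))
      (vqc0 (vqc2 19687217321014655516766 (vqc2 7 (vqc0 1 (vqc0 88 (vqc0 111 (vqc0 42 vqc1))))))
      (vqc0 (vqc2 19687217321386863785786 (vqc2 10 (vqc0 11 (vqc0 9 (vqc0 27 (vqc0 25 vqc1))))))
      vqy170))))))));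
      (let vqy171 : type_of% vqy163 := (let vqy172 : type_of% vqy163 := (let vqy173 : type_of% vqy163 := (vqc0 (vqc2 19684765598247232620090 (vqc2 1 (vqc0 61 (vqc0 104 (vqc0 31 (vqc0 2 (vqc0 34 (vqc0 30 vqc1))))))))
      (vqc0 (vqc2 19684765598247236798060 (vqc2 6 (vqc0 34 (vqc0 30 vqc1))))
      (vqc0 (vqc2 19684765598473982080826 (vqc2 8 (vqc0 11 (vqc0 9 vqc1))))
      (vqc0 (vqc2 19684765598473984104556 (vqc2 6 (vqc0 60 (vqc0 31 (vqc0 34 (vqc0 30 vqc1))))))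
      (vqc0 (vqc2 19684765878622697703006 (vqc2 3 (vqc0 34 (vqc0 30 (vqc0 18 (vqc0 15 vqc1))))))
      (vqc0 (vqc2 19684765878622701880916 (vqc2 3 (vqc0 46 (vqc0 93 (vqc0 30 (vqc0 109 (vqc0 18 (vqc0 15 vqc1))))))))
      vqy163))))));
      (vqc0 (vqc2 20521150325501058220351 (vqc2 9 (vqc0 86 (vqc0 85 (vqc0 62 (vqc0 25 vqc1))))))
      (vqc0 (vqc2 20521171633925166990956 (vqc2 5 (vqc0 75 (vqc0 9 (vqc0 31 (vqc0 2 vqc1))))))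
      (vqc0 (vqc2 20521171633925167382622 (vqc2 3 (vqc0 95 (vqc0 32 (vqc0 72 (vqc0 41 (vqc0 60 (vqc0 2 (vqc0 18 (vqc0 15 vqc1))))))))))
      (vqc0 (vqc2 20521171634036400014942 (vqc2 2 (vqc0 70 (vqc0 4 (vqc0 81 (vqc0 3 (vqc0 31 (vqc0 2 vqc1))))))))
      (vqc0 (vqc2 20521171634036404519276 (vqc2 4 (vqc0 31 (vqc0 2 (vqc0 75 (vqc0 9 (vqc0 34 (vqc0 30 vqc1))))))))
      vqy173))))));
      (let vqy174 : type_of% vqy172 := (vqc0 (vqc2 20518851952711280850751 (vqc2 10 (vqc0 31 (vqc0 2 (vqc0 75 (vqc0 9 (vqc0 34 (vqc0 30 vqc1))))))))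
      (vqc0 (vqc2 20518851952711285812076 (vqc2 7 (vqc0 109 (vqc0 25 (vqc0 97 (vqc0 49 (vqc0 60 (vqc0 31 (vqc0 18 (vqc0 15 vqc1))))))))))
      (vqc0 (vqc2 20521150325389820691997 (vqc2 7 (vqc0 59 (vqc0 61 (vqc0 75 (vqc0 9 (vqc0 34 (vqc0 30 vqc1))))))))
      (vqc0 (vqc2 20521150325389821083711 (vqc2 4 (vqc0 34 (vqc0 30 (vqc0 18 (vqc0 15 vqc1))))))
      (vqc0 (vqc2 20521150325501053715997 (vqc2 5 (vqc0 60 (vqc0 2 (vqc0 75 (vqc0 9 (vqc0 34 (vqc0 30 vqc1))))))))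
      vqy172)))));
      (vqc0 (vqc2 20518832606556052652126 (vqc2 5 (vqc0 34 (vqc0 30 (vqc0 18 (vqc0 15 vqc1))))))
      (vqc0 (vqc2 20518832606804190131997 (vqc2 9 (vqc0 14 (vqc0 77 (vqc0 11 (vqc0 9 vqc1))))))
      (vqc0 (vqc2 20518832606804195093342 (vqc2 7 (vqc0 32 (vqc0 30 (vqc0 60 (vqc0 2 (vqc0 18 (vqc0 15 vqc1))))))))
      (vqc0 (vqc2 20518851952463142979180 (vqc2 9 (vqc0 99 (vqc0 1 (vqc0 41 (vqc0 4 (vqc0 81 (vqc0 3 vqc1))))))))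
      (vqc0 (vqc2 20518851952463143370815 (vqc2 2 (vqc0 109 (vqc0 25 (vqc0 97 (vqc0 49 (vqc0 60 (vqc0 31 (vqc0 18 (vqc0 15 vqc1))))))))))
      vqy174)))))));
      (let vqy175 : type_of% vqy171 := (let vqy176 : type_of% vqy171 := (vqc0 (vqc2 20516958757515924286316 (vqc2 7 (vqc0 77 (vqc0 9 (vqc0 14 (vqc0 11 (vqc0 62 (vqc0 25 vqc1))))))))
      (vqc0 (vqc2 20516960439631804974686 (vqc2 4 (vqc0 102 (vqc0 28 (vqc0 60 (vqc0 2 (vqc0 16 (vqc0 15 vqc1))))))))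
      (vqc0 (vqc2 20516960439631809478975 (vqc2 5 (vqc0 79 (vqc0 17 (vqc0 74 (vqc0 27 (vqc0 111 (vqc0 42 vqc1))))))))
      (vqc0 (vqc2 20516960439768709822271 (vqc2 9 (vqc0 64 (vqc0 86 (vqc0 28 (vqc0 27 (vqc0 75 (vqc0 9 vqc1))))))))
      (vqc0 (vqc2 20516960439768714783582 (vqc2 7 (vqc0 72 (vqc0 73 (vqc0 62 (vqc0 25 (vqc0 18 (vqc0 15 vqc1))))))))
      (vqc0 (vqc2 20518832606556052260381 (vqc2 4 (vqc0 12 (vqc0 50 (vqc0 1 (vqc0 88 (vqc0 111 (vqc0 42 vqc1))))))))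
      vqy171))))));
      (vqc0 (vqc2 20188553732678408558686 (vqc2 9 (vqc0 16 (vqc0 15 (vqc0 60 (vqc0 2 vqc1))))))
      (vqc0 (vqc2 20188553732678414238068 (vqc2 7 (vqc0 28 (vqc0 102 (vqc0 60 (vqc0 2 (vqc0 34 (vqc0 30 vqc1))))))))
      (vqc0 (vqc2 20516958757379014477341 (vqc2 3 (vqc0 23 (vqc0 73 (vqc0 82 (vqc0 22 (vqc0 38 (vqc0 26 (vqc0 92 (vqc0 8 vqc1))))))))))
      (vqc0 (vqc2 20516958757379018981740 (vqc2 7 (vqc0 14 (vqc0 77 (vqc0 11 (vqc0 9 vqc1))))))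
      (vqc0 (vqc2 20516958757515919324957 (vqc2 6 (vqc0 14 (vqc0 77 (vqc0 11 (vqc0 9 vqc1))))))
      vqy176))))));
      (let vqy177 : type_of% vqy175 := (vqc0 (vqc2 20188520367908224435741 (vqc2 7 (vqc0 14 (vqc0 93 (vqc0 11 (vqc0 9 vqc1))))))
      (vqc0 (vqc2 20188520367998063695901 (vqc2 7 (vqc0 11 (vqc0 9 (vqc0 27 (vqc0 25 vqc1))))))
      (vqc0 (vqc2 20188520367998069375290 (vqc2 6 (vqc0 14 (vqc0 93 (vqc0 11 (vqc0 9 vqc1))))))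
      (vqc0 (vqc2 20188553732588566883166 (vqc2 5 (vqc0 28 (vqc0 64 (vqc0 34 (vqc0 30 vqc1))))))
      (vqc0 (vqc2 20188553732588569298548 (vqc2 4 (vqc0 75 (vqc0 11 (vqc0 60 (vqc0 31 (vqc0 34 (vqc0 30 vqc1))))))))
      vqy175)))));
      (vqc0 (vqc2 20186815625707292863290 (vqc2 2 (vqc0 61 (vqc0 104 (vqc0 34 (vqc0 32 (vqc0 31 (vqc0 2 vqc1))))))))
      (vqc0 (vqc2 20186815625707295278708 (vqc2 9 (vqc0 56 (vqc0 20 (vqc0 35 (vqc0 99 (vqc0 81 (vqc0 3 vqc1))))))))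
      (vqc0 (vqc2 20186815625899811043130 (vqc2 10 (vqc0 62 (vqc0 27 (vqc0 75 (vqc0 9 vqc1))))))
      (vqc0 (vqc2 20186815625899818811508 (vqc2 7 (vqc0 61 (vqc0 104 (vqc0 34 (vqc0 32 (vqc0 31 (vqc0 2 vqc1))))))))
      (vqc0 (vqc2 20188520367908222020410 (vqc2 3 (vqc0 26 (vqc0 32 (vqc0 88 (vqc0 40 (vqc0 84 (vqc0 11 (vqc0 111 (vqc0 42 vqc1))))))))))
      vqy177)))))))));
      (let vqy178 : type_of% vqy162 := (let vqy179 : type_of% vqy162 := (let vqy180 : type_of% vqy162 := (let vqy181 : type_of% vqy162 := (vqc0 (vqc2 20185289755548973037341 (vqc2 9 (vqc0 18 (vqc0 15 (vqc0 34 (vqc0 30 vqc1))))))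
      (vqc0 (vqc2 20185289755548980805748 (vqc2 5 (vqc0 25 (vqc0 62 (vqc0 60 (vqc0 31 (vqc0 18 (vqc0 15 vqc1))))))))
      (vqc0 (vqc2 20186791233041830652766 (vqc2 4 (vqc0 48 (vqc0 44 (vqc0 31 (vqc0 2 vqc1))))))
      (vqc0 (vqc2 20186791233041833068061 (vqc2 5 (vqc0 73 (vqc0 97 (vqc0 18 (vqc0 16 (vqc0 60 (vqc0 2 vqc1))))))))
      (vqc0 (vqc2 20186791233234348832541 (vqc2 7 (vqc0 9 (vqc0 75 (vqc0 60 (vqc0 31 (vqc0 34 (vqc0 30 vqc1))))))))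
      (vqc0 (vqc2 20186791233234356600926 (vqc2 9 (vqc0 14 (vqc0 93 (vqc0 11 (vqc0 9 vqc1))))))
      vqy162))))));
      (vqc0 (vqc2 20185279381554094145850 (vqc2 3 (vqc0 101 (vqc0 67 (vqc0 69 (vqc0 19 (vqc0 60 (vqc0 2 vqc1))))))))
      (vqc0 (vqc2 20185279381656764970810 (vqc2 2 (vqc0 9 (vqc0 75 (vqc0 60 (vqc0 31 (vqc0 34 (vqc0 30 vqc1))))))))
      (vqc0 (vqc2 20185279381656772739166 (vqc2 4 (vqc0 59 (vqc0 61 (vqc0 31 (vqc0 2 (vqc0 16 (vqc0 15 vqc1))))))))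
      (vqc0 (vqc2 20185289755446296533021 (vqc2 4 (vqc0 61 (vqc0 104 (vqc0 31 (vqc0 2 (vqc0 34 (vqc0 30 vqc1))))))))
      (vqc0 (vqc2 20185289755446302212468 (vqc2 7 (vqc0 27 (vqc0 62 (vqc0 31 (vqc0 2 (vqc0 18 (vqc0 15 vqc1))))))))
      vqy181))))));
      (let vqy182 : type_of% vqy180 := (vqc0 (vqc2 19006953306632308676716 (vqc2 7 (vqc0 11 (vqc0 75 (vqc0 34 (vqc0 32 (vqc0 31 (vqc0 2 vqc1))))))))
      (vqc0 (vqc2 19006953306632314421364 (vqc2 10 (vqc0 64 (vqc0 62 (vqc0 27 (vqc0 85 (vqc0 75 (vqc0 9 vqc1))))))))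
      (vqc0 (vqc2 19006953306653704203116 (vqc2 9 (vqc0 16 (vqc0 15 (vqc0 27 (vqc0 25 (vqc0 60 (vqc0 2 vqc1))))))))
      (vqc0 (vqc2 19006953306653702440564 (vqc2 2 (vqc0 11 (vqc0 75 (vqc0 34 (vqc0 32 (vqc0 31 (vqc0 2 vqc1))))))))
      (vqc0 (vqc2 20185279381554088466526 (vqc2 5 (vqc0 59 (vqc0 61 (vqc0 31 (vqc0 2 (vqc0 16 (vqc0 15 vqc1))))))))
      vqy180)))));
      (vqc0 (vqc2 19004698205139747930484 (vqc2 4 (vqc0 46 (vqc0 93 (vqc0 30 (vqc0 109 (vqc0 18 (vqc0 15 vqc1))))))))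
      (vqc0 (vqc2 19006920222327428896797 (vqc2 9 (vqc0 11 (vqc0 9 vqc1))))
      (vqc0 (vqc2 19006920222327434641492 (vqc2 7 (vqc0 88 (vqc0 1 (vqc0 74 (vqc0 27 (vqc0 111 (vqc0 42 vqc1))))))))
      (vqc0 (vqc2 19006920222348824423252 (vqc2 5 (vqc0 18 (vqc0 16 (vqc0 60 (vqc0 2 vqc1))))))
      (vqc0 (vqc2 19006920222348822660637 (vqc2 4 (vqc0 70 (vqc0 0 (vqc0 18 (vqc0 16 (vqc0 92 (vqc0 8 vqc1))))))))
      vqy182)))))));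
      (let vqy183 : type_of% vqy179 := (let vqy184 : type_of% vqy179 := (vqc0 (vqc2 19004705775123288293460 (vqc2 2 (vqc0 61 (vqc0 9 (vqc0 49 (vqc0 104 (vqc0 60 (vqc0 31 (vqc0 34 (vqc0 30 vqc1))))))))))
      (vqc0 (vqc2 19004705775277297465172 (vqc2 3 (vqc0 43 (vqc0 103 (vqc0 97 (vqc0 0 (vqc0 69 (vqc0 19 (vqc0 60 (vqc0 2 vqc1))))))))))
      (vqc0 (vqc2 19004705775277305168236 (vqc2 5 (vqc0 44 (vqc0 47 (vqc0 31 (vqc0 2 (vqc0 16 (vqc0 15 vqc1))))))))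
      (vqc0 (vqc2 19004698204985725311005 (vqc2 5 (vqc0 49 (vqc0 109 (vqc0 11 (vqc0 9 (vqc0 31 (vqc0 2 vqc1))))))))
      (vqc0 (vqc2 19004698204985731055732 (vqc2 9 (vqc0 32 (vqc0 30 (vqc0 60 (vqc0 2 (vqc0 18 (vqc0 15 vqc1))))))))
      (vqc0 (vqc2 19004698205139740227357 (vqc2 7 (vqc0 75 (vqc0 9 (vqc0 34 (vqc0 30 vqc1))))))
      vqy179))))));
      (vqc0 (vqc2 19004350506445153119060 (vqc2 4 (vqc0 61 (vqc0 104 (vqc0 60 (vqc0 31 (vqc0 34 (vqc0 30 vqc1))))))))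
      (vqc0 (vqc2 19004350506445151356532 (vqc2 5 (vqc0 15 (vqc0 16 (vqc0 34 (vqc0 30 vqc1))))))
      (vqc0 (vqc2 19004350506577772509012 (vqc2 7 (vqc0 75 (vqc0 9 (vqc0 60 (vqc0 2 (vqc0 34 (vqc0 30 vqc1))))))))
      (vqc0 (vqc2 19004350506577780212084 (vqc2 9 (vqc0 62 (vqc0 27 (vqc0 75 (vqc0 9 vqc1))))))
      (vqc0 (vqc2 19004705775123282548844 (vqc2 4 (vqc0 44 (vqc0 47 (vqc0 31 (vqc0 2 (vqc0 16 (vqc0 15 vqc1))))))))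
      vqy184))))));
      (let vqy185 : type_of% vqy183 := (vqc0 (vqc2 18914719591872423544436 (vqc2 2 (vqc0 59 (vqc0 104 (vqc0 75 (vqc0 9 (vqc0 34 (vqc0 30 vqc1))))))))
      (vqc0 (vqc2 19004325833404225825644 (vqc2 7 (vqc0 11 (vqc0 9 vqc1))))
      (vqc0 (vqc2 19004325833404224063005 (vqc2 3 (vqc0 88 (vqc0 1 (vqc0 84 (vqc0 11 (vqc0 111 (vqc0 42 vqc1))))))))
      (vqc0 (vqc2 19004325833536845215517 (vqc2 6 (vqc0 11 (vqc0 9 vqc1))))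
      (vqc0 (vqc2 19004325833536852918636 (vqc2 7 (vqc0 9 (vqc0 11 (vqc0 62 (vqc0 25 vqc1))))))
      vqy183)))));
      (vqc0 (vqc2 18914687909444868003903 (vqc2 4 (vqc0 64 (vqc0 28 (vqc0 16 (vqc0 15 vqc1))))))
      (vqc0 (vqc2 18914687909444869178938 (vqc2 3 (vqc0 60 (vqc0 2 vqc1))))
      (vqc0 (vqc2 18914719591637117315948 (vqc2 4 (vqc0 77 (vqc0 50 (vqc0 93 (vqc0 12 (vqc0 16 (vqc0 15 vqc1))))))))
      (vqc0 (vqc2 18914719591637120122996 (vqc2 3 (vqc0 72 (vqc0 73 (vqc0 62 (vqc0 25 (vqc0 18 (vqc0 15 vqc1))))))))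
      (vqc0 (vqc2 18914719591872422369388 (vqc2 5 (vqc0 77 (vqc0 50 (vqc0 93 (vqc0 12 (vqc0 16 (vqc0 15 vqc1))))))))
      vqy185))))))));
      (let vqy186 : type_of% vqy178 := (let vqy187 : type_of% vqy178 := (let vqy188 : type_of% vqy178 := (vqc0 (vqc2 18913990360341371956026 (vqc2 3 (vqc0 73 (vqc0 97 (vqc0 60 (vqc0 2 vqc1))))))
      (vqc0 (vqc2 18913990360341374763124 (vqc2 4 (vqc0 27 (vqc0 62 (vqc0 31 (vqc0 2 (vqc0 18 (vqc0 15 vqc1))))))))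
      (vqc0 (vqc2 18913990360619454723898 (vqc2 2 (vqc0 75 (vqc0 9 (vqc0 34 (vqc0 30 vqc1))))))
      (vqc0 (vqc2 18913990360619462100596 (vqc2 5 (vqc0 62 (vqc0 25 (vqc0 16 (vqc0 15 (vqc0 60 (vqc0 2 vqc1))))))))
      (vqc0 (vqc2 18914687909209562950458 (vqc2 2 (vqc0 70 (vqc0 43 (vqc0 92 (vqc0 8 vqc1))))))
      (vqc0 (vqc2 18914687909209565757503 (vqc2 5 (vqc0 64 (vqc0 28 (vqc0 16 (vqc0 15 vqc1))))))
      vqy178))))));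
      (vqc0 (vqc2 18910014449608532887156 (vqc2 2 (vqc0 51 (vqc0 52 (vqc0 64 (vqc0 102 (vqc0 43 (vqc0 0 (vqc0 60 (vqc0 2 vqc1))))))))))
      (vqc0 (vqc2 18913985313583000464236 (vqc2 5 (vqc0 50 (vqc0 12 (vqc0 16 (vqc0 15 vqc1))))))
      (vqc0 (vqc2 18913985313583003271231 (vqc2 2 (vqc0 31 (vqc0 77 (vqc0 73 (vqc0 2 (vqc0 62 (vqc0 25 (vqc0 18 (vqc0 15 vqc1))))))))))
      (vqc0 (vqc2 18913985313861083232063 (vqc2 3 (vqc0 73 (vqc0 72 (vqc0 60 (vqc0 2 vqc1))))))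
      (vqc0 (vqc2 18913985313861090608748 (vqc2 4 (vqc0 50 (vqc0 12 (vqc0 16 (vqc0 15 vqc1))))))
      vqy188))))));
      (let vqy189 : type_of% vqy187 := (vqc0 (vqc2 18910002393463526946618 (vqc2 1 (vqc0 75 (vqc0 11 (vqc0 34 (vqc0 30 vqc1))))))
      (vqc0 (vqc2 18910002393463534323308 (vqc2 3 (vqc0 99 (vqc0 35 (vqc0 4 (vqc0 1 (vqc0 16 (vqc0 15 (vqc0 92 (vqc0 8 vqc1))))))))))
      (vqc0 (vqc2 18910014449565747796031 (vqc2 2 (vqc0 61 (vqc0 104 (vqc0 31 (vqc0 2 vqc1))))))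
      (vqc0 (vqc2 18910014449565748971124 (vqc2 2 (vqc0 27 (vqc0 62 (vqc0 31 (vqc0 2 (vqc0 18 (vqc0 15 vqc1))))))))
      (vqc0 (vqc2 18910014449608525510463 (vqc2 2 (vqc0 75 (vqc0 9 (vqc0 60 (vqc0 2 (vqc0 34 (vqc0 30 vqc1))))))))
      vqy187)))));
      (vqc0 (vqc2 18897281724248249532788 (vqc2 5 (vqc0 72 (vqc0 73 (vqc0 62 (vqc0 25 (vqc0 18 (vqc0 15 vqc1))))))))
      (vqc0 (vqc2 18897281724372314642526 (vqc2 4 (vqc0 75 (vqc0 11 (vqc0 34 (vqc0 30 vqc1))))))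
      (vqc0 (vqc2 18897281724372319995508 (vqc2 9 (vqc0 77 (vqc0 50 (vqc0 93 (vqc0 12 (vqc0 16 (vqc0 15 vqc1))))))))
      (vqc0 (vqc2 18910002393420749232236 (vqc2 3 (vqc0 106 (vqc0 55 (vqc0 43 (vqc0 0 (vqc0 92 (vqc0 8 vqc1))))))))
      (vqc0 (vqc2 18910002393420750407226 (vqc2 1 (vqc0 46 (vqc0 109 (vqc0 75 (vqc0 11 (vqc0 34 (vqc0 30 vqc1))))))))
      vqy189)))))));
      (let vqy190 : type_of% vqy186 := (let vqy191 : type_of% vqy186 := (vqc0 (vqc2 18893670048792151803508 (vqc2 4 (vqc0 46 (vqc0 109 (vqc0 75 (vqc0 11 (vqc0 34 (vqc0 30 vqc1))))))))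
      (vqc0 (vqc2 18897267985850457729876 (vqc2 4 (vqc0 72 (vqc0 73 (vqc0 62 (vqc0 25 (vqc0 18 (vqc0 15 vqc1))))))))
      (vqc0 (vqc2 18897267985850460471615 (vqc2 9 (vqc0 50 (vqc0 12 (vqc0 16 (vqc0 15 vqc1))))))
      (vqc0 (vqc2 18897267985974525581375 (vqc2 5 (vqc0 44 (vqc0 48 (vqc0 60 (vqc0 2 (vqc0 16 (vqc0 15 vqc1))))))))
      (vqc0 (vqc2 18897267985974530934356 (vqc2 7 (vqc0 76 (vqc0 2 (vqc0 31 (vqc0 109 (vqc0 75 (vqc0 11 (vqc0 34 (vqc0 30 vqc1))))))))))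
      (vqc0 (vqc2 18897281724248246791006 (vqc2 7 (vqc0 70 (vqc0 4 (vqc0 81 (vqc0 3 (vqc0 31 (vqc0 2 vqc1))))))))
      vqy186))))));
      (vqc0 (vqc2 18893647058004011808575 (vqc2 7 (vqc0 2 (vqc0 31 (vqc0 75 (vqc0 11 (vqc0 34 (vqc0 30 vqc1))))))))
      (vqc0 (vqc2 18893647058004015007326 (vqc2 5 (vqc0 102 (vqc0 28 (vqc0 60 (vqc0 2 (vqc0 16 (vqc0 15 vqc1))))))))
      (vqc0 (vqc2 18893670048454167046996 (vqc2 5 (vqc0 13 (vqc0 50 (vqc0 1 (vqc0 88 (vqc0 111 (vqc0 42 vqc1))))))))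
      (vqc0 (vqc2 18893670048454169788788 (vqc2 7 (vqc0 30 (vqc0 34 (vqc0 70 (vqc0 1 (vqc0 99 (vqc0 35 (vqc0 18 (vqc0 15 vqc1))))))))))
      (vqc0 (vqc2 18893670048792148604756 (vqc2 9 (vqc0 28 (vqc0 76 (vqc0 9 (vqc0 64 (vqc0 27 (vqc0 25 vqc1))))))))
      vqy191))))));
      (let vqy192 : type_of% vqy190 := (vqc0 (vqc2 18891567706480116762228 (vqc2 10 (vqc0 86 (vqc0 85 (vqc0 62 (vqc0 25 vqc1))))))
      (vqc0 (vqc2 18891567706694025115455 (vqc2 10 (vqc0 9 (vqc0 11 (vqc0 62 (vqc0 25 vqc1))))))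
      (vqc0 (vqc2 18891567706694028314228 (vqc2 3 (vqc0 25 (vqc0 62 (vqc0 60 (vqc0 31 (vqc0 18 (vqc0 15 vqc1))))))))
      (vqc0 (vqc2 18893647057666030250846 (vqc2 9 (vqc0 11 (vqc0 9 (vqc0 27 (vqc0 25 vqc1))))))
      (vqc0 (vqc2 18893647057666032992575 (vqc2 4 (vqc0 107 (vqc0 4 (vqc0 61 (vqc0 43 (vqc0 92 (vqc0 8 (vqc0 16 (vqc0 15 vqc1))))))))))
      vqy190)))));
      (vqc0 (vqc2 18891555930710577928286 (vqc2 2 (vqc0 43 (vqc0 0 (vqc0 34 (vqc0 32 (vqc0 92 (vqc0 8 vqc1))))))))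
      (vqc0 (vqc2 18891555930710583281236 (vqc2 2 (vqc0 95 (vqc0 97 (vqc0 30 (vqc0 76 (vqc0 60 (vqc0 2 (vqc0 18 (vqc0 15 vqc1))))))))))
      (vqc0 (vqc2 18891555930924491634516 (vqc2 2 (vqc0 2 (vqc0 31 (vqc0 75 (vqc0 11 (vqc0 34 (vqc0 30 vqc1))))))))
      (vqc0 (vqc2 18891555930924494833246 (vqc2 2 (vqc0 32 (vqc0 30 (vqc0 60 (vqc0 2 (vqc0 18 (vqc0 15 vqc1))))))))
      (vqc0 (vqc2 18891567706480111409215 (vqc2 3 (vqc0 95 (vqc0 76 (vqc0 75 (vqc0 11 (vqc0 34 (vqc0 30 vqc1))))))))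
      vqy192)))))))))));
      (let vqy193 : type_of% vqy129 := (let vqy194 : type_of% vqy129 := (let vqy195 : type_of% vqy129 := (let vqy196 : type_of% vqy129 := (let vqy197 : type_of% vqy129 := (let vqy198 : type_of% vqy129 := (vqc0 (vqc2 6925763344371388799021 (vqc2 5 (vqc0 93 (vqc0 77 (vqc0 47 (vqc0 44 (vqc0 16 (vqc0 15 vqc1))))))))
      (vqc0 (vqc2 6925763344371394543700 (vqc2 4 (vqc0 18 (vqc0 16 (vqc0 34 (vqc0 30 vqc1))))))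
      (vqc0 (vqc2 6925755774156824380957 (vqc2 10 (vqc0 46 (vqc0 49 (vqc0 34 (vqc0 30 vqc1))))))
      (vqc0 (vqc2 6925755774156824511562 (vqc2 2 (vqc0 44 (vqc0 48 (vqc0 75 (vqc0 9 (vqc0 31 (vqc0 2 vqc1))))))))
      (vqc0 (vqc2 6925755774233831561245 (vqc2 9 (vqc0 115 (vqc0 21 (vqc0 88 (vqc0 43 vqc1))))))
      (vqc0 (vqc2 6925755774233837305930 (vqc2 7 (vqc0 44 (vqc0 48 (vqc0 75 (vqc0 9 (vqc0 31 (vqc0 2 vqc1))))))))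
      vqy129))))));
      (vqc0 (vqc2 6925624248376920245322 (vqc2 5 (vqc0 48 (vqc0 72 (vqc0 64 (vqc0 44 (vqc0 60 (vqc0 2 vqc1))))))))
      (vqc0 (vqc2 6925624248462488251220 (vqc2 7 (vqc0 46 (vqc0 49 (vqc0 62 (vqc0 27 (vqc0 18 (vqc0 15 vqc1))))))))
      (vqc0 (vqc2 6925624248462486488650 (vqc2 4 (vqc0 15 (vqc0 16 (vqc0 34 (vqc0 30 vqc1))))))
      (vqc0 (vqc2 6925763344294381618772 (vqc2 2 (vqc0 75 (vqc0 9 (vqc0 31 (vqc0 2 vqc1))))))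
      (vqc0 (vqc2 6925763344294381749293 (vqc2 3 (vqc0 87 (vqc0 85 (vqc0 75 (vqc0 9 (vqc0 31 (vqc0 2 vqc1))))))))
      vqy198))))));
      (let vqy199 : type_of% vqy197 := (vqc0 (vqc2 6925599575335992821277 (vqc2 7 (vqc0 75 (vqc0 9 (vqc0 31 (vqc0 2 vqc1))))))
      (vqc0 (vqc2 6925599575335992951853 (vqc2 4 (vqc0 34 (vqc0 30 vqc1))))
      (vqc0 (vqc2 6925599575421560957741 (vqc2 9 (vqc0 115 (vqc0 21 (vqc0 57 (vqc0 56 (vqc0 88 (vqc0 43 vqc1))))))))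
      (vqc0 (vqc2 6925599575421559195165 (vqc2 5 (vqc0 115 (vqc0 21 (vqc0 88 (vqc0 43 (vqc0 60 (vqc0 2 vqc1))))))))
      (vqc0 (vqc2 6925624248376920114772 (vqc2 9 (vqc0 115 (vqc0 88 (vqc0 57 (vqc0 5 (vqc0 98 (vqc0 43 vqc1))))))))
      vqy197)))));
      (vqc0 (vqc2 6924303574469131847197 (vqc2 3 (vqc0 61 (vqc0 59 (vqc0 60 (vqc0 31 (vqc0 34 (vqc0 30 vqc1))))))))
      (vqc0 (vqc2 6924304135211502819373 (vqc2 7 (vqc0 44 (vqc0 47 (vqc0 75 (vqc0 9 (vqc0 31 (vqc0 2 vqc1))))))))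
      (vqc0 (vqc2 6924304135211508564042 (vqc2 9 (vqc0 4 (vqc0 12 (vqc0 115 (vqc0 71 (vqc0 98 (vqc0 43 vqc1))))))))
      (vqc0 (vqc2 6924304135220063775533 (vqc2 10 (vqc0 115 (vqc0 21 (vqc0 88 (vqc0 43 vqc1))))))
      (vqc0 (vqc2 6924304135220062013002 (vqc2 2 (vqc0 44 (vqc0 47 (vqc0 75 (vqc0 9 (vqc0 31 (vqc0 2 vqc1))))))))
      vqy199)))))));
      (let vqy200 : type_of% vqy196 := (let vqy201 : type_of% vqy196 := (vqc0 (vqc2 5523824616373318058078 (vqc2 9 (vqc0 12 (vqc0 50 vqc1))))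
      (vqc0 (vqc2 5523824616565836765278 (vqc2 5 (vqc0 48 (vqc0 44 (vqc0 60 (vqc0 2 vqc1))))))
      (vqc0 (vqc2 5523824616565842118256 (vqc2 7 (vqc0 76 (vqc0 95 (vqc0 62 (vqc0 27 (vqc0 18 (vqc0 15 vqc1))))))))
      (vqc0 (vqc2 6924303574460572653597 (vqc2 4 (vqc0 18 (vqc0 15 (vqc0 34 (vqc0 30 vqc1))))))
      (vqc0 (vqc2 6924303574460578398292 (vqc2 5 (vqc0 97 (vqc0 72 (vqc0 47 (vqc0 44 (vqc0 16 (vqc0 15 vqc1))))))))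
      (vqc0 (vqc2 6924303574469133609812 (vqc2 2 (vqc0 46 (vqc0 49 (vqc0 62 (vqc0 27 (vqc0 18 (vqc0 15 vqc1))))))))
      vqy196))))));
      (vqc0 (vqc2 5523810877975528735789 (vqc2 7 (vqc0 99 (vqc0 35 (vqc0 70 (vqc0 1 (vqc0 62 (vqc0 27 (vqc0 18 (vqc0 15 vqc1))))))))))
      (vqc0 (vqc2 5523810877975528996948 (vqc2 5 (vqc0 9 (vqc0 11 (vqc0 60 (vqc0 31 (vqc0 34 (vqc0 30 vqc1))))))))
      (vqc0 (vqc2 5523810878168047704109 (vqc2 4 (vqc0 28 (vqc0 102 (vqc0 34 (vqc0 30 vqc1))))))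
      (vqc0 (vqc2 5523810878168053057108 (vqc2 9 (vqc0 77 (vqc0 12 (vqc0 93 (vqc0 50 vqc1))))))
      (vqc0 (vqc2 5523824616373317796976 (vqc2 4 (vqc0 15 (vqc0 102 (vqc0 28 (vqc0 109 (vqc0 34 (vqc0 30 vqc1))))))))
      vqy201))))));
      (let vqy202 : type_of% vqy200 := (vqc0 (vqc2 5520910526094966736478 (vqc2 4 (vqc0 15 (vqc0 49 (vqc0 102 (vqc0 16 (vqc0 34 (vqc0 30 vqc1))))))))
      (vqc0 (vqc2 5520933516519449560176 (vqc2 9 (vqc0 28 (vqc0 64 vqc1))))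
      (vqc0 (vqc2 5520933516519449821268 (vqc2 4 (vqc0 107 (vqc0 61 (vqc0 55 (vqc0 43 (vqc0 92 (vqc0 8 vqc1))))))))
      (vqc0 (vqc2 5520933516883100333908 (vqc2 7 (vqc0 62 (vqc0 27 (vqc0 18 (vqc0 15 vqc1))))))
      (vqc0 (vqc2 5520933516883103532656 (vqc2 5 (vqc0 28 (vqc0 102 (vqc0 60 (vqc0 2 vqc1))))))
      vqy200)))));
      (vqc0 (vqc2 5517667274657035089748 (vqc2 2 (vqc0 62 (vqc0 27 (vqc0 18 (vqc0 15 vqc1))))))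
      (vqc0 (vqc2 5517667274657038288478 (vqc2 2 (vqc0 61 (vqc0 59 (vqc0 31 (vqc0 2 (vqc0 34 (vqc0 30 vqc1))))))))
      (vqc0 (vqc2 5520910525731312763949 (vqc2 5 (vqc0 107 (vqc0 55 (vqc0 81 (vqc0 3 (vqc0 31 (vqc0 2 vqc1))))))))
      (vqc0 (vqc2 5520910525731313025118 (vqc2 7 (vqc0 76 (vqc0 41 (vqc0 62 (vqc0 27 (vqc0 18 (vqc0 15 vqc1))))))))
      (vqc0 (vqc2 5520910526094963537709 (vqc2 9 (vqc0 70 (vqc0 118 (vqc0 77 (vqc0 20 (vqc0 88 (vqc0 57 vqc1))))))))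
      vqy202))))))));
      (let vqy203 : type_of% vqy195 := (let vqy204 : type_of% vqy195 := (let vqy205 : type_of% vqy195 := (vqc0 (vqc2 5517666152984042952749 (vqc2 3 (vqc0 109 (vqc0 46 (vqc0 60 (vqc0 31 (vqc0 34 (vqc0 30 vqc1))))))))
      (vqc0 (vqc2 5517666152984048305776 (vqc2 10 (vqc0 12 (vqc0 50 vqc1))))
      (vqc0 (vqc2 5517666153155174758189 (vqc2 10 (vqc0 28 (vqc0 64 vqc1))))
      (vqc0 (vqc2 5517666153155177956976 (vqc2 3 (vqc0 60 (vqc0 31 (vqc0 34 (vqc0 30 vqc1))))))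
      (vqc0 (vqc2 5517667274485903284318 (vqc2 2 (vqc0 76 (vqc0 41 (vqc0 62 (vqc0 27 (vqc0 18 (vqc0 15 vqc1))))))))
      (vqc0 (vqc2 5517667274485908637268 (vqc2 2 (vqc0 76 (vqc0 95 (vqc0 62 (vqc0 27 (vqc0 18 (vqc0 15 vqc1))))))))
      vqy195))))));
      (vqc0 (vqc2 6353750543092240745517 (vqc2 7 (vqc0 76 (vqc0 95 (vqc0 31 (vqc0 2 (vqc0 34 (vqc0 30 vqc1))))))))
      (vqc0 (vqc2 6353783907729799523166 (vqc2 4 (vqc0 28 (vqc0 64 (vqc0 34 (vqc0 30 vqc1))))))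
      (vqc0 (vqc2 6353783907729801938546 (vqc2 7 (vqc0 109 (vqc0 46 (vqc0 75 (vqc0 9 (vqc0 31 (vqc0 2 vqc1))))))))
      (vqc0 (vqc2 6353783907772581299806 (vqc2 5 (vqc0 28 (vqc0 64 (vqc0 60 (vqc0 2 vqc1))))))
      (vqc0 (vqc2 6353783907772585608306 (vqc2 9 (vqc0 47 (vqc0 44 (vqc0 16 (vqc0 15 vqc1))))))
      vqy205))))));
      (let vqy206 : type_of% vqy204 := (vqc0 (vqc2 6351752507383965841197 (vqc2 9 (vqc0 28 (vqc0 102 vqc1))))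
      (vqc0 (vqc2 6351752507383973609586 (vqc2 7 (vqc0 109 (vqc0 41 (vqc0 60 (vqc0 49 (vqc0 62 (vqc0 27 (vqc0 18 (vqc0 15 vqc1))))))))))
      (vqc0 (vqc2 6353750543049454660397 (vqc2 5 (vqc0 60 (vqc0 31 (vqc0 47 (vqc0 44 (vqc0 16 (vqc0 15 vqc1))))))))
      (vqc0 (vqc2 6353750543049457075741 (vqc2 9 (vqc0 28 (vqc0 93 (vqc0 12 (vqc0 102 vqc1))))))
      (vqc0 (vqc2 6353750543092236437021 (vqc2 4 (vqc0 46 (vqc0 49 (vqc0 34 (vqc0 30 vqc1))))))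
      vqy204)))));
      (vqc0 (vqc2 6351734002440701937181 (vqc2 2 (vqc0 109 (vqc0 46 (vqc0 75 (vqc0 9 (vqc0 31 (vqc0 2 vqc1))))))))
      (vqc0 (vqc2 6351734002603270371101 (vqc2 5 (vqc0 2 (vqc0 31 (vqc0 47 (vqc0 44 (vqc0 16 (vqc0 15 vqc1))))))))
      (vqc0 (vqc2 6351734002603278139486 (vqc2 4 (vqc0 2 (vqc0 31 (vqc0 47 (vqc0 44 (vqc0 16 (vqc0 15 vqc1))))))))
      (vqc0 (vqc2 6351752507221394991917 (vqc2 2 (vqc0 109 (vqc0 41 (vqc0 60 (vqc0 49 (vqc0 62 (vqc0 27 (vqc0 18 (vqc0 15 vqc1))))))))))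
      (vqc0 (vqc2 6351752507221397407346 (vqc2 10 (vqc0 18 (vqc0 16 (vqc0 34 (vqc0 30 vqc1))))))
      vqy206)))))));
      (let vqy207 : type_of% vqy203 := (let vqy208 : type_of% vqy203 := (vqc0 (vqc2 6351013959926206103646 (vqc2 5 (vqc0 47 (vqc0 44 (vqc0 16 (vqc0 15 vqc1))))))
      (vqc0 (vqc2 6351024333698617329181 (vqc2 2 (vqc0 61 (vqc0 104 (vqc0 31 (vqc0 2 (vqc0 34 (vqc0 30 vqc1))))))))
      (vqc0 (vqc2 6351024333698621637746 (vqc2 10 (vqc0 28 (vqc0 102 vqc1))))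
      (vqc0 (vqc2 6351024333818406401821 (vqc2 7 (vqc0 15 (vqc0 104 (vqc0 61 (vqc0 95 (vqc0 31 (vqc0 2 (vqc0 34 (vqc0 30 vqc1))))))))))
      (vqc0 (vqc2 6351024333818414170226 (vqc2 9 (vqc0 43 (vqc0 5 (vqc0 117 (vqc0 64 (vqc0 88 (vqc0 56 vqc1))))))))
      (vqc0 (vqc2 6351734002440699521886 (vqc2 3 (vqc0 76 (vqc0 41 (vqc0 62 (vqc0 27 (vqc0 18 (vqc0 15 vqc1))))))))
      vqy203))))));
      (vqc0 (vqc2 6021886676912398686302 (vqc2 4 (vqc0 46 (vqc0 109 (vqc0 62 (vqc0 27 (vqc0 18 (vqc0 15 vqc1))))))))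
      (vqc0 (vqc2 6021886676912404169840 (vqc2 5 (vqc0 31 (vqc0 60 (vqc0 62 (vqc0 27 (vqc0 18 (vqc0 15 vqc1))))))))
      (vqc0 (vqc2 6351013959806409262686 (vqc2 3 (vqc0 106 (vqc0 55 (vqc0 70 (vqc0 0 (vqc0 60 (vqc0 31 (vqc0 34 (vqc0 30 vqc1))))))))))
      (vqc0 (vqc2 6351013959806413571117 (vqc2 2 (vqc0 88 (vqc0 0 (vqc0 110 (vqc0 42 (vqc0 60 (vqc0 2 vqc1))))))))
      (vqc0 (vqc2 6351013959926198335277 (vqc2 4 (vqc0 47 (vqc0 44 (vqc0 16 (vqc0 15 vqc1))))))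
      vqy208))))));
      (let vqy209 : type_of% vqy207 := (vqc0 (vqc2 6021865368210203082826 (vqc2 2 (vqc0 2 (vqc0 31 (vqc0 62 (vqc0 27 (vqc0 18 (vqc0 15 vqc1))))))))
      (vqc0 (vqc2 6021865368377052387357 (vqc2 9 (vqc0 5 (vqc0 50 (vqc0 102 (vqc0 7 (vqc0 88 (vqc0 57 vqc1))))))))
      (vqc0 (vqc2 6021865368377057870922 (vqc2 7 (vqc0 2 (vqc0 31 (vqc0 62 (vqc0 27 (vqc0 18 (vqc0 15 vqc1))))))))
      (vqc0 (vqc2 6021886676745548990064 (vqc2 3 (vqc0 75 (vqc0 9 (vqc0 31 (vqc0 2 vqc1))))))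
      (vqc0 (vqc2 6021886676745549381726 (vqc2 2 (vqc0 87 (vqc0 85 (vqc0 75 (vqc0 9 (vqc0 31 (vqc0 2 vqc1))))))))
      vqy207)))));
      (vqc0 (vqc2 6019716180319682954864 (vqc2 10 (vqc0 13 (vqc0 50 vqc1))))
      (vqc0 (vqc2 6019716180319683346506 (vqc2 2 (vqc0 109 (vqc0 2 (vqc0 60 (vqc0 95 (vqc0 62 (vqc0 27 (vqc0 18 (vqc0 15 vqc1))))))))))
      (vqc0 (vqc2 6019716180614880917322 (vqc2 9 (vqc0 102 (vqc0 77 (vqc0 93 (vqc0 50 vqc1))))))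
      (vqc0 (vqc2 6019716180614885878640 (vqc2 7 (vqc0 109 (vqc0 2 (vqc0 60 (vqc0 95 (vqc0 62 (vqc0 27 (vqc0 18 (vqc0 15 vqc1))))))))))
      (vqc0 (vqc2 6021865368210202691101 (vqc2 10 (vqc0 28 (vqc0 13 (vqc0 77 (vqc0 64 vqc1))))))
      vqy209)))))))));
      (let vqy210 : type_of% vqy194 := (let vqy211 : type_of% vqy194 := (let vqy212 : type_of% vqy194 := (let vqy213 : type_of% vqy194 := (vqc0 (vqc2 6016882849101919254346 (vqc2 5 (vqc0 113 (vqc0 35 (vqc0 92 (vqc0 8 vqc1))))))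
      (vqc0 (vqc2 6016882849101924215646 (vqc2 9 (vqc0 13 (vqc0 50 vqc1))))
      (vqc0 (vqc2 6019692628780615992861 (vqc2 3 (vqc0 76 (vqc0 95 (vqc0 62 (vqc0 27 (vqc0 18 (vqc0 15 vqc1))))))))
      (vqc0 (vqc2 6019692628780616384606 (vqc2 2 (vqc0 16 (vqc0 18 (vqc0 31 (vqc0 2 (vqc0 34 (vqc0 30 vqc1))))))))
      (vqc0 (vqc2 6019692629075813955357 (vqc2 4 (vqc0 62 (vqc0 27 (vqc0 18 (vqc0 15 vqc1))))))
      (vqc0 (vqc2 6019692629075818916702 (vqc2 5 (vqc0 47 (vqc0 44 (vqc0 60 (vqc0 2 vqc1))))))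
      vqy194))))));
      (vqc0 (vqc2 6016881166720785974384 (vqc2 9 (vqc0 28 (vqc0 13 (vqc0 77 (vqc0 64 vqc1))))))
      (vqc0 (vqc2 6016881166849128757021 (vqc2 7 (vqc0 76 (vqc0 41 (vqc0 31 (vqc0 2 (vqc0 34 (vqc0 30 vqc1))))))))
      (vqc0 (vqc2 6016881166849133718384 (vqc2 4 (vqc0 46 (vqc0 109 (vqc0 34 (vqc0 30 vqc1))))))
      (vqc0 (vqc2 6016882848973570988126 (vqc2 7 (vqc0 15 (vqc0 18 (vqc0 31 (vqc0 2 (vqc0 34 (vqc0 30 vqc1))))))))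
      (vqc0 (vqc2 6016882848973576471626 (vqc2 4 (vqc0 107 (vqc0 55 (vqc0 81 (vqc0 3 (vqc0 31 (vqc0 2 vqc1))))))))
      vqy213))))));
      (let vqy214 : type_of% vqy212 := (vqc0 (vqc2 4839853861266257888880 (vqc2 2 (vqc0 2 (vqc0 60 (vqc0 62 (vqc0 27 (vqc0 18 (vqc0 15 vqc1))))))))
      (vqc0 (vqc2 4839853861266262458482 (vqc2 10 (vqc0 64 (vqc0 13 (vqc0 50 (vqc0 77 vqc1))))))
      (vqc0 (vqc2 4839853861390331161456 (vqc2 9 (vqc0 12 (vqc0 102 (vqc0 28 (vqc0 93 vqc1))))))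
      (vqc0 (vqc2 4839853861390328223858 (vqc2 7 (vqc0 2 (vqc0 60 (vqc0 62 (vqc0 27 (vqc0 18 (vqc0 15 vqc1))))))))
      (vqc0 (vqc2 6016881166720780490781 (vqc2 5 (vqc0 109 (vqc0 49 (vqc0 60 (vqc0 31 (vqc0 34 (vqc0 30 vqc1))))))))
      vqy212)))));
      (vqc0 (vqc2 4838391409856220693618 (vqc2 9 (vqc0 56 (vqc0 57 (vqc0 102 (vqc0 64 (vqc0 88 (vqc0 70 vqc1))))))))
      (vqc0 (vqc2 4839821618087773357597 (vqc2 2 (vqc0 70 (vqc0 0 (vqc0 18 (vqc0 16 (vqc0 92 (vqc0 8 vqc1))))))))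
      (vqc0 (vqc2 4839821618087777927252 (vqc2 3 (vqc0 62 (vqc0 27 (vqc0 18 (vqc0 15 vqc1))))))
      (vqc0 (vqc2 4839821618211846630228 (vqc2 4 (vqc0 76 (vqc0 95 (vqc0 62 (vqc0 27 (vqc0 18 (vqc0 15 vqc1))))))))
      (vqc0 (vqc2 4839821618211843692573 (vqc2 5 (vqc0 62 (vqc0 27 (vqc0 18 (vqc0 15 vqc1))))))
      vqy214)))))));
      (let vqy215 : type_of% vqy211 := (let vqy216 : type_of% vqy211 := (vqc0 (vqc2 4838404026542514896980 (vqc2 3 (vqc0 46 (vqc0 109 (vqc0 62 (vqc0 27 (vqc0 18 (vqc0 15 vqc1))))))))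
      (vqc0 (vqc2 4838404026752141915988 (vqc2 5 (vqc0 47 (vqc0 48 (vqc0 60 (vqc0 2 vqc1))))))
      (vqc0 (vqc2 4838404026752149423216 (vqc2 4 (vqc0 93 (vqc0 14 (vqc0 47 (vqc0 44 (vqc0 16 (vqc0 15 vqc1))))))))
      (vqc0 (vqc2 4838391409646581597725 (vqc2 2 (vqc0 46 (vqc0 2 (vqc0 95 (vqc0 109 (vqc0 62 (vqc0 27 (vqc0 18 (vqc0 15 vqc1))))))))))
      (vqc0 (vqc2 4838391409646586167410 (vqc2 10 (vqc0 13 (vqc0 12 vqc1))))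
      (vqc0 (vqc2 4838391409856213186333 (vqc2 7 (vqc0 61 (vqc0 104 (vqc0 31 (vqc0 2 (vqc0 34 (vqc0 30 vqc1))))))))
      vqy211))))));
      (vqc0 (vqc2 4836309242611389442900 (vqc2 5 (vqc0 61 (vqc0 104 (vqc0 60 (vqc0 31 (vqc0 34 (vqc0 30 vqc1))))))))
      (vqc0 (vqc2 4836309242611386505330 (vqc2 9 (vqc0 64 (vqc0 13 (vqc0 50 (vqc0 77 vqc1))))))
      (vqc0 (vqc2 4836309242696947758932 (vqc2 4 (vqc0 12 (vqc0 13 (vqc0 70 (vqc0 43 (vqc0 92 (vqc0 8 vqc1))))))))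
      (vqc0 (vqc2 4836309242696955266162 (vqc2 7 (vqc0 61 (vqc0 59 (vqc0 31 (vqc0 2 (vqc0 34 (vqc0 30 vqc1))))))))
      (vqc0 (vqc2 4838404026542510327408 (vqc2 2 (vqc0 16 (vqc0 15 (vqc0 31 (vqc0 2 (vqc0 34 (vqc0 30 vqc1))))))))
      vqy216))))));
      (let vqy217 : type_of% vqy215 := (vqc0 (vqc2 4802960375484616558192 (vqc2 4 (vqc0 2 (vqc0 60 (vqc0 62 (vqc0 27 (vqc0 18 (vqc0 15 vqc1))))))))
      (vqc0 (vqc2 4836289616328833641328 (vqc2 7 (vqc0 31 (vqc0 2 (vqc0 34 (vqc0 30 vqc1))))))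
      (vqc0 (vqc2 4836289616328830703645 (vqc2 4 (vqc0 111 (vqc0 42 (vqc0 88 (vqc0 1 (vqc0 34 (vqc0 30 vqc1))))))))
      (vqc0 (vqc2 4836289616414391957277 (vqc2 9 (vqc0 13 (vqc0 12 vqc1))))
      (vqc0 (vqc2 4836289616414399464560 (vqc2 5 (vqc0 60 (vqc0 31 (vqc0 34 (vqc0 30 vqc1))))))
      vqy215)))));
      (vqc0 (vqc2 4802928693057061017645 (vqc2 7 (vqc0 46 (vqc0 109 (vqc0 62 (vqc0 27 (vqc0 18 (vqc0 15 vqc1))))))))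
      (vqc0 (vqc2 4802928693057062192714 (vqc2 5 (vqc0 60 (vqc0 2 vqc1))))
      (vqc0 (vqc2 4802960375249310329712 (vqc2 5 (vqc0 9 (vqc0 75 (vqc0 60 (vqc0 31 (vqc0 34 (vqc0 30 vqc1))))))))
      (vqc0 (vqc2 4802960375249313136754 (vqc2 7 (vqc0 95 (vqc0 31 (vqc0 60 (vqc0 41 (vqc0 62 (vqc0 27 (vqc0 18 (vqc0 15 vqc1))))))))))
      (vqc0 (vqc2 4802960375484615383154 (vqc2 9 (vqc0 117 (vqc0 7 (vqc0 88 (vqc0 70 vqc1))))))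
      vqy217))))))));
      (let vqy218 : type_of% vqy210 := (let vqy219 : type_of% vqy210 := (let vqy220 : type_of% vqy210 := (vqc0 (vqc2 4802231143953564969840 (vqc2 7 (vqc0 16 (vqc0 15 (vqc0 31 (vqc0 2 (vqc0 34 (vqc0 30 vqc1))))))))
      (vqc0 (vqc2 4802231143953567776842 (vqc2 5 (vqc0 73 (vqc0 97 (vqc0 60 (vqc0 2 vqc1))))))
      (vqc0 (vqc2 4802231144231647737674 (vqc2 4 (vqc0 115 (vqc0 21 (vqc0 88 (vqc0 43 (vqc0 34 (vqc0 30 vqc1))))))))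
      (vqc0 (vqc2 4802231144231655114352 (vqc2 9 (vqc0 14 (vqc0 93 vqc1))))
      (vqc0 (vqc2 4802928692821755964205 (vqc2 9 vqc1))
      (vqc0 (vqc2 4802928692821758771274 (vqc2 4 (vqc0 70 (vqc0 43 (vqc0 92 (vqc0 8 vqc1))))))
      vqy210))))));
      (vqc0 (vqc2 4798255233220725900914 (vqc2 10 (vqc0 14 (vqc0 77 vqc1))))
      (vqc0 (vqc2 4802226097195193477933 (vqc2 4 (vqc0 97 (vqc0 73 (vqc0 47 (vqc0 44 (vqc0 16 (vqc0 15 vqc1))))))))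
      (vqc0 (vqc2 4802226097195196285042 (vqc2 9 (vqc0 14 (vqc0 77 vqc1))))
      (vqc0 (vqc2 4802226097473276245805 (vqc2 5 (vqc0 73 (vqc0 72 (vqc0 60 (vqc0 2 vqc1))))))
      (vqc0 (vqc2 4802226097473283622514 (vqc2 7 (vqc0 31 (vqc0 60 (vqc0 62 (vqc0 27 (vqc0 18 (vqc0 15 vqc1))))))))
      vqy220))))));
      (let vqy221 : type_of% vqy219 := (vqc0 (vqc2 4798243177075719960365 (vqc2 2 (vqc0 76 (vqc0 41 (vqc0 31 (vqc0 2 (vqc0 34 (vqc0 30 vqc1))))))))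
      (vqc0 (vqc2 4798243177075727337072 (vqc2 2 (vqc0 31 (vqc0 60 (vqc0 62 (vqc0 27 (vqc0 18 (vqc0 15 vqc1))))))))
      (vqc0 (vqc2 4798255233177940809842 (vqc2 10 vqc1))
      (vqc0 (vqc2 4798255233177941984842 (vqc2 3 (vqc0 61 (vqc0 104 (vqc0 60 (vqc0 31 (vqc0 34 (vqc0 30 vqc1))))))))
      (vqc0 (vqc2 4798255233220718524234 (vqc2 3 (vqc0 2 (vqc0 31 (vqc0 62 (vqc0 27 (vqc0 18 (vqc0 15 vqc1))))))))
      vqy219)))));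
      (vqc0 (vqc2 4730470525806456800370 (vqc2 7 (vqc0 28 (vqc0 13 (vqc0 77 (vqc0 64 vqc1))))))
      (vqc0 (vqc2 4730470525874905433694 (vqc2 3 (vqc0 37 (vqc0 40 (vqc0 70 (vqc0 88 (vqc0 111 (vqc0 42 vqc1))))))))
      (vqc0 (vqc2 4730470525874909611634 (vqc2 6 (vqc0 117 (vqc0 7 (vqc0 88 (vqc0 70 vqc1))))))
      (vqc0 (vqc2 4798243177032942245933 (vqc2 2 (vqc0 46 (vqc0 109 (vqc0 62 (vqc0 27 (vqc0 18 (vqc0 15 vqc1))))))))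
      (vqc0 (vqc2 4798243177032943421040 (vqc2 2 (vqc0 31 (vqc0 2 (vqc0 34 (vqc0 30 vqc1))))))
      vqy221)))))));
      (let vqy222 : type_of% vqy218 := (let vqy223 : type_of% vqy218 := (vqc0 (vqc2 4725628784928322181234 (vqc2 7 (vqc0 28 (vqc0 64 vqc1))))
      (vqc0 (vqc2 4730461834167036685140 (vqc2 7 (vqc0 13 (vqc0 12 vqc1))))
      (vqc0 (vqc2 4730461834167039231050 (vqc2 7 (vqc0 14 (vqc0 93 vqc1))))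
      (vqc0 (vqc2 4730461834235487864394 (vqc2 3 (vqc0 30 (vqc0 34 (vqc0 113 (vqc0 35 (vqc0 92 (vqc0 8 vqc1))))))))
      (vqc0 (vqc2 4730461834235492042324 (vqc2 6 (vqc0 14 (vqc0 93 vqc1))))
      (vqc0 (vqc2 4730470525806454254430 (vqc2 7 (vqc0 13 (vqc0 50 vqc1))))
      vqy218))))));
      (vqc0 (vqc2 4725610840898554853194 (vqc2 7 vqc1))
      (vqc0 (vqc2 4725610840898556876894 (vqc2 7 (vqc0 12 (vqc0 50 vqc1))))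
      (vqc0 (vqc2 4725628784573224856404 (vqc2 3 (vqc0 30 (vqc0 32 (vqc0 113 (vqc0 35 (vqc0 92 (vqc0 8 vqc1))))))))
      (vqc0 (vqc2 4725628784573227402354 (vqc2 6 (vqc0 14 (vqc0 77 vqc1))))
      (vqc0 (vqc2 4725628784928320157524 (vqc2 7 (vqc0 14 (vqc0 77 vqc1))))
      vqy223))))));
      (let vqy224 : type_of% vqy222 := (vqc0 (vqc2 4724468261113947358834 (vqc2 8 vqc1))
      (vqc0 (vqc2 4724468261400587302730 (vqc2 6 (vqc0 28 (vqc0 102 vqc1))))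
      (vqc0 (vqc2 4724468261400589326450 (vqc2 6 (vqc0 115 (vqc0 21 (vqc0 88 (vqc0 43 vqc1))))))
      (vqc0 (vqc2 4725610840543459552094 (vqc2 6 vqc1))
      (vqc0 (vqc2 4725610840543462097994 (vqc2 3 (vqc0 113 (vqc0 35 (vqc0 92 (vqc0 8 vqc1))))))
      vqy222)))));
      (vqc0 (vqc2 4724457326470804948574 (vqc2 1 (vqc0 34 (vqc0 30 vqc1))))
      (vqc0 (vqc2 4724457326470809126484 (vqc2 1 (vqc0 46 (vqc0 109 (vqc0 34 (vqc0 30 vqc1))))))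
      (vqc0 (vqc2 4724457326757449070420 (vqc2 3 (vqc0 22 (vqc0 24 (vqc0 43 (vqc0 88 (vqc0 111 (vqc0 42 vqc1))))))))
      (vqc0 (vqc2 4724457326757451094110 (vqc2 3 (vqc0 15 (vqc0 18 (vqc0 113 (vqc0 35 (vqc0 92 (vqc0 8 vqc1))))))))
      (vqc0 (vqc2 4724468261113943180874 (vqc2 1 (vqc0 28 (vqc0 102 (vqc0 34 (vqc0 30 vqc1))))))
      vqy224))))))))));
      (let vqy225 : type_of% vqy193 := (let vqy226 : type_of% vqy193 := (let vqy227 : type_of% vqy193 := (let vqy228 : type_of% vqy193 := (let vqy229 : type_of% vqy193 := (vqc0 (vqc2 2203233374001269327389 (vqc2 3 (vqc0 41 (vqc0 95 (vqc0 27 (vqc0 25 vqc1))))))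
      (vqc0 (vqc2 2203233374001273635885 (vqc2 5 (vqc0 41 (vqc0 95 (vqc0 27 (vqc0 25 vqc1))))))
      (vqc0 (vqc2 2203257766645340711738 (vqc2 3 (vqc0 28 (vqc0 102 (vqc0 27 (vqc0 25 vqc1))))))
      (vqc0 (vqc2 2203257766645343127136 (vqc2 5 (vqc0 28 (vqc0 102 (vqc0 27 (vqc0 25 vqc1))))))
      (vqc0 (vqc2 2203257766666731537978 (vqc2 2 (vqc0 75 (vqc0 9 vqc1))))
      (vqc0 (vqc2 2203257766666735846496 (vqc2 4 (vqc0 115 (vqc0 21 (vqc0 88 (vqc0 43 vqc1))))))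
      vqy193))))));
      (vqc0 (vqc2 2202964473018212615776 (vqc2 3 (vqc0 70 (vqc0 4 (vqc0 81 (vqc0 3 vqc1))))))
      (vqc0 (vqc2 2202964473056713594925 (vqc2 4 (vqc0 75 (vqc0 9 vqc1))))
      (vqc0 (vqc2 2202964473056719274336 (vqc2 5 (vqc0 115 (vqc0 21 (vqc0 88 (vqc0 43 vqc1))))))
      (vqc0 (vqc2 2203233373979878501165 (vqc2 2 (vqc0 25 (vqc0 27 (vqc0 75 (vqc0 9 vqc1))))))
      (vqc0 (vqc2 2203233373979880916509 (vqc2 4 (vqc0 41 (vqc0 76 (vqc0 27 (vqc0 25 vqc1))))))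
      vqy229))))));
      (let vqy230 : type_of% vqy228 := (vqc0 (vqc2 2202945968237514730298 (vqc2 1 (vqc0 41 (vqc0 76 (vqc0 27 (vqc0 25 vqc1))))))
      (vqc0 (vqc2 2202945968237517145629 (vqc2 2 (vqc0 117 (vqc0 7 (vqc0 88 (vqc0 70 (vqc0 11 (vqc0 9 vqc1))))))))
      (vqc0 (vqc2 2202945968276018124829 (vqc2 2 (vqc0 62 (vqc0 27 (vqc0 75 (vqc0 9 vqc1))))))
      (vqc0 (vqc2 2202945968276023804218 (vqc2 3 (vqc0 117 (vqc0 7 (vqc0 88 (vqc0 70 (vqc0 11 (vqc0 9 vqc1))))))))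
      (vqc0 (vqc2 2202964473018210200365 (vqc2 2 (vqc0 28 (vqc0 64 (vqc0 27 (vqc0 25 vqc1))))))
      vqy228)))));
      (vqc0 (vqc2 2202586213569057521978 (vqc2 2 (vqc0 62 (vqc0 25 (vqc0 75 (vqc0 9 vqc1))))))
      (vqc0 (vqc2 2202596587444147340829 (vqc2 2 (vqc0 60 (vqc0 2 (vqc0 16 (vqc0 15 vqc1))))))
      (vqc0 (vqc2 2202596587444151649376 (vqc2 3 (vqc0 56 (vqc0 20 (vqc0 81 (vqc0 3 vqc1))))))
      (vqc0 (vqc2 2202596587461259909149 (vqc2 5 (vqc0 56 (vqc0 20 (vqc0 81 (vqc0 3 vqc1))))))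
      (vqc0 (vqc2 2202596587461265588576 (vqc2 4 (vqc0 25 (vqc0 27 (vqc0 75 (vqc0 9 vqc1))))))
      vqy230)))))));
      (let vqy231 : type_of% vqy227 := (let vqy232 : type_of% vqy227 := (vqc0 (vqc2 800665429600880558444 (vqc2 5 (vqc0 28 (vqc0 64 vqc1))))
      (vqc0 (vqc2 800665429887523641452 (vqc2 4 (vqc0 28 (vqc0 64 vqc1))))
      (vqc0 (vqc2 800665429887524816496 (vqc2 3 (vqc0 27 (vqc0 62 (vqc0 11 (vqc0 9 vqc1))))))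
      (vqc0 (vqc2 2202586213551939274298 (vqc2 1 (vqc0 70 (vqc0 4 (vqc0 81 (vqc0 3 vqc1))))))
      (vqc0 (vqc2 2202586213551943582765 (vqc2 2 (vqc0 93 (vqc0 25 (vqc0 77 (vqc0 62 (vqc0 11 (vqc0 9 vqc1))))))))
      (vqc0 (vqc2 2202586213569051842605 (vqc2 3 (vqc0 93 (vqc0 14 (vqc0 62 (vqc0 25 vqc1))))))
      vqy227))))));
      (vqc0 (vqc2 800633747173325997101 (vqc2 4 (vqc0 77 (vqc0 12 (vqc0 93 (vqc0 50 vqc1))))))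
      (vqc0 (vqc2 800633747173326192954 (vqc2 3 (vqc0 99 (vqc0 35 (vqc0 33 (vqc0 62 (vqc0 70 (vqc0 68 (vqc0 11 (vqc0 9 vqc1))))))))))
      (vqc0 (vqc2 800633747459969275949 (vqc2 5 (vqc0 77 (vqc0 12 (vqc0 93 (vqc0 50 vqc1))))))
      (vqc0 (vqc2 800633747459970451002 (vqc2 2 (vqc0 102 (vqc0 28 (vqc0 75 (vqc0 9 vqc1))))))
      (vqc0 (vqc2 800665429600880362608 (vqc2 2 (vqc0 59 (vqc0 61 (vqc0 48 (vqc0 44 (vqc0 16 (vqc0 15 vqc1))))))))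
      vqy232))))));
      (let vqy233 : type_of% vqy231 := (vqc0 (vqc2 800147324645420762732 (vqc2 5 (vqc0 62 (vqc0 25 (vqc0 75 (vqc0 9 vqc1))))))
      (vqc0 (vqc2 800152371087198454896 (vqc2 5 (vqc0 12 (vqc0 50 vqc1))))
      (vqc0 (vqc2 800152371087198650682 (vqc2 2 (vqc0 25 (vqc0 28 (vqc0 102 (vqc0 86 (vqc0 75 (vqc0 9 vqc1))))))))
      (vqc0 (vqc2 800152371403784877882 (vqc2 3 (vqc0 76 (vqc0 27 (vqc0 62 (vqc0 93 (vqc0 11 (vqc0 9 vqc1))))))))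
      (vqc0 (vqc2 800152371403792254576 (vqc2 4 (vqc0 12 (vqc0 50 vqc1))))
      vqy231)))));
      (vqc0 (vqc2 795300792840021767994 (vqc2 1 (vqc0 11 (vqc0 9 (vqc0 27 (vqc0 25 vqc1))))))
      (vqc0 (vqc2 795300792840029144684 (vqc2 3 (vqc0 99 (vqc0 1 (vqc0 41 (vqc0 4 (vqc0 81 (vqc0 3 vqc1))))))))
      (vqc0 (vqc2 800147324328826962989 (vqc2 3 (vqc0 86 (vqc0 14 (vqc0 9 (vqc0 87 (vqc0 62 (vqc0 25 vqc1))))))))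
      (vqc0 (vqc2 800147324328827158892 (vqc2 4 (vqc0 27 (vqc0 62 (vqc0 11 (vqc0 9 vqc1))))))
      (vqc0 (vqc2 800147324645413386029 (vqc2 2 (vqc0 48 (vqc0 44 (vqc0 16 (vqc0 15 vqc1))))))
      vqy233))))))));
      (let vqy234 : type_of% vqy226 := (let vqy235 : type_of% vqy226 := (let vqy236 : type_of% vqy226 := (vqc0 (vqc2 795299951683683375149 (vqc2 2 (vqc0 113 (vqc0 35 (vqc0 70 (vqc0 43 (vqc0 27 (vqc0 25 vqc1))))))))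
      (vqc0 (vqc2 795299951683684550256 (vqc2 2 (vqc0 27 (vqc0 62 (vqc0 11 (vqc0 9 vqc1))))))
      (vqc0 (vqc2 795299951713626519341 (vqc2 2 (vqc0 27 (vqc0 25 vqc1))))
      (vqc0 (vqc2 795299951713633896048 (vqc2 2 (vqc0 41 (vqc0 76 (vqc0 27 (vqc0 25 vqc1))))))
      (vqc0 (vqc2 795300792810078623852 (vqc2 3 (vqc0 56 (vqc0 20 (vqc0 35 (vqc0 99 (vqc0 81 (vqc0 3 vqc1))))))))
      (vqc0 (vqc2 795300792810079798842 (vqc2 1 (vqc0 28 (vqc0 11 (vqc0 95 (vqc0 102 (vqc0 27 (vqc0 25 vqc1))))))))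
      vqy226))))));
      (vqc0 (vqc2 1631384341748841661981 (vqc2 2 (vqc0 102 (vqc0 64 (vqc0 75 (vqc0 9 vqc1))))))
      (vqc0 (vqc2 1631417425891147646572 (vqc2 4 (vqc0 70 (vqc0 4 (vqc0 81 (vqc0 3 vqc1))))))
      (vqc0 (vqc2 1631417425891147777127 (vqc2 2 (vqc0 87 (vqc0 85 (vqc0 75 (vqc0 9 vqc1))))))
      (vqc0 (vqc2 1631417426053723204460 (vqc2 5 (vqc0 28 (vqc0 93 (vqc0 12 (vqc0 102 vqc1))))))
      (vqc0 (vqc2 1631417426053721441895 (vqc2 3 (vqc0 75 (vqc0 9 vqc1))))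
      vqy236))))));
      (let vqy237 : type_of% vqy235 := (vqc0 (vqc2 1630243188385903638301 (vqc2 4 (vqc0 28 (vqc0 93 (vqc0 12 (vqc0 102 vqc1))))))
      (vqc0 (vqc2 1630243188385911341415 (vqc2 5 (vqc0 28 (vqc0 102 vqc1))))
      (vqc0 (vqc2 1631384341586267866653 (vqc2 5 (vqc0 27 (vqc0 25 vqc1))))
      (vqc0 (vqc2 1631384341586267997229 (vqc2 3 (vqc0 27 (vqc0 25 vqc1))))
      (vqc0 (vqc2 1631384341748843424557 (vqc2 4 (vqc0 28 (vqc0 102 vqc1))))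
      vqy235)))));
      (vqc0 (vqc2 1630250758292438909997 (vqc2 1 (vqc0 87 (vqc0 86 (vqc0 75 (vqc0 9 vqc1))))))
      (vqc0 (vqc2 1630250758523460876077 (vqc2 2 (vqc0 47 (vqc0 44 (vqc0 16 (vqc0 15 vqc1))))))
      (vqc0 (vqc2 1630250758523468579180 (vqc2 3 (vqc0 11 (vqc0 75 (vqc0 27 (vqc0 25 vqc1))))))
      (vqc0 (vqc2 1630243188154881541661 (vqc2 3 (vqc0 76 (vqc0 20 (vqc0 56 (vqc0 82 (vqc0 81 (vqc0 3 vqc1))))))))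
      (vqc0 (vqc2 1630243188154881672295 (vqc2 2 (vqc0 25 (vqc0 95 (vqc0 41 (vqc0 77 (vqc0 11 (vqc0 9 vqc1))))))))
      vqy237)))))));
      (let vqy238 : type_of% vqy234 := (let vqy239 : type_of% vqy234 := (vqc0 (vqc2 1627493951920271720812 (vqc2 2 (vqc0 64 (vqc0 62 (vqc0 27 (vqc0 85 (vqc0 75 (vqc0 9 vqc1))))))))
      (vqc0 (vqc2 1627494512602747644717 (vqc2 3 (vqc0 70 (vqc0 43 (vqc0 113 (vqc0 35 vqc1))))))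
      (vqc0 (vqc2 1627494512602745882215 (vqc2 2 (vqc0 9 (vqc0 95 (vqc0 75 (vqc0 64 (vqc0 27 (vqc0 25 vqc1))))))))
      (vqc0 (vqc2 1627494512671194183469 (vqc2 5 (vqc0 11 (vqc0 9 (vqc0 27 (vqc0 25 vqc1))))))
      (vqc0 (vqc2 1627494512671201886567 (vqc2 4 (vqc0 87 (vqc0 85 (vqc0 75 (vqc0 9 vqc1))))))
      (vqc0 (vqc2 1630250758292438779500 (vqc2 2 (vqc0 102 (vqc0 76 (vqc0 75 (vqc0 64 (vqc0 27 (vqc0 25 vqc1))))))))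
      vqy234))))));
      (vqc0 (vqc2 1299087805649117522800 (vqc2 4 (vqc0 13 (vqc0 50 vqc1))))
      (vqc0 (vqc2 1299087805649114585191 (vqc2 5 (vqc0 75 (vqc0 9 vqc1))))
      (vqc0 (vqc2 1627493951851817479020 (vqc2 2 (vqc0 14 (vqc0 77 (vqc0 11 (vqc0 9 vqc1))))))
      (vqc0 (vqc2 1627493951851815716381 (vqc2 1 (vqc0 70 (vqc0 43 (vqc0 113 (vqc0 35 vqc1))))))
      (vqc0 (vqc2 1627493951920264017693 (vqc2 3 (vqc0 14 (vqc0 77 (vqc0 11 (vqc0 9 vqc1))))))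
      vqy239))))));
      (let vqy240 : type_of% vqy238 := (vqc0 (vqc2 1299055562252439912762 (vqc2 1 (vqc0 27 (vqc0 25 vqc1))))
      (vqc0 (vqc2 1299055562470632991546 (vqc2 3 (vqc0 14 (vqc0 93 (vqc0 11 (vqc0 9 vqc1))))))
      (vqc0 (vqc2 1299055562470630053917 (vqc2 2 (vqc0 86 (vqc0 85 (vqc0 62 (vqc0 25 vqc1))))))
      (vqc0 (vqc2 1299087805430924117616 (vqc2 2 (vqc0 70 (vqc0 4 (vqc0 81 (vqc0 3 vqc1))))))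
      (vqc0 (vqc2 1299087805430924444007 (vqc2 3 (vqc0 4 (vqc0 91 (vqc0 70 (vqc0 89 (vqc0 81 (vqc0 3 vqc1))))))))
      vqy238)))));
      (vqc0 (vqc2 1298201814563417032221 (vqc2 2 (vqc0 113 (vqc0 43 (vqc0 76 (vqc0 4 (vqc0 81 (vqc0 3 vqc1))))))))
      (vqc0 (vqc2 1298201814563417358695 (vqc2 3 (vqc0 76 (vqc0 89 (vqc0 41 (vqc0 20 (vqc0 81 (vqc0 3 vqc1))))))))
      (vqc0 (vqc2 1298201814832943232797 (vqc2 5 (vqc0 102 (vqc0 77 (vqc0 93 (vqc0 50 vqc1))))))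
      (vqc0 (vqc2 1298201814832950740071 (vqc2 4 (vqc0 28 (vqc0 13 (vqc0 77 (vqc0 64 vqc1))))))
      (vqc0 (vqc2 1299055562252439586333 (vqc2 2 (vqc0 14 (vqc0 93 (vqc0 11 (vqc0 9 vqc1))))))
      vqy240)))))))));
      (let vqy241 : type_of% vqy225 := (let vqy242 : type_of% vqy225 := (let vqy243 : type_of% vqy225 := (let vqy244 : type_of% vqy225 := (vqc0 (vqc2 1294516367306214635322 (vqc2 3 (vqc0 89 (vqc0 82 (vqc0 4 (vqc0 1 (vqc0 75 (vqc0 9 vqc1))))))))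
      (vqc0 (vqc2 1294516367306222142567 (vqc2 5 (vqc0 28 (vqc0 13 (vqc0 77 (vqc0 64 vqc1))))))
      (vqc0 (vqc2 1298214431459345761904 (vqc2 2 (vqc0 25 (vqc0 62 (vqc0 11 (vqc0 9 vqc1))))))
      (vqc0 (vqc2 1298214431459346088250 (vqc2 1 (vqc0 28 (vqc0 102 (vqc0 27 (vqc0 25 vqc1))))))
      (vqc0 (vqc2 1298214431728871962426 (vqc2 2 (vqc0 62 (vqc0 25 vqc1))))
      (vqc0 (vqc2 1298214431728879469680 (vqc2 3 (vqc0 62 (vqc0 25 vqc1))))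
      vqy225))))));
      (vqc0 (vqc2 1294514965377553487901 (vqc2 3 (vqc0 86 (vqc0 87 (vqc0 62 (vqc0 25 vqc1))))))
      (vqc0 (vqc2 1294514965428889220893 (vqc2 4 (vqc0 27 (vqc0 25 vqc1))))
      (vqc0 (vqc2 1294514965428896728176 (vqc2 2 (vqc0 90 (vqc0 82 (vqc0 6 (vqc0 1 (vqc0 62 (vqc0 25 vqc1))))))))
      (vqc0 (vqc2 1294516367254881839930 (vqc2 2 (vqc0 87 (vqc0 86 (vqc0 75 (vqc0 9 vqc1))))))
      (vqc0 (vqc2 1294516367254878902375 (vqc2 4 (vqc0 25 (vqc0 62 (vqc0 11 (vqc0 9 vqc1))))))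
      vqy244))))));
      (let vqy245 : type_of% vqy243 := (vqc0 (vqc2 118135939623639139952 (vqc2 1 (vqc0 75 (vqc0 9 vqc1))))
      (vqc0 (vqc2 118135939623643644268 (vqc2 2 (vqc0 41 (vqc0 76 (vqc0 11 (vqc0 9 vqc1))))))
      (vqc0 (vqc2 118135939679255812204 (vqc2 3 (vqc0 41 (vqc0 76 (vqc0 11 (vqc0 9 vqc1))))))
      (vqc0 (vqc2 118135939679261295728 (vqc2 2 (vqc0 93 (vqc0 77 (vqc0 62 (vqc0 25 vqc1))))))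
      (vqc0 (vqc2 1294514965377556425584 (vqc2 5 (vqc0 13 (vqc0 50 vqc1))))
      vqy243)))));
      (vqc0 (vqc2 114884579535598594928 (vqc2 5 (vqc0 62 (vqc0 25 vqc1))))
      (vqc0 (vqc2 118114631088292840989 (vqc2 3 (vqc0 99 (vqc0 35 (vqc0 20 (vqc0 4 (vqc0 50 (vqc0 1 (vqc0 81 (vqc0 3 vqc1))))))))))
      (vqc0 (vqc2 118114631088297345376 (vqc2 2 (vqc0 41 (vqc0 95 (vqc0 11 (vqc0 9 vqc1))))))
      (vqc0 (vqc2 118114631143909513245 (vqc2 4 (vqc0 13 (vqc0 12 vqc1))))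
      (vqc0 (vqc2 118114631143914996832 (vqc2 5 (vqc0 12 (vqc0 102 (vqc0 28 (vqc0 93 vqc1))))))
      vqy245)))))));
      (let vqy246 : type_of% vqy242 := (let vqy247 : type_of% vqy242 := (vqc0 (vqc2 114861027748393386348 (vqc2 2 (vqc0 11 (vqc0 9 vqc1))))
      (vqc0 (vqc2 114861027996526671645 (vqc2 3 (vqc0 11 (vqc0 9 vqc1))))
      (vqc0 (vqc2 114861027996531633004 (vqc2 2 (vqc0 9 (vqc0 11 (vqc0 62 (vqc0 25 vqc1))))))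
      (vqc0 (vqc2 114884579287455843952 (vqc2 3 (vqc0 89 (vqc0 82 (vqc0 70 (vqc0 1 (vqc0 81 (vqc0 3 vqc1))))))))
      (vqc0 (vqc2 114884579287460348256 (vqc2 2 (vqc0 113 (vqc0 35 (vqc0 70 (vqc0 43 (vqc0 11 (vqc0 9 vqc1))))))))
      (vqc0 (vqc2 114884579535593633632 (vqc2 4 (vqc0 62 (vqc0 25 vqc1))))
      vqy242))))));
      (vqc0 (vqc2 113942760772681881708 (vqc2 5 (vqc0 13 (vqc0 12 vqc1))))
      (vqc0 (vqc2 113942760772687365216 (vqc2 3 (vqc0 87 (vqc0 86 (vqc0 75 (vqc0 9 vqc1))))))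
      (vqc0 (vqc2 113942760965202999136 (vqc2 2 (vqc0 89 (vqc0 82 (vqc0 4 (vqc0 1 (vqc0 75 (vqc0 9 vqc1))))))))
      (vqc0 (vqc2 113942760965207960428 (vqc2 4 (vqc0 41 (vqc0 76 (vqc0 11 (vqc0 9 vqc1))))))
      (vqc0 (vqc2 114861027748388881949 (vqc2 1 (vqc0 41 (vqc0 95 (vqc0 27 (vqc0 25 vqc1))))))
      vqy247))))));
      (let vqy248 : type_of% vqy246 := (vqc0 (vqc2 81602769188577347184 (vqc2 5 (vqc0 117 (vqc0 7 (vqc0 88 (vqc0 70 vqc1))))))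
      (vqc0 (vqc2 113923414865591162909 (vqc2 2 (vqc0 43 (vqc0 12 (vqc0 57 (vqc0 63 (vqc0 113 (vqc0 35 vqc1))))))))
      (vqc0 (vqc2 113923414865596646512 (vqc2 4 (vqc0 11 (vqc0 9 vqc1))))
      (vqc0 (vqc2 113923415058112280349 (vqc2 5 (vqc0 11 (vqc0 9 vqc1))))
      (vqc0 (vqc2 113923415058117241712 (vqc2 3 (vqc0 41 (vqc0 95 (vqc0 11 (vqc0 9 vqc1))))))
      vqy246)))));
      (vqc0 (vqc2 81589030790782933037 (vqc2 3 (vqc0 27 (vqc0 25 (vqc0 11 (vqc0 9 vqc1))))))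
      (vqc0 (vqc2 81589030790788286048 (vqc2 4 (vqc0 14 (vqc0 77 vqc1))))
      (vqc0 (vqc2 81602769064504142704 (vqc2 3 (vqc0 41 (vqc0 77 (vqc0 25 (vqc0 95 (vqc0 11 (vqc0 9 vqc1))))))))
      (vqc0 (vqc2 81602769064506884455 (vqc2 4 (vqc0 117 (vqc0 7 (vqc0 88 (vqc0 70 vqc1))))))
      (vqc0 (vqc2 81602769188571994215 (vqc2 2 (vqc0 75 (vqc0 11 (vqc0 62 (vqc0 25 vqc1))))))
      vqy248))))))));
      (let vqy249 : type_of% vqy241 := (let vqy250 : type_of% vqy241 := (let vqy251 : type_of% vqy241 := (vqc0 (vqc2 77991093270424398704 (vqc2 4 (vqc0 14 (vqc0 93 vqc1))))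
      (vqc0 (vqc2 77991093270427140448 (vqc2 3 (vqc0 25 (vqc0 28 (vqc0 102 (vqc0 86 (vqc0 75 (vqc0 9 vqc1))))))))
      (vqc0 (vqc2 77991093608405956448 (vqc2 5 (vqc0 14 (vqc0 93 vqc1))))
      (vqc0 (vqc2 77991093608409155184 (vqc2 2 (vqc0 71 (vqc0 21 (vqc0 43 (vqc0 4 (vqc0 75 (vqc0 9 vqc1))))))))
      (vqc0 (vqc2 81589030666715081517 (vqc2 5 (vqc0 14 (vqc0 77 vqc1))))
      (vqc0 (vqc2 81589030666717823328 (vqc2 2 (vqc0 3 (vqc0 62 (vqc0 81 (vqc0 57 (vqc0 113 (vqc0 35 vqc1))))))))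
      vqy241))))));
      (vqc0 (vqc2 75888751510285665895 (vqc2 2 (vqc0 9 (vqc0 75 (vqc0 27 (vqc0 25 vqc1))))))
      (vqc0 (vqc2 77968102482287602477 (vqc2 2 (vqc0 70 (vqc0 57 (vqc0 43 (vqc0 63 (vqc0 113 (vqc0 35 vqc1))))))))
      (vqc0 (vqc2 77968102482290344295 (vqc2 5 vqc1))
      (vqc0 (vqc2 77968102820269160237 (vqc2 4 vqc1))
      (vqc0 (vqc2 77968102820272359015 (vqc2 3 (vqc0 102 (vqc0 28 (vqc0 75 (vqc0 9 vqc1))))))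
      vqy251))))));
      (let vqy252 : type_of% vqy250 := (vqc0 (vqc2 75876975740748986157 (vqc2 3 (vqc0 70 (vqc0 3 (vqc0 79 (vqc0 43 (vqc0 113 (vqc0 35 vqc1))))))))
      (vqc0 (vqc2 75876975740752184944 (vqc2 1 (vqc0 11 (vqc0 75 (vqc0 27 (vqc0 25 vqc1))))))
      (vqc0 (vqc2 75888751296368760935 (vqc2 2 (vqc0 27 (vqc0 25 (vqc0 11 (vqc0 9 vqc1))))))
      (vqc0 (vqc2 75888751296374113888 (vqc2 2 (vqc0 76 (vqc0 20 (vqc0 56 (vqc0 82 (vqc0 81 (vqc0 3 vqc1))))))))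
      (vqc0 (vqc2 75888751510282467168 (vqc2 2 (vqc0 56 (vqc0 20 (vqc0 81 (vqc0 3 vqc1))))))
      vqy250)))));
      (vqc0 (vqc2 26550787010521138279 (vqc2 2 (vqc0 117 (vqc0 7 (vqc0 88 (vqc0 70 vqc1))))))
      (vqc0 (vqc2 26550787078969771623 (vqc2 1 (vqc0 27 (vqc0 62 (vqc0 11 (vqc0 9 vqc1))))))
      (vqc0 (vqc2 26550787078973949548 (vqc2 3 (vqc0 117 (vqc0 7 (vqc0 88 (vqc0 70 vqc1))))))
      (vqc0 (vqc2 75876975526835279917 (vqc2 1 (vqc0 102 (vqc0 11 (vqc0 75 (vqc0 95 (vqc0 27 (vqc0 25 vqc1))))))))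
      (vqc0 (vqc2 75876975526840632944 (vqc2 3 (vqc0 70 (vqc0 114 (vqc0 95 (vqc0 43 (vqc0 4 (vqc0 1 (vqc0 81 (vqc0 3 vqc1))))))))))
      vqy252)))))));
      (let vqy253 : type_of% vqy249 := (let vqy254 : type_of% vqy249 := (vqc0 (vqc2 21709046132386519148 (vqc2 2 (vqc0 28 (vqc0 64 vqc1))))
      (vqc0 (vqc2 26542095371101023034 (vqc2 2 (vqc0 14 (vqc0 93 vqc1))))
      (vqc0 (vqc2 26542095371103568992 (vqc2 2 (vqc0 64 (vqc0 13 (vqc0 50 (vqc0 77 vqc1))))))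
      (vqc0 (vqc2 26542095439552202298 (vqc2 1 (vqc0 27 (vqc0 25 (vqc0 11 (vqc0 9 vqc1))))))
      (vqc0 (vqc2 26542095439556380256 (vqc2 3 (vqc0 14 (vqc0 93 vqc1))))
      (vqc0 (vqc2 26550787010518592364 (vqc2 2 (vqc0 13 (vqc0 50 vqc1))))
      vqy249))))));
      (vqc0 (vqc2 21691102102619191098 (vqc2 2 vqc1))
      (vqc0 (vqc2 21691102102621214823 (vqc2 2 (vqc0 12 (vqc0 50 vqc1))))
      (vqc0 (vqc2 21709045777289194348 (vqc2 3 (vqc0 14 (vqc0 77 vqc1))))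
      (vqc0 (vqc2 21709045777291740256 (vqc2 1 (vqc0 86 (vqc0 87 (vqc0 62 (vqc0 25 vqc1))))))
      (vqc0 (vqc2 21709046132384495456 (vqc2 2 (vqc0 14 (vqc0 77 vqc1))))
      vqy254))))));
      (let vqy255 : type_of% vqy253 := (vqc0 (vqc2 20548522318011696736 (vqc2 1 (vqc0 28 (vqc0 102 vqc1))))
      (vqc0 (vqc2 20548522604651640672 (vqc2 3 (vqc0 12 (vqc0 102 (vqc0 28 (vqc0 93 vqc1))))))
      (vqc0 (vqc2 20548522604653664359 (vqc2 3 (vqc0 28 (vqc0 102 vqc1))))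
      (vqc0 (vqc2 21691101747523889978 (vqc2 1 (vqc0 41 (vqc0 95 (vqc0 11 (vqc0 9 vqc1))))))
      (vqc0 (vqc2 21691101747526435943 (vqc2 3 vqc1))
      vqy253)))));
      (vqc0 (vqc2 20537587674869286458 (vqc2 0 vqc1))
      (vqc0 (vqc2 20537587674873464428 (vqc2 1 vqc1))
      (vqc0 (vqc2 20537587961513408314 (vqc2 1 (vqc0 11 (vqc0 9 vqc1))))
      (vqc0 (vqc2 20537587961515432044 (vqc2 1 (vqc0 62 (vqc0 25 vqc1))))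
      (vqc0 (vqc2 20548522318007518823 (vqc2 1 (vqc0 13 (vqc0 12 vqc1))))
      vqy255))))))))))))))
  q₁ := 5
  k₁ := 60
  ev := false
  lg := (0, [], 0)

/-- inverted roots -/
def ivE8_21 : List (ℕ × List ℕ × ℕ) := []

/-- the certificates -/
def ceE8_21 : List (List (ℕ × Ce)) := (beta% delta% lq26b895f9ecd2 fun vqc0 vqc1 vqc2 _ vqc4 _ vqc6 vqc7 vqc8 vqc9 vqc10 vqc11 vqc12 =>
    (vqc0 (vqc0 (vqc2 2 (vqc6 836126856017232363765 vqc1 0 vqc1 (vqc7 (vqc8 (vqc9 (vqc0 41 (vqc0 27 (vqc0 93 (vqc0 76 (vqc0 11 (vqc0 9 vqc1)))))) vqc4 7 1 36 (let vqy1 : type_of% (vqc10 _) := (let vqy2 : type_of% (vqc10 _) := (let vqy3 : type_of% (vqc10 _) := (vqc0 (vqc11 120 1 0 0 0 vqc1) (vqc0 (vqc11 121 1 0 0 0 vqc1) (vqc0 (vqc11 144 1 0 0 0 vqc1) (vqc0 (vqc11 149 1 0 0 0 vqc1) (vqc0 (vqc11 183 1 0 0 0 vqc1) vqc1)))));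
    (vqc0 (vqc11 62 1 0 0 0 vqc1) (vqc0 (vqc11 63 1 0 0 0 vqc1) (vqc0 (vqc11 69 1 0 0 0 vqc1) (vqc0 (vqc11 93 1 0 0 0 vqc1) vqy3)))));
    (let vqy4 : type_of% vqy2 := (vqc0 (vqc11 33 1 0 0 0 vqc1) (vqc0 (vqc11 35 1 0 0 0 vqc1) (vqc0 (vqc11 36 1 0 0 0 vqc1) (vqc0 (vqc11 42 1 0 0 0 vqc1) (vqc0 (vqc11 46 1 0 0 0 vqc1) vqy2)))));
    (vqc0 (vqc11 27 1 0 0 0 vqc1) (vqc0 (vqc11 29 1 0 0 0 vqc1) (vqc0 (vqc11 30 1 0 0 0 vqc1) (vqc0 (vqc11 31 1 0 0 0 vqc1) vqy4))))));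
    (let vqy5 : type_of% vqy1 := (let vqy6 : type_of% vqy1 := (vqc0 (vqc11 19 1 0 0 0 vqc1) (vqc0 (vqc11 20 1 0 0 0 vqc1) (vqc0 (vqc11 23 1 0 0 0 vqc1) (vqc0 (vqc11 24 1 0 0 0 vqc1) (vqc0 (vqc11 26 1 0 0 0 vqc1) vqy1)))));
    (vqc0 (vqc11 12 1 0 0 0 vqc1) (vqc0 (vqc11 15 1 0 0 0 vqc1) (vqc0 (vqc11 17 1 0 0 0 vqc1) (vqc0 (vqc11 18 1 0 0 0 vqc1) vqy6)))));
    (let vqy7 : type_of% vqy5 := (vqc0 (vqc11 7 1 0 0 0 vqc1) (vqc0 (vqc11 8 1 0 0 0 vqc1) (vqc0 (vqc11 9 1 0 0 0 vqc1) (vqc0 (vqc11 10 1 0 0 0 vqc1) (vqc0 (vqc11 11 1 0 0 0 vqc1) vqy5)))));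
    (vqc0 (vqc11 0 1 0 0 0 vqc1) (vqc0 (vqc11 1 1 0 0 0 vqc1) (vqc0 (vqc11 2 1 0 0 0 vqc1) (vqc0 (vqc11 3 1 0 0 0 vqc1) vqy7))))))))))))
    (vqc0 (vqc2 3 (vqc6 17061246401759346476346111944055500 (vqc0 70 (vqc0 119 vqc1)) 0 vqc1 (vqc8 (vqc12 8 (vqc0 4 (vqc0 0 (vqc0 2 (vqc0 2 (vqc0 0 (vqc0 6 (vqc0 4 (vqc0 3 vqc1)))))))) (vqc0 4 (vqc0 0 (vqc0 2 (vqc0 2 (vqc0 0 (vqc0 6 (vqc0 4 (vqc0 3 vqc1)))))))) (vqc0 0 (vqc0 0 (vqc0 0 (vqc0 0 (vqc0 0 (vqc0 0 (vqc0 0 (vqc0 0 vqc1)))))))) vqc1 0 0 vqc1))))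
    (vqc0 (vqc2 4 (vqc6 43978569841161990155605408005245082350176127 (vqc0 1 (vqc0 1 (vqc0 70 (vqc0 0 (vqc0 1 (vqc0 0 (vqc0 119 (vqc0 119 vqc1)))))))) 0 vqc1 (vqc8 (vqc12 15 (vqc0 0 (vqc0 9 (vqc0 2 (vqc0 6 (vqc0 0 (vqc0 12 (vqc0 5 (vqc0 8 vqc1)))))))) (vqc0 0 (vqc0 9 (vqc0 2 (vqc0 6 (vqc0 0 (vqc0 12 (vqc0 5 (vqc0 8 vqc1)))))))) (vqc0 0 (vqc0 0 (vqc0 0 (vqc0 0 (vqc0 0 (vqc0 0 (vqc0 0 (vqc0 0 vqc1)))))))) vqc1 0 0 vqc1)))) vqc1)))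
    (vqc0 (vqc0 (vqc2 2 (vqc6 836126856017232363765 (vqc0 70 (vqc0 119 (vqc0 1 (vqc0 4 (vqc0 70 (vqc0 88 (vqc0 70 vqc1))))))) 0 vqc1 (vqc8 (vqc12 15 (vqc0 0 (vqc0 0 (vqc0 12 (vqc0 13 (vqc0 10 (vqc0 13 (vqc0 3 (vqc0 9 vqc1)))))))) (vqc0 0 (vqc0 0 (vqc0 12 (vqc0 13 (vqc0 10 (vqc0 13 (vqc0 3 (vqc0 9 vqc1)))))))) (vqc0 0 (vqc0 0 (vqc0 0 (vqc0 0 (vqc0 0 (vqc0 0 (vqc0 0 (vqc0 0 vqc1)))))))) vqc1 0 0 vqc1))))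
    (vqc0 (vqc2 3 (vqc6 17061246401759346476346111944055500 (vqc0 88 (vqc0 1 (vqc0 70 vqc1))) 0 vqc1 (vqc8 (vqc12 20 (vqc0 10 (vqc0 0 (vqc0 14 (vqc0 16 (vqc0 0 (vqc0 19 (vqc0 18 (vqc0 6 vqc1)))))))) (vqc0 10 (vqc0 0 (vqc0 14 (vqc0 16 (vqc0 0 (vqc0 19 (vqc0 18 (vqc0 6 vqc1)))))))) (vqc0 0 (vqc0 0 (vqc0 0 (vqc0 0 (vqc0 0 (vqc0 0 (vqc0 0 (vqc0 0 vqc1)))))))) vqc1 0 0 vqc1))))
    (vqc0 (vqc2 4 (vqc6 43978569841161990155605408005245082350176127 (vqc0 119 (vqc0 88 (vqc0 70 (vqc0 70 vqc1)))) 0 vqc1 (vqc8 (vqc12 15 (vqc0 10 (vqc0 10 (vqc0 4 (vqc0 6 (vqc0 0 (vqc0 4 (vqc0 1 (vqc0 0 vqc1)))))))) (vqc0 10 (vqc0 10 (vqc0 4 (vqc0 6 (vqc0 0 (vqc0 4 (vqc0 1 (vqc0 0 vqc1)))))))) (vqc0 0 (vqc0 0 (vqc0 0 (vqc0 0 (vqc0 0 (vqc0 0 (vqc0 0 (vqc0 0 vqc1)))))))) vqc1 0 0 vqc1)))) vqc1)))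
    (vqc0 (vqc0 (vqc2 2 (vqc6 836126856017232363765 (vqc0 6 vqc1) 0 vqc1 (vqc8 (vqc12 9 (vqc0 0 (vqc0 0 (vqc0 2 (vqc0 2 (vqc0 1 (vqc0 5 (vqc0 7 (vqc0 3 vqc1)))))))) (vqc0 0 (vqc0 0 (vqc0 2 (vqc0 2 (vqc0 1 (vqc0 5 (vqc0 7 (vqc0 3 vqc1)))))))) (vqc0 0 (vqc0 0 (vqc0 0 (vqc0 0 (vqc0 0 (vqc0 0 (vqc0 0 (vqc0 0 vqc1)))))))) vqc1 0 0 vqc1))))
    (vqc0 (vqc2 3 (vqc6 17061246401759346476346111944055500 (vqc0 0 (vqc0 4 (vqc0 6 (vqc0 70 (vqc0 43 (vqc0 4 (vqc0 1 vqc1))))))) 0 vqc1 (vqc8 (vqc12 182 (vqc0 0 (vqc0 0 (vqc0 6 (vqc0 173 (vqc0 104 (vqc0 90 (vqc0 52 (vqc0 148 vqc1)))))))) (vqc0 0 (vqc0 0 (vqc0 6 (vqc0 173 (vqc0 104 (vqc0 90 (vqc0 52 (vqc0 148 vqc1)))))))) (vqc0 0 (vqc0 0 (vqc0 0 (vqc0 0 (vqc0 0 (vqc0 0 (vqc0 0 (vqc0 0 vqc1)))))))) vqc1 0 0 vqc1))))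
    (vqc0 (vqc2 4 (vqc6 43978569841161990155605408005245082350176127 (vqc0 70 (vqc0 43 (vqc0 6 (vqc0 4 (vqc0 70 (vqc0 0 (vqc0 1 (vqc0 43 (vqc0 0 vqc1))))))))) 0 vqc1 (vqc8 (vqc12 7 (vqc0 0 (vqc0 0 (vqc0 2 (vqc0 4 (vqc0 3 (vqc0 6 (vqc0 2 (vqc0 1 vqc1)))))))) (vqc0 0 (vqc0 0 (vqc0 2 (vqc0 4 (vqc0 3 (vqc0 6 (vqc0 2 (vqc0 1 vqc1)))))))) (vqc0 0 (vqc0 0 (vqc0 0 (vqc0 0 (vqc0 0 (vqc0 0 (vqc0 0 (vqc0 0 vqc1)))))))) vqc1 0 0 vqc1)))) vqc1)))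
    (vqc0 (vqc0 (vqc2 2 (vqc6 836126856017232363765 vqc1 0 vqc1 (vqc8 (vqc12 15 (vqc0 0 (vqc0 0 (vqc0 13 (vqc0 14 (vqc0 3 (vqc0 9 (vqc0 6 (vqc0 5 vqc1)))))))) (vqc0 0 (vqc0 0 (vqc0 13 (vqc0 14 (vqc0 3 (vqc0 9 (vqc0 6 (vqc0 5 vqc1)))))))) (vqc0 0 (vqc0 0 (vqc0 0 (vqc0 0 (vqc0 0 (vqc0 0 (vqc0 0 (vqc0 0 vqc1)))))))) vqc1 0 0 vqc1))))
    (vqc0 (vqc2 3 (vqc6 17061246401759346476346111944055500 (vqc0 70 (vqc0 119 (vqc0 4 (vqc0 43 (vqc0 43 (vqc0 6 (vqc0 1 vqc1))))))) 0 vqc1 (vqc8 (vqc12 328 (vqc0 0 (vqc0 246 (vqc0 106 (vqc0 195 (vqc0 112 (vqc0 324 (vqc0 320 (vqc0 132 vqc1)))))))) (vqc0 0 (vqc0 246 (vqc0 106 (vqc0 195 (vqc0 112 (vqc0 324 (vqc0 320 (vqc0 132 vqc1)))))))) (vqc0 0 (vqc0 0 (vqc0 0 (vqc0 0 (vqc0 0 (vqc0 0 (vqc0 0 (vqc0 0 vqc1)))))))) vqc1 0 0 vqc1))))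
    (vqc0 (vqc2 4 (vqc6 43978569841161990155605408005245082350176127 (vqc0 1 (vqc0 88 (vqc0 1 (vqc0 70 (vqc0 119 (vqc0 119 (vqc0 4 (vqc0 1 (vqc0 1 vqc1))))))))) 0 vqc1 (vqc8 (vqc12 51 (vqc0 34 (vqc0 17 (vqc0 34 (vqc0 50 (vqc0 18 (vqc0 0 (vqc0 21 (vqc0 9 vqc1)))))))) (vqc0 34 (vqc0 17 (vqc0 34 (vqc0 50 (vqc0 18 (vqc0 0 (vqc0 21 (vqc0 9 vqc1)))))))) (vqc0 0 (vqc0 0 (vqc0 0 (vqc0 0 (vqc0 0 (vqc0 0 (vqc0 0 (vqc0 0 vqc1)))))))) vqc1 0 0 vqc1)))) vqc1)))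
    (vqc0 (vqc0 (vqc2 2 (vqc6 836126856017232363765 (vqc0 119 (vqc0 70 (vqc0 43 (vqc0 6 (vqc0 1 (vqc0 70 (vqc0 0 (vqc0 70 (vqc0 88 vqc1))))))))) 0 vqc1 (vqc8 (vqc12 127 (vqc0 0 (vqc0 95 (vqc0 114 (vqc0 57 (vqc0 63 (vqc0 98 (vqc0 1 (vqc0 58 vqc1)))))))) (vqc0 0 (vqc0 95 (vqc0 114 (vqc0 57 (vqc0 63 (vqc0 98 (vqc0 1 (vqc0 58 vqc1)))))))) (vqc0 0 (vqc0 0 (vqc0 0 (vqc0 0 (vqc0 0 (vqc0 0 (vqc0 0 (vqc0 0 vqc1)))))))) vqc1 0 0 vqc1))))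
    (vqc0 (vqc2 3 (vqc6 17061246401759346476346111944055500 vqc1 0 vqc1 (vqc8 (vqc12 2186 (vqc0 1093 (vqc0 799 (vqc0 800 (vqc0 1229 (vqc0 211 (vqc0 1819 (vqc0 633 (vqc0 1085 vqc1)))))))) (vqc0 1093 (vqc0 799 (vqc0 800 (vqc0 1229 (vqc0 211 (vqc0 1819 (vqc0 633 (vqc0 1085 vqc1)))))))) (vqc0 0 (vqc0 0 (vqc0 0 (vqc0 0 (vqc0 0 (vqc0 0 (vqc0 0 (vqc0 0 vqc1)))))))) vqc1 0 0 vqc1))))
    (vqc0 (vqc2 4 (vqc6 43978569841161990155605408005245082350176127 vqc1 0 vqc1 (vqc8 (vqc12 16383 (vqc0 10922 (vqc0 3657 (vqc0 15482 (vqc0 15594 (vqc0 14628 (vqc0 10200 (vqc0 9363 (vqc0 8034 vqc1)))))))) (vqc0 10922 (vqc0 3657 (vqc0 15482 (vqc0 15594 (vqc0 14628 (vqc0 10200 (vqc0 9363 (vqc0 8034 vqc1)))))))) (vqc0 0 (vqc0 0 (vqc0 0 (vqc0 0 (vqc0 0 (vqc0 0 (vqc0 0 (vqc0 0 vqc1)))))))) vqc1 0 0 vqc1)))) vqc1)))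
    (vqc0 (vqc0 (vqc2 2 (vqc6 836126856017232363765 (vqc0 1 (vqc0 1 (vqc0 119 (vqc0 88 (vqc0 70 vqc1))))) 0 vqc1 (vqc8 (vqc12 43 (vqc0 0 (vqc0 33 (vqc0 28 (vqc0 33 (vqc0 23 (vqc0 3 (vqc0 3 (vqc0 19 vqc1)))))))) (vqc0 0 (vqc0 33 (vqc0 28 (vqc0 33 (vqc0 23 (vqc0 3 (vqc0 3 (vqc0 19 vqc1)))))))) (vqc0 0 (vqc0 0 (vqc0 0 (vqc0 0 (vqc0 0 (vqc0 0 (vqc0 0 (vqc0 0 vqc1)))))))) vqc1 0 0 vqc1))))
    (vqc0 (vqc2 3 (vqc6 17061246401759346476346111944055500 (vqc0 43 vqc1) 0 vqc1 (vqc8 (vqc12 547 (vqc0 0 (vqc0 468 (vqc0 133 (vqc0 271 (vqc0 310 (vqc0 306 (vqc0 383 (vqc0 386 vqc1)))))))) (vqc0 0 (vqc0 468 (vqc0 133 (vqc0 271 (vqc0 310 (vqc0 306 (vqc0 383 (vqc0 386 vqc1)))))))) (vqc0 0 (vqc0 0 (vqc0 0 (vqc0 0 (vqc0 0 (vqc0 0 (vqc0 0 (vqc0 0 vqc1)))))))) vqc1 0 0 vqc1))))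
    (vqc0 (vqc2 4 (vqc6 43978569841161990155605408005245082350176127 (vqc0 70 (vqc0 88 (vqc0 43 (vqc0 1 (vqc0 1 (vqc0 1 (vqc0 1 (vqc0 70 vqc1)))))))) 0 vqc1 (vqc8 (vqc12 127 (vqc0 0 (vqc0 63 (vqc0 72 (vqc0 104 (vqc0 125 (vqc0 108 (vqc0 119 (vqc0 74 vqc1)))))))) (vqc0 0 (vqc0 63 (vqc0 72 (vqc0 104 (vqc0 125 (vqc0 108 (vqc0 119 (vqc0 74 vqc1)))))))) (vqc0 0 (vqc0 0 (vqc0 0 (vqc0 0 (vqc0 0 (vqc0 0 (vqc0 0 (vqc0 0 vqc1)))))))) vqc1 0 0 vqc1)))) vqc1)))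
    (vqc0 (vqc0 (vqc2 2 (vqc6 836126856017232363765 (vqc0 70 (vqc0 1 (vqc0 0 (vqc0 1 vqc1)))) 0 vqc1 (vqc8 (vqc12 15 (vqc0 9 (vqc0 3 (vqc0 11 (vqc0 10 (vqc0 0 (vqc0 9 (vqc0 0 (vqc0 4 vqc1)))))))) (vqc0 9 (vqc0 3 (vqc0 11 (vqc0 10 (vqc0 0 (vqc0 9 (vqc0 0 (vqc0 4 vqc1)))))))) (vqc0 0 (vqc0 0 (vqc0 0 (vqc0 0 (vqc0 0 (vqc0 0 (vqc0 0 (vqc0 0 vqc1)))))))) vqc1 0 0 vqc1))))
    (vqc0 (vqc2 3 (vqc6 17061246401759346476346111944055500 (vqc0 4 (vqc0 4 vqc1)) 0 vqc1 (vqc8 (vqc12 8 (vqc0 0 (vqc0 0 (vqc0 3 (vqc0 5 (vqc0 4 (vqc0 4 (vqc0 4 (vqc0 6 vqc1)))))))) (vqc0 0 (vqc0 0 (vqc0 3 (vqc0 5 (vqc0 4 (vqc0 4 (vqc0 4 (vqc0 6 vqc1)))))))) (vqc0 0 (vqc0 0 (vqc0 0 (vqc0 0 (vqc0 0 (vqc0 0 (vqc0 0 (vqc0 0 vqc1)))))))) vqc1 0 0 vqc1))))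
    (vqc0 (vqc2 4 (vqc6 43978569841161990155605408005245082350176127 (vqc0 6 (vqc0 70 (vqc0 119 (vqc0 0 (vqc0 70 vqc1))))) 0 vqc1 (vqc8 (vqc12 17 (vqc0 15 (vqc0 9 (vqc0 9 (vqc0 12 (vqc0 2 (vqc0 3 (vqc0 9 (vqc0 10 vqc1)))))))) (vqc0 15 (vqc0 9 (vqc0 9 (vqc0 12 (vqc0 2 (vqc0 3 (vqc0 9 (vqc0 10 vqc1)))))))) (vqc0 0 (vqc0 0 (vqc0 0 (vqc0 0 (vqc0 0 (vqc0 0 (vqc0 0 (vqc0 0 vqc1)))))))) vqc1 0 0 vqc1)))) vqc1)))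
    (vqc0 (vqc0 (vqc2 2 (vqc6 836126856017232363765 (vqc0 43 (vqc0 1 (vqc0 43 (vqc0 70 (vqc0 6 (vqc0 88 (vqc0 88 vqc1))))))) 0 vqc1 (vqc8 (vqc12 9 (vqc0 0 (vqc0 0 (vqc0 6 (vqc0 3 (vqc0 7 (vqc0 2 (vqc0 4 (vqc0 5 vqc1)))))))) (vqc0 0 (vqc0 0 (vqc0 6 (vqc0 3 (vqc0 7 (vqc0 2 (vqc0 4 (vqc0 5 vqc1)))))))) (vqc0 0 (vqc0 0 (vqc0 0 (vqc0 0 (vqc0 0 (vqc0 0 (vqc0 0 (vqc0 0 vqc1)))))))) vqc1 0 0 vqc1))))
    (vqc0 (vqc2 3 (vqc6 17061246401759346476346111944055500 (vqc0 6 (vqc0 4 (vqc0 1 (vqc0 70 (vqc0 4 (vqc0 6 vqc1)))))) 0 vqc1 (vqc8 (vqc12 146 (vqc0 73 (vqc0 73 (vqc0 111 (vqc0 17 (vqc0 139 (vqc0 27 (vqc0 125 (vqc0 98 vqc1)))))))) (vqc0 73 (vqc0 73 (vqc0 111 (vqc0 17 (vqc0 139 (vqc0 27 (vqc0 125 (vqc0 98 vqc1)))))))) (vqc0 0 (vqc0 0 (vqc0 0 (vqc0 0 (vqc0 0 (vqc0 0 (vqc0 0 (vqc0 0 vqc1)))))))) vqc1 0 0 vqc1))))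
    (vqc0 (vqc2 4 (vqc6 43978569841161990155605408005245082350176127 (vqc0 6 (vqc0 1 vqc1)) 0 vqc1 (vqc8 (vqc12 4097 (vqc0 2410 (vqc0 2651 (vqc0 2161 (vqc0 3171 (vqc0 1649 (vqc0 1904 (vqc0 1598 (vqc0 1921 vqc1)))))))) (vqc0 2410 (vqc0 2651 (vqc0 2161 (vqc0 3171 (vqc0 1649 (vqc0 1904 (vqc0 1598 (vqc0 1921 vqc1)))))))) (vqc0 0 (vqc0 0 (vqc0 0 (vqc0 0 (vqc0 0 (vqc0 0 (vqc0 0 (vqc0 0 vqc1)))))))) vqc1 0 0 vqc1)))) vqc1)))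
    (vqc0 (vqc0 (vqc2 2 (vqc6 836126856017232363765 (vqc0 43 (vqc0 6 (vqc0 70 (vqc0 119 (vqc0 88 (vqc0 1 (vqc0 4 (vqc0 43 vqc1)))))))) 0 vqc1 (vqc8 (vqc12 15 (vqc0 6 (vqc0 3 (vqc0 10 (vqc0 2 (vqc0 3 (vqc0 3 (vqc0 5 (vqc0 10 vqc1)))))))) (vqc0 6 (vqc0 3 (vqc0 10 (vqc0 2 (vqc0 3 (vqc0 3 (vqc0 5 (vqc0 10 vqc1)))))))) (vqc0 0 (vqc0 0 (vqc0 0 (vqc0 0 (vqc0 0 (vqc0 0 (vqc0 0 (vqc0 0 vqc1)))))))) vqc1 0 0 vqc1))))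
    (vqc0 (vqc2 3 (vqc6 17061246401759346476346111944055500 (vqc0 0 vqc1) 0 vqc1 (vqc8 (vqc12 8 (vqc0 0 (vqc0 0 (vqc0 1 (vqc0 1 (vqc0 6 (vqc0 0 (vqc0 0 (vqc0 4 vqc1)))))))) (vqc0 0 (vqc0 0 (vqc0 1 (vqc0 1 (vqc0 6 (vqc0 0 (vqc0 0 (vqc0 4 vqc1)))))))) (vqc0 0 (vqc0 0 (vqc0 0 (vqc0 0 (vqc0 0 (vqc0 0 (vqc0 0 (vqc0 0 vqc1)))))))) vqc1 0 0 vqc1))))
    (vqc0 (vqc2 4 (vqc6 43978569841161990155605408005245082350176127 vqc1 0 vqc1 (vqc8 (vqc12 15 (vqc0 14 (vqc0 11 (vqc0 9 (vqc0 7 (vqc0 14 (vqc0 13 (vqc0 2 (vqc0 13 vqc1)))))))) (vqc0 14 (vqc0 11 (vqc0 9 (vqc0 7 (vqc0 14 (vqc0 13 (vqc0 2 (vqc0 13 vqc1)))))))) (vqc0 0 (vqc0 0 (vqc0 0 (vqc0 0 (vqc0 0 (vqc0 0 (vqc0 0 (vqc0 0 vqc1)))))))) vqc1 0 0 vqc1)))) vqc1)))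
    (vqc0 (vqc0 (vqc2 2 (vqc6 836126856017232363765 (vqc0 4 (vqc0 6 (vqc0 0 (vqc0 4 (vqc0 0 (vqc0 0 vqc1)))))) 0 vqc1 (vqc8 (vqc12 15 (vqc0 8 (vqc0 1 (vqc0 6 (vqc0 4 (vqc0 2 (vqc0 12 (vqc0 11 (vqc0 12 vqc1)))))))) (vqc0 8 (vqc0 1 (vqc0 6 (vqc0 4 (vqc0 2 (vqc0 12 (vqc0 11 (vqc0 12 vqc1)))))))) (vqc0 0 (vqc0 0 (vqc0 0 (vqc0 0 (vqc0 0 (vqc0 0 (vqc0 0 (vqc0 0 vqc1)))))))) vqc1 0 0 vqc1))))
    (vqc0 (vqc2 3 (vqc6 17061246401759346476346111944055500 (vqc0 43 (vqc0 4 (vqc0 70 vqc1))) 0 vqc1 (vqc8 (vqc12 328 (vqc0 112 (vqc0 8 (vqc0 231 (vqc0 172 (vqc0 304 (vqc0 212 (vqc0 256 (vqc0 159 vqc1)))))))) (vqc0 112 (vqc0 8 (vqc0 231 (vqc0 172 (vqc0 304 (vqc0 212 (vqc0 256 (vqc0 159 vqc1)))))))) (vqc0 0 (vqc0 0 (vqc0 0 (vqc0 0 (vqc0 0 (vqc0 0 (vqc0 0 (vqc0 0 vqc1)))))))) vqc1 0 0 vqc1))))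
    (vqc0 (vqc2 4 (vqc6 43978569841161990155605408005245082350176127 (vqc0 119 (vqc0 6 (vqc0 43 (vqc0 4 vqc1)))) 0 vqc1 (vqc8 (vqc12 255 (vqc0 97 (vqc0 133 (vqc0 172 (vqc0 15 (vqc0 233 (vqc0 177 (vqc0 88 (vqc0 142 vqc1)))))))) (vqc0 97 (vqc0 133 (vqc0 172 (vqc0 15 (vqc0 233 (vqc0 177 (vqc0 88 (vqc0 142 vqc1)))))))) (vqc0 0 (vqc0 0 (vqc0 0 (vqc0 0 (vqc0 0 (vqc0 0 (vqc0 0 (vqc0 0 vqc1)))))))) vqc1 0 0 vqc1)))) vqc1)))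
    (vqc0 (vqc0 (vqc2 2 (vqc6 836126856017232363765 (vqc0 4 (vqc0 6 (vqc0 43 (vqc0 4 (vqc0 6 (vqc0 1 (vqc0 43 (vqc0 119 vqc1)))))))) 0 vqc1 (vqc8 (vqc12 17 (vqc0 15 (vqc0 4 (vqc0 12 (vqc0 8 (vqc0 8 (vqc0 12 (vqc0 14 (vqc0 14 vqc1)))))))) (vqc0 15 (vqc0 4 (vqc0 12 (vqc0 8 (vqc0 8 (vqc0 12 (vqc0 14 (vqc0 14 vqc1)))))))) (vqc0 0 (vqc0 0 (vqc0 0 (vqc0 0 (vqc0 0 (vqc0 0 (vqc0 0 (vqc0 0 vqc1)))))))) vqc1 0 0 vqc1))))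
    (vqc0 (vqc2 3 (vqc6 17061246401759346476346111944055500 vqc1 0 vqc1 (vqc8 (vqc12 5 (vqc0 3 (vqc0 4 (vqc0 1 (vqc0 0 (vqc0 2 (vqc0 2 (vqc0 1 (vqc0 2 vqc1)))))))) (vqc0 3 (vqc0 4 (vqc0 1 (vqc0 0 (vqc0 2 (vqc0 2 (vqc0 1 (vqc0 2 vqc1)))))))) (vqc0 0 (vqc0 0 (vqc0 0 (vqc0 0 (vqc0 0 (vqc0 0 (vqc0 0 (vqc0 0 vqc1)))))))) vqc1 0 0 vqc1))))
    (vqc0 (vqc2 4 (vqc6 43978569841161990155605408005245082350176127 (vqc0 70 (vqc0 0 (vqc0 1 vqc1))) 0 vqc1 (vqc8 (vqc12 4369 (vqc0 2570 (vqc0 2827 (vqc0 3583 (vqc0 4127 (vqc0 2570 (vqc0 970 (vqc0 1411 (vqc0 1020 vqc1)))))))) (vqc0 2570 (vqc0 2827 (vqc0 3583 (vqc0 4127 (vqc0 2570 (vqc0 970 (vqc0 1411 (vqc0 1020 vqc1)))))))) (vqc0 0 (vqc0 0 (vqc0 0 (vqc0 0 (vqc0 0 (vqc0 0 (vqc0 0 (vqc0 0 vqc1)))))))) vqc1 0 0 vqc1)))) vqc1))) vqc1))))))))))))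

theorem svsE8_21 : tbE8.svs 8 svE8_21 = true := by decide +kernel

private noncomputable def _root_.Cfsg.Agent.KOac4fa65.oEq.{ku} (α : Sort ku) (a b : Nat) (f t : α) : α := @Decidable.rec (a = b) (fun _ => α) (fun _ => f) (fun _ => t) (Nat.decEq a b)
private noncomputable def _root_.Cfsg.Agent.KOac4fa65.k0.{ku} (α : Sort ku) (a b : Nat) (f t : α) : α := @Bool.rec (fun _ => α) f t (Nat.beq a b)
private theorem _root_.Cfsg.Agent.KOac4fa65.e0.{ku} : @_root_.Cfsg.Agent.KOac4fa65.oEq.{ku} = @_root_.Cfsg.Agent.KOac4fa65.k0.{ku} := funext fun α => funext fun a => funext fun b => funext fun f => funext fun t => by delta _root_.Cfsg.Agent.KOac4fa65.oEq _root_.Cfsg.Agent.KOac4fa65.k0; cases h : Nat.beq a b <;> cases Nat.decEq a b <;> rename_i g <;> first | rfl | exact absurd g (Nat.ne_of_beq_eq_false h) | exact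 absurd (Nat.eq_of_beq_eq_true h) g
private noncomputable def _root_.Cfsg.Agent.KOac4fa65.k1 : (by first | exact type_of% @Cfsg.Agent.N2.Ex.Al.Ck.Tb.c | exact Unit : Sort _) := by first | (refine @Subtype.val _ (fun g => @Cfsg.Agent.N2.Ex.Al.Ck.Tb.c = @g) (@Subtype.mk _ _ (@(fun x0 x1 x2 => @Nat.mod (@Nat.shiftRight (@Cfsg.Agent.N2.Ex.Al.Ck.Tb.C @x0) (@Nat.mul (nat_lit 3) (@Nat.add (@Nat.mul (@Cfsg.Agent.N2.Ex.Al.Ck.Tb.n @x0) @x1) @x2))) (nat_lit 8))) ?_); rfl') | exact @Cfsg.Agent.N2.Ex.Al.Ck.Tb.c | exact ()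
private theorem _root_.Cfsg.Agent.KOac4fa65.e1 : (by first | exact @Cfsg.Agent.N2.Ex.Al.Ck.Tb.c = @_root_.Cfsg.Agent.KOac4fa65.k1 | exact True : Prop) := by first | (delta _root_.Cfsg.Agent.KOac4fa65.k1; exact @Subtype.property _ (fun g => @Cfsg.Agent.N2.Ex.Al.Ck.Tb.c = @g) _) | rfl | trivial
private theorem _root_.Cfsg.Agent.KOac4fa65.e5.{ku, kv} {α : Type kv} {M : List α → Sort ku} (φ : ∀ l, M l) {z : M List.nil} {s : ∀ a l, M l → M (List.cons a l)} (h0 : φ List.nil = z) (hs : ∀ a l, φ (List.cons a l) = s a l (φ l)) (l : List α) : φ l = @List.rec α M z s l := List.rec h0 (fun a l ih => (hs a l).trans (congrArg (s a l) ih)) l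
private noncomputable def _root_.Cfsg.Agent.KOac4fa65.k6.{ku0} : type_of% @List.length.{ku0} := @(fun x0 x1 => @List.rec.{1, ku0} @x0 @(fun x2 => ℕ) (nat_lit 0) @(fun x2 x3 x4 => @Nat.add @x4 (nat_lit 1)) @x1)
private theorem _root_.Cfsg.Agent.KOac4fa65.e6.{ku0} : @List.length.{ku0} = @_root_.Cfsg.Agent.KOac4fa65.k6.{ku0} := by delta _root_.Cfsg.Agent.KOac4fa65.k6; funext a0 a1; refine (_root_.Cfsg.Agent.KOac4fa65.e5 (fun a1 => @List.length.{ku0} a0 a1) ?_ (fun c0 c1 => ?_) a1 :) <;> (rfl')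
private noncomputable def _root_.Cfsg.Agent.KOac4fa65.k29.{ku0} : type_of% @List.get?Internal.{ku0} := @(fun x0 x1 x2 => @List.rec.{(ku0+1), ku0} @x0 @(fun x3 => ℕ → @Option.{ku0} @x0) @(fun x3 => @Option.none.{ku0} _) @(fun x3 x4 x5 x6 => @Nat.rec.{(ku0+1)} @(fun x7 => @Option.{ku0} @x0) (@Option.some.{ku0} _ @x3) @(fun x7 x8 => @x5 @x7) @x6) @x1 @x2)
private theorem _root_.Cfsg.Agent.KOac4fa65.e29.{ku0} : @List.get?Internal.{ku0} = @_root_.Cfsg.Agent.KOac4fa65.k29.{ku0} := by delta _root_.Cfsg.Agent.KOac4fa65.k29; funext a0 a1 a2; refine (congrFun (_root_.Cfsg.Agent.KOac4fa65.e5 (fun a1 a2 => @List.get?Internal.{ku0} a0 a1 a2) ?_ (fun c0 c1 => ?_) a1) a2 :) <;> [(funext b0; (rfl')); (funext b0; (cases b0 with | @zero  => (rfl') | @succ b0_0 => (rfl')))]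
private noncomputable def _root_.Cfsg.Agent.KOac4fa65.k32 : (by first | exact type_of% @Cfsg.Agent.N2.Ex.Al.Ck.Tb.f | exact Unit : Sort _) := by first | (refine @Subtype.val _ (fun g => @Cfsg.Agent.N2.Ex.Al.Ck.Tb.f = @g) (@Subtype.mk _ _ (@(fun x0 x1 x2 => @Nat.mod (@Nat.shiftRight (@Cfsg.Agent.N2.Ex.Al.Ck.Tb.F @x0) (@Nat.mul (nat_lit 8) (@Nat.add (@Nat.mul (@Cfsg.Agent.N2.Ex.Al.Ck.Tb.n @x0) @x1) @x2))) (nat_lit 256))) ?_); rfl') | exact @Cfsg.Agent.N2.Ex.Al.Ck.Tb.f | exact ()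
private theorem _root_.Cfsg.Agent.KOac4fa65.e32 : (by first | exact @Cfsg.Agent.N2.Ex.Al.Ck.Tb.f = @_root_.Cfsg.Agent.KOac4fa65.k32 | exact True : Prop) := by first | (delta _root_.Cfsg.Agent.KOac4fa65.k32; exact @Subtype.property _ (fun g => @Cfsg.Agent.N2.Ex.Al.Ck.Tb.f = @g) _) | rfl | trivial
private noncomputable def _root_.Cfsg.Agent.KOac4fa65.k34 : (by first | exact type_of% @Cfsg.Agent.N2.Ex.Al.Ck.Tb.ng | exact Unit : Sort _) := by first | (refine @Subtype.val _ (fun g => @Cfsg.Agent.N2.Ex.Al.Ck.Tb.ng = @g) (@Subtype.mk _ _ (@(fun x0 x1 => @Cfsg.Agent.KOac4fa65.k32 @x0 @x1 @x1)) ?_); rewrite [← Cfsg.Agent.KOac4fa65.e32]; (try delta Cfsg.Agent.N2.Ex.Al.Ck.Tb.ng); (try generalize @Cfsg.Agent.N2.Ex.Al.Ck.Tb.f = g0); rfl') | exact @Cfsg.Agent.N2.Ex.Al.Ck.Tb.ng | exact ()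
private theorem _root_.Cfsg.Agent.KOac4fa65.e34 : (by first | exact @Cfsg.Agent.N2.Ex.Al.Ck.Tb.ng = @_root_.Cfsg.Agent.KOac4fa65.k34 | exact True : Prop) := by first | (delta _root_.Cfsg.Agent.KOac4fa65.k34; exact @Subtype.property _ (fun g => @Cfsg.Agent.N2.Ex.Al.Ck.Tb.ng = @g) _) | rfl | trivial
private noncomputable def _root_.Cfsg.Agent.KOac4fa65.k37 : (by first | exact type_of% @Cfsg.Agent.N2.Ex.Al.Ck.lS | exact Unit : Sort _) := by first | (refine @Subtype.val _ (fun g => @Cfsg.Agent.N2.Ex.Al.Ck.lS = @g) (@Subtype.mk _ _ (@(fun x0 x1 => @List.rec.{1, 0} ℕ @(fun x2 => ℕ) (nat_lit 0) @(fun x2 x3 x4 => @Nat.add (@x0 @x2) @x4) @x1)) ?_); rfl') | exact @Cfsg.Agent.N2.Ex.Al.Ck.lS | exact ()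
private theorem _root_.Cfsg.Agent.KOac4fa65.e37 : (by first | exact @Cfsg.Agent.N2.Ex.Al.Ck.lS = @_root_.Cfsg.Agent.KOac4fa65.k37 | exact True : Prop) := by first | (delta _root_.Cfsg.Agent.KOac4fa65.k37; exact @Subtype.property _ (fun g => @Cfsg.Agent.N2.Ex.Al.Ck.lS = @g) _) | rfl | trivial
private noncomputable def _root_.Cfsg.Agent.KOac4fa65.k38 : (by first | exact type_of% @Cfsg.Agent.N2.Ex.Al.Ck.gKE | exact Unit : Sort _) := by first | (refine @Subtype.val _ (fun g => @Cfsg.Agent.N2.Ex.Al.Ck.gKE = @g) (@Subtype.mk _ _ (@(fun x0 x1 x2 => @Nat.add (@Nat.mul (nat_lit 8) (@Cfsg.Agent.KOac4fa65.k1 @x0 @x1 @x2)) (@Cfsg.Agent.KOac4fa65.k1 @x0 @x2 @x1))) ?_); rewrite [← Cfsg.Agent.KOac4fa65.e1]; (try delta Cfsg.Agent.N2.Ex.Al.Ck.gKE); (try generalize @Cfsg.Agent.N2.Ex.Al.Ck.Tb.c = g0); rfl') | exact @Cfsg.Agent.N2.Ex.Al.Ck.gKE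 | exact ()
private theorem _root_.Cfsg.Agent.KOac4fa65.e38 : (by first | exact @Cfsg.Agent.N2.Ex.Al.Ck.gKE = @_root_.Cfsg.Agent.KOac4fa65.k38 | exact True : Prop) := by first | (delta _root_.Cfsg.Agent.KOac4fa65.k38; exact @Subtype.property _ (fun g => @Cfsg.Agent.N2.Ex.Al.Ck.gKE = @g) _) | rfl | trivial
private noncomputable def _root_.Cfsg.Agent.KOac4fa65.k39 : (by first | exact type_of% @Cfsg.Agent.N2.Ex.Al.Ck.dfKE | exact Unit : Sort _) := by first | (refine @Subtype.val _ (fun g => @Cfsg.Agent.N2.Ex.Al.Ck.dfKE = @g) (@Subtype.mk _ _ (@(fun x0 x1 x2 x3 x4 => @List.rec.{1, 0} (ℕ × @Bool) @(fun x5 => (@List.{0} (ℕ × ℕ)) → ℕ) @x3 @(fun x5 x6 x7 x8 => @Prod.rec.{1, 0, 0} ℕ @Bool @(fun x9 => ℕ) @(fun x9 x10 => @Cfsg.Agent.KOac4fa65.k37 @(fun x11 => @Bool.rec.{1} @(fun x12 => ℕ) (nat_lit 0) (@x7 (((@x9,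 @x11)) :: @x8)) (@List.rec.{1, 0} (ℕ × ℕ) @(fun x12 => @Bool) @Bool.true @(fun x12 x13 x14 => @Bool.rec.{1} @(fun x15 => @Bool) @Bool.false @x14 (@Prod.rec.{1, 0, 0} ℕ ℕ @(fun x15 => @Bool) @(fun x15 x16 => @Nat.beq (@Cfsg.Agent.KOac4fa65.k38 @x0 @x11 @x16) (@Cfsg.Agent.KOac4fa65.k38 @x0 @x9 @x15)) @x12)) @x8)) (@Bool.rec.{1} @(fun x11 => @List.{0} ℕ) @x2 @x1 @x10)) @x5) @x4)) ?_); rewrite [← Cfsg.Agent.KOac4fa65.e38, ← Cfsg.Agent.KOac4fa65.e37]; (try delta Cfsg.Agent.N2.Ex.Al.Ck.dfKE Cfsg.Agent.N2.Ex.Al.Ck.lA); (try generalize @Cfsg.Agent.N2.Ex.Al.Ck.lS = g0); (try generalize @Cfsg.Agent.N2.Ex.Al.Ck.gKE = g1); rfl') | exact @Cfsg.Agent.N2.Ex.Al.Ck.dfKE | exact ()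
private theorem _root_.Cfsg.Agent.KOac4fa65.e39 : (by first | exact @Cfsg.Agent.N2.Ex.Al.Ck.dfKE = @_root_.Cfsg.Agent.KOac4fa65.k39 | exact True : Prop) := by first | (delta _root_.Cfsg.Agent.KOac4fa65.k39; exact @Subtype.property _ (fun g => @Cfsg.Agent.N2.Ex.Al.Ck.dfKE = @g) _) | rfl | trivial
private noncomputable def _root_.Cfsg.Agent.KOac4fa65.k40.{ku0} : type_of% @cond.{ku0} := @(fun x0 x1 x2 x3 => @Bool.rec.{ku0} @(fun x4 => @x0) @x3 @x2 @x1)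
private theorem _root_.Cfsg.Agent.KOac4fa65.e40.{ku0} : @cond.{ku0} = @_root_.Cfsg.Agent.KOac4fa65.k40.{ku0} := by delta _root_.Cfsg.Agent.KOac4fa65.k40; rfl'
private noncomputable def _root_.Cfsg.Agent.KOac4fa65.k41 : (by first | exact type_of% @Cfsg.Agent.N2.Ex.Al.Ck.fcKE | exact Unit : Sort _) := by first | (refine @Subtype.val _ (fun g => @Cfsg.Agent.N2.Ex.Al.Ck.fcKE = @g) (@Subtype.mk _ _ (@(fun x0 x1 x2 => @Nat.rec.{1} @(fun x3 => @x0) (@x2 (nat_lit 0)) @(fun x3 x4 => @x2 (@Nat.succ @x3)) @x1)) ?_); rfl') | exact @Cfsg.Agent.N2.Ex.Al.Ck.fcKE | exact ()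
private theorem _root_.Cfsg.Agent.KOac4fa65.e41 : (by first | exact @Cfsg.Agent.N2.Ex.Al.Ck.fcKE = @_root_.Cfsg.Agent.KOac4fa65.k41 | exact True : Prop) := by first | (delta _root_.Cfsg.Agent.KOac4fa65.k41; exact @Subtype.property _ (fun g => @Cfsg.Agent.N2.Ex.Al.Ck.fcKE = @g) _) | rfl | trivial
private noncomputable def _root_.Cfsg.Agent.KOac4fa65.k42 : (by first | exact type_of% @Cfsg.Agent.N2.Ex.Al.Ck.enc | exact Unit : Sort _) := by first | (refine @Subtype.val _ (fun g => @Cfsg.Agent.N2.Ex.Al.Ck.enc = @g) (@Subtype.mk _ _ (@(fun x0 => @List.rec.{1, 0} (ℕ × ℕ) @(fun x1 => ℕ) (nat_lit 0) @(fun x1 x2 x3 => @Nat.add (@Prod.snd.{0, 0} _ _ @x1) (@Nat.mul (nat_lit 256) @x3)) @x0)) ?_); rfl') | exact @Cfsg.Agent.N2.Ex.Al.Ck.enc | exact ()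
private theorem _root_.Cfsg.Agent.KOac4fa65.e42 : (by first | exact @Cfsg.Agent.N2.Ex.Al.Ck.enc = @_root_.Cfsg.Agent.KOac4fa65.k42 | exact True : Prop) := by first | (delta _root_.Cfsg.Agent.KOac4fa65.k42; exact @Subtype.property _ (fun g => @Cfsg.Agent.N2.Ex.Al.Ck.enc = @g) _) | rfl | trivial
private noncomputable def _root_.Cfsg.Agent.KOac4fa65.k43 : (by first | exact type_of% @Cfsg.Agent.N2.Ex.Al.Ck.lfKE | exact Unit : Sort _) := by first | (refine @Subtype.val _ (fun g => @Cfsg.Agent.N2.Ex.Al.Ck.lfKE = @g) (@Subtype.mk _ _ (@(fun x0 x1 x2 x3 x4 x5 x6 => @Cfsg.Agent.KOac4fa65.k41 _ (@Cfsg.Agent.KOac4fa65.k42 @x6) @(fun x7 => @Cfsg.Agent.KOac4fa65.k41 _ (@Nat.mod (@Nat.shiftRight @x5 (@Nat.mul (nat_lit 16) (@Nat.mod (@Nat.shiftRight @x7 @x3) @x4))) (nat_lit 65536)) @(fun x8 => @List.rec.{1, 0} (ℕ ×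 (ℕ × (@List.{0} ℕ))) @(fun x9 => @Bool) @Bool.false @(fun x9 x10 x11 => @Bool.rec.{1} @(fun x12 => @Bool) @x11 @Bool.true (@Prod.rec.{1, 0, 0} ℕ (ℕ × (@List.{0} ℕ)) @(fun x12 => @Bool) @(fun x12 x13 => @Bool.rec.{1} @(fun x14 => @Bool) @Bool.false (@Prod.rec.{1, 0, 0} ℕ (@List.{0} ℕ) @(fun x14 => @Bool) @(fun x14 x15 => @Bool.rec.{1} @(fun x16 => @Bool) @Bool.false (@Bool.rec.{1} @(fun x16 => @Bool) @Bool.false (@Bool.rec.{1} @(fun x16 => @Bool) @Bool.false (@Prod.rec.{1, 0, 0} @Bool (@List.{0} ℕ) @(fun x16 => @Bool) @(fun x16 x17 => @List.rec.{1, 0} (ℕ × ℕ) @(fun x18 => @Bool) @Bool.true @(fun x18 x19 x20 => @Bool.rec.{1} @(fun x21 => @Bool) @Bool.false @x20 (@Prod.rec.{1, 0, 0} ℕ ℕ @(fun x21 => @Bool) @(fun x21 x22 => @Cfsg.Agent.KOac4fa65.k41 _ (@List.rec.{1, 0} ℕ @(fun x23 => ℕ) @x21 @(fun x23 x24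 x25 => @x1 @x23 @x25) @x15) @(fun x23 => @Nat.beq (@Bool.rec.{1} @(fun x24 => ℕ) (@List.rec.{1, 0} ℕ @(fun x24 => ℕ) @x23 @(fun x24 x25 x26 => @x1 @x24 @x26) @x17) (@Cfsg.Agent.KOac4fa65.k34 @x0 (@List.rec.{1, 0} ℕ @(fun x24 => ℕ) @x23 @(fun x24 x25 x26 => @x1 @x24 @x26) @x17)) @x16) (@List.rec.{1, 0} ℕ @(fun x24 => ℕ) @x22 @(fun x24 x25 x26 => @x1 @x24 @x26) @x15))) @x18)) @x6) (@Option.rec.{1, 0} (@Bool × (@List.{0} ℕ)) @(fun x16 => @Bool × (@List.{0} ℕ)) ((@Bool.false, [])) @(fun x16 => @x16) (@Cfsg.Agent.KOac4fa65.k29.{0} _ (@Cfsg.Agent.N2.Ex.Al.Ck.Sv.cl @x2) @x14))) (@Nat.ble (@Nat.succ @x14) (@Cfsg.Agent.KOac4fa65.k6.{0} _ (@Cfsg.Agent.N2.Ex.Al.Ck.Sv.cl @x2)))) (@List.rec.{1, 0} ℕ @(fun x16 => @Bool) @Bool.true @(fun x16 x17 x18 => @Bool.rec.{1} @(fun x19 => @Bool) @Bool.false @x18 (@Bool.rec.{1}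 @(fun x19 => @Bool) @Bool.true @Bool.false (@Cfsg.Agent.KOac4fa65.k0.{1} @Bool (@Nat.land (nat_lit 1) (@Nat.shiftRight (@Cfsg.Agent.N2.Ex.Al.Ck.Sv.m @x2) (@List.rec.{1, 0} ℕ @(fun x19 => ℕ) @x16 @(fun x19 x20 x21 => @x1 @x19 @x21) @x15))) (nat_lit 0) @Bool.false @Bool.true))) (@Cfsg.Agent.N2.Ex.Al.Ck.Sv.Δ @x2))) (@List.rec.{1, 0} ℕ @(fun x16 => @Bool) @Bool.true @(fun x16 x17 x18 => @Bool.rec.{1} @(fun x19 => @Bool) @Bool.false @x18 (@Nat.ble (@Nat.succ @x16) (@Cfsg.Agent.N2.Ex.Al.Ck.Tb.n @x0))) @x15)) @x13) (@Nat.beq @x12 @x7)) @x9)) (@Cfsg.Agent.N2.Ex.Al.Ck.drKE _ @x8 (@Cfsg.Agent.N2.Ex.Al.Ck.Sv.lf @x2)))))) ?_); rewrite [← Cfsg.Agent.KOac4fa65.e0.{1}, ← Cfsg.Agent.KOac4fa65.e6.{0}, ← Cfsg.Agent.KOac4fa65.e29.{0}, ← Cfsg.Agent.KOac4fa65.e34, ← Cfsg.Agent.KOac4fa65.e42, ← Cfsg.Agent.KOac4fa65.e41];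 (try delta Cfsg.Agent.N2.Ex.Al.Ck.lfKE Cfsg.Agent.N2.Ex.Al.Ck.lE Cfsg.Agent.N2.Ex.Al.Ck.Tb.lt Cfsg.Agent.N2.Ex.Al.Ck.lA Cfsg.Agent.N2.Ex.Al.Ck.awKE); (try generalize @Cfsg.Agent.N2.Ex.Al.Ck.fcKE = g0); (try generalize @Cfsg.Agent.N2.Ex.Al.Ck.enc = g1); (try generalize @Cfsg.Agent.N2.Ex.Al.Ck.Tb.ng = g2); (try generalize @Cfsg.Agent.N2.Ex.Al.Ck.drKE = g3); rfl') | exact @Cfsg.Agent.N2.Ex.Al.Ck.lfKE | exact ()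
private theorem _root_.Cfsg.Agent.KOac4fa65.e43 : (by first | exact @Cfsg.Agent.N2.Ex.Al.Ck.lfKE = @_root_.Cfsg.Agent.KOac4fa65.k43 | exact True : Prop) := by first | (delta _root_.Cfsg.Agent.KOac4fa65.k43; exact @Subtype.property _ (fun g => @Cfsg.Agent.N2.Ex.Al.Ck.lfKE = @g) _) | rfl | trivial
private noncomputable def _root_.Cfsg.Agent.KOac4fa65.k44 : (by first | exact type_of% @Cfsg.Agent.N2.Ex.Al.Ck.meKE | exact Unit : Sort _) := by first | (refine @Subtype.val _ (fun g => @Cfsg.Agent.N2.Ex.Al.Ck.meKE = @g) (@Subtype.mk _ _ (@(fun x0 x1 x2 => @Cfsg.Agent.KOac4fa65.k41 _ @x2 @(fun x3 => @Nat.add (@x0 @x1 @x3) (nat_lit 0)))) ?_); rewrite [← Cfsg.Agent.KOac4fa65.e41]; (try delta Cfsg.Agent.N2.Ex.Al.Ck.meKE); (try generalize @Cfsg.Agent.N2.Ex.Al.Ck.fcKE = g0); rfl') | exact @Cfsg.Agent.N2.Ex.Al.Ck.meKE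 | exact ()
private theorem _root_.Cfsg.Agent.KOac4fa65.e44 : (by first | exact @Cfsg.Agent.N2.Ex.Al.Ck.meKE = @_root_.Cfsg.Agent.KOac4fa65.k44 | exact True : Prop) := by first | (delta _root_.Cfsg.Agent.KOac4fa65.k44; exact @Subtype.property _ (fun g => @Cfsg.Agent.N2.Ex.Al.Ck.meKE = @g) _) | rfl | trivial

theorem svdE8_21 : tbE8.svd svE8_21 = true :=
  svd_of_KE tbE8 svE8_21 64 257 0xa8022801680150021001f80000000000000000000000000000000000000000000003a800000000000000000000000000000000031800000000000005100000000000000000000004380000042000000000040803f0000003c000000000000004f80000000000000000000000000000000000000000000000000000000002e8000002d00000000002b802a000000000000000000000052800000000000000000000039000000378000000000360034800000000000000000000000000000000000000000000000000000000000000000000000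000000000000000000000000004e0000004c80000000004b00498000000000000000000000000000000000000000000000000000000000000000000000000009001380000000001e000000288000000000000000000000000000000000000000000000000000000000000000000000000000000000000000000000000006001080000000001b00000025800000000000000000000048000000000000000000000004800f00000000001980000024000000000000000000000000000000000000000000000000000000000033000000000000004680000007801200000000001c8000002700000000000000000000003d8000000000000045000000000000000000000000000000000030000000000000000000000000000000000000000000000003000d8001800c0018000000000 (by (first | (rewrite [Cfsg.Agent.KOac4fa65.e39, Cfsg.Agent.KOac4fa65.e40.{1}, Cfsg.Agent.KOac4fa65.e43, Cfsg.Agent.KOac4fa65.e44, Cfsg.Agent.KOac4fa65.e32]; decide +kernel) | decide +kernel))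

theorem svcE8_21 : aL (tbE8.svc 8 svE8_21 ivE8_21 ceE8_21) 11 = true := by decide +kernel

theorem goodE8_21 {M : CoxeterMatrix (Fin 8)} (hp : IsType chevE8 8 M) : Good hp tbE8 883423532800569873397395799593491270714318654428720779203080545590313043 :=
  (gsE8 hp).good_sv (fun h => absurd h (by decide)) svsE8_21 svdE8_21 (aL_iff.1 svcE8_21)

/-- A2A2A2A2 -/
def svE8_35 : Sv where
  m := 1325135298583788645636313750688298089086721863169272782665841283059159479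
  Δ := [0, 1, 2, 4, 5, 7, 118, 62]
  dm := [8, 12, 37, 56, 68, 77, 89, 100, 108, 114, 117, 119]
  s := 24
  sq := (beta% delta% lq26b895f9ecd2 fun vqc0 vqc1 vqc2 vqc3 vqc4 _ _ _ _ _ _ _ _ =>
      (vqc0 (vqc2 0 vqc3) (vqc0 (vqc2 2 vqc3) (vqc0 (vqc2 37 vqc4) (vqc0 (vqc2 119 vqc4) (vqc0 (vqc2 56 vqc4) (vqc0 (vqc2 1 vqc3) (vqc0 (vqc2 4 vqc3) (vqc0 (vqc2 5 vqc3) (vqc0 (vqc2 62 vqc3) (vqc0 (vqc2 77 vqc4) vqc1)))))))))))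
  co := (beta% delta% lq26b895f9ecd2 fun vqc0 vqc1 _ _ _ _ _ _ _ _ _ _ _ =>
      (vqc0 (vqc0 1 (vqc0 0 (vqc0 0 (vqc0 0 (vqc0 0 (vqc0 0 (vqc0 0 (vqc0 0 (vqc0 0 (vqc0 0 vqc1)))))))))) (vqc0 (vqc0 0 (vqc0 0 (vqc0 0 (vqc0 0 (vqc0 0 (vqc0 1 (vqc0 0 (vqc0 0 (vqc0 0 (vqc0 0 vqc1)))))))))) (vqc0 (vqc0 0 (vqc0 1 (vqc0 0 (vqc0 0 (vqc0 0 (vqc0 0 (vqc0 0 (vqc0 0 (vqc0 0 (vqc0 0 vqc1)))))))))) (vqc0 (vqc0 0 (vqc0 (-1) (vqc0 (-1) (vqc0 0 (vqc0 1 (vqc0 0 (vqc0 (-1) (vqc0 0 (vqc0 0 (vqc0 0 vqc1)))))))))) (vqc0 (vqc0 0 (vqc0 0 (vqc0 0 (vqc0 0 (vqc0 0 (vqc0 0 (vqc0 1 (vqc0 0 (vqc0 0 (vqc0 0 vqc1)))))))))) (vqc0 (vqc0 (-1) (vqc0 0 (vqc0 2 (vqc0 0 (vqc0 (-1) (vqc0 (-1) (vqc0 0 (vqc0 0 (vqc0 0 (vqc0 0 vqc1)))))))))) (vqc0 (vqc0 0 (vqc0 2 (vqc0 2 (vqc0 1 (vqc0 (-2) (vqc0 (-1) (vqc0 1 (vqc0 0 (vqc0 0 (vqc0 (-2) vqc1))))))))))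 (vqc0 (vqc0 1 (vqc0 (-2) (vqc0 (-4) (vqc0 (-1) (vqc0 2 (vqc0 2 (vqc0 (-1) (vqc0 0 (vqc0 0 (vqc0 3 vqc1)))))))))) vqc1)))))))))
  ω := 48
  cl := (beta% delta% lq26b895f9ecd2 fun vqc0 vqc1 vqc2 _ vqc4 _ _ _ _ _ _ _ _ =>
      (vqc0 (vqc2 vqc4 vqc1) (vqc0 (vqc2 vqc4 (vqc0 62 (vqc0 95 (vqc0 74 (vqc0 76 (vqc0 88 (vqc0 70 (vqc0 11 (vqc0 9 vqc1))))))))) (vqc0 (vqc2 vqc4 (vqc0 20 (vqc0 88 (vqc0 57 (vqc0 19 (vqc0 17 vqc1)))))) (vqc0 (vqc2 vqc4 (vqc0 4 (vqc0 103 (vqc0 54 (vqc0 7 (vqc0 96 (vqc0 20 (vqc0 8 (vqc0 0 (vqc0 16 (vqc0 15 vqc1))))))))))) (vqc0 (vqc2 vqc4 (vqc0 0 (vqc0 72 (vqc0 60 (vqc0 98 (vqc0 31 (vqc0 47 (vqc0 44 (vqc0 16 (vqc0 15 vqc1)))))))))) (vqc0 (vqc2 vqc4 (vqc0 2 (vqc0 107 (vqc0 104 (vqc0 101 (vqc0 73 (vqc0 47 (vqc0 55 (vqc0 52 (vqc0 16 (vqc0 15 vqc1))))))))))) (vqc0 (vqc2 vqc4 (vqc0 12 (vqc0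 4 (vqc0 71 (vqc0 72 (vqc0 0 (vqc0 100 (vqc0 47 (vqc0 107 (vqc0 48 (vqc0 16 (vqc0 15 vqc1)))))))))))) (vqc0 (vqc2 vqc4 (vqc0 84 (vqc0 79 (vqc0 74 (vqc0 48 (vqc0 38 (vqc0 22 (vqc0 68 (vqc0 1 (vqc0 8 (vqc0 0 vqc1))))))))))) vqc1)))))))))
  lf := (beta% delta% lq26b895f9ecd2 fun vqc0 vqc1 vqc2 _ _ vqc5 _ _ _ _ _ _ _ =>
      (let vqy1 : type_of% (vqc5 _) := (let vqy2 : type_of% (vqc5 _) := (let vqy3 : type_of% (vqc5 _) := (vqc0 (vqc2 292809237443470669643865 (vqc2 2 (vqc0 93 (vqc0 92 (vqc0 73 (vqc0 43 (vqc0 62 (vqc0 25 (vqc0 18 (vqc0 15 vqc1))))))))))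
      (vqc0 (vqc2 292809237443479175562610 (vqc2 5 (vqc0 80 (vqc0 79 (vqc0 87 (vqc0 68 (vqc0 1 vqc1)))))))
      (vqc0 (vqc2 292812377944441531859545 (vqc2 3 (vqc0 80 (vqc0 79 (vqc0 87 (vqc0 68 (vqc0 1 vqc1)))))))
      (vqc0 (vqc2 292812377944469650044453 (vqc2 4 (vqc0 39 (vqc0 36 (vqc0 16 (vqc0 15 vqc1))))))
      (vqc0 (vqc2 292813601770172098937970 (vqc2 6 (vqc0 80 (vqc0 79 (vqc0 87 (vqc0 68 (vqc0 1 vqc1)))))))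
      (vqc0 (vqc2 292813601770657372505893 (vqc2 1 (vqc0 39 (vqc0 36 (vqc0 16 (vqc0 15 vqc1)))))) vqc1))))));
      (vqc0 (vqc2 557376173632251094106713 (vqc2 5 (vqc0 57 (vqc0 88 (vqc0 20 (vqc0 16 (vqc0 15 vqc1)))))))
      (vqc0 (vqc2 557376173632268223382884 (vqc2 6 (vqc0 39 (vqc0 36 (vqc0 16 (vqc0 15 vqc1))))))
      (vqc0 (vqc2 557376590240509604281933 (vqc2 1 (vqc0 109 (vqc0 78 (vqc0 42 (vqc0 38 vqc1))))))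
      (vqc0 (vqc2 557376590240514939355225 (vqc2 4 (vqc0 19 (vqc0 18 (vqc0 15 vqc1)))))
      (vqc0 (vqc2 557376805275314383881316 (vqc2 3 (vqc0 73 (vqc0 46 (vqc0 45 (vqc0 8 (vqc0 0 vqc1)))))))
      (vqc0 (vqc2 557376805275559243612493 (vqc2 2 (vqc0 83 (vqc0 78 (vqc0 73 (vqc0 87 (vqc0 81 (vqc0 35 (vqc0 26 (vqc0 23 vqc1))))))))))
      vqy3)))))));
      (let vqy4 : type_of% vqy2 := (vqc0 (vqc2 35238848874580493533301 (vqc2 1 (vqc0 19 (vqc0 18 (vqc0 15 vqc1)))))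
      (vqc0 (vqc2 35238848874593311130738 (vqc2 4 (vqc0 35 (vqc0 62 (vqc0 41 (vqc0 111 (vqc0 34 vqc1)))))))
      (vqc0 (vqc2 35239696687101672439404 (vqc2 2 (vqc0 1 (vqc0 83 (vqc0 41 (vqc0 74 (vqc0 70 (vqc0 31 (vqc0 2 (vqc0 18 (vqc0 15 vqc1)))))))))))
      (vqc0 (vqc2 35239696687115513431410 (vqc2 3 (vqc0 19 (vqc0 18 (vqc0 15 vqc1)))))
      (vqc0 (vqc2 35240490443233103315573 (vqc2 6 (vqc0 57 (vqc0 88 (vqc0 20 (vqc0 16 (vqc0 15 vqc1)))))))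
      (vqc0 (vqc2 35240490443499404001644 (vqc2 5 (vqc0 39 (vqc0 36 (vqc0 16 (vqc0 15 vqc1))))))
      vqy2))))));
      (vqc0 (vqc2 23688319078718387585625 (vqc2 1 (vqc0 93 (vqc0 92 (vqc0 73 (vqc0 43 (vqc0 62 (vqc0 25 (vqc0 18 (vqc0 15 vqc1))))))))))
      (vqc0 (vqc2 23688319078721675869804 (vqc2 2 (vqc0 57 (vqc0 88 (vqc0 20 (vqc0 16 (vqc0 15 vqc1)))))))
      (vqc0 (vqc2 23691187084440226955353 (vqc2 6 (vqc0 20 (vqc0 88 (vqc0 57 (vqc0 19 (vqc0 17 vqc1)))))))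
      (vqc0 (vqc2 23691187084459721782840 (vqc2 3 (vqc0 109 (vqc0 78 (vqc0 42 (vqc0 38 vqc1))))))
      (vqc0 (vqc2 23694052479308677383992 (vqc2 4 (vqc0 20 (vqc0 88 (vqc0 57 (vqc0 19 (vqc0 17 vqc1)))))))
      (vqc0 (vqc2 23694052479068263547244 (vqc2 5 (vqc0 20 (vqc0 88 (vqc0 57 (vqc0 19 (vqc0 17 vqc1)))))))
      vqy4))))))));
      (let vqy5 : type_of% vqy1 := (let vqy6 : type_of% vqy1 := (vqc0 (vqc2 18985768413326022148213 (vqc2 5 (vqc0 90 (vqc0 91 (vqc0 98 (vqc0 43 (vqc0 35 (vqc0 33 vqc1))))))))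
      (vqc0 (vqc2 18985768413583699476813 (vqc2 2 (vqc0 8 (vqc0 64 (vqc0 89 (vqc0 22 (vqc0 108 (vqc0 27 (vqc0 47 (vqc0 10 vqc1))))))))))
      (vqc0 (vqc2 18988115158165453487693 (vqc2 1 (vqc0 57 (vqc0 88 (vqc0 20 (vqc0 16 (vqc0 15 vqc1)))))))
      (vqc0 (vqc2 18988115158190283388453 (vqc2 6 (vqc0 19 (vqc0 18 (vqc0 15 vqc1)))))
      (vqc0 (vqc2 18989501096964161667701 (vqc2 4 (vqc0 57 (vqc0 88 (vqc0 20 (vqc0 16 (vqc0 15 vqc1)))))))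
      (vqc0 (vqc2 18989501097470876190501 (vqc2 3 (vqc0 39 (vqc0 36 (vqc0 16 (vqc0 15 vqc1))))))
      vqy1))))));
      (vqc0 (vqc2 9448801727226773898596 (vqc2 2 (vqc0 35 (vqc0 62 (vqc0 41 (vqc0 111 (vqc0 34 vqc1)))))))
      (vqc0 (vqc2 9448801727475945308524 (vqc2 7 vqc1))
      (vqc0 (vqc2 9450300659549338010724 (vqc2 5 (vqc0 38 (vqc0 74 (vqc0 60 (vqc0 36 (vqc0 18 (vqc0 15 vqc1))))))))
      (vqc0 (vqc2 9450300659556015240741 (vqc2 2 (vqc0 16 (vqc0 15 (vqc0 90 (vqc0 91 (vqc0 19 (vqc0 42 (vqc0 38 vqc1)))))))))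
      (vqc0 (vqc2 9452951019114917674604 (vqc2 2 (vqc0 109 (vqc0 78 (vqc0 42 (vqc0 38 vqc1))))))
      (vqc0 (vqc2 9452951019618343913253 (vqc2 5 (vqc0 19 (vqc0 18 (vqc0 15 vqc1)))))
      vqy6)))))));
      (let vqy7 : type_of% vqy5 := (vqc0 (vqc2 5868764303513987908213 (vqc2 2 (vqc0 19 (vqc0 18 (vqc0 15 vqc1)))))
      (vqc0 (vqc2 5868764303535428863076 (vqc2 1 (vqc0 35 (vqc0 62 (vqc0 41 (vqc0 111 (vqc0 34 vqc1)))))))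
      (vqc0 (vqc2 5872480121770847176036 (vqc2 4 vqc1))
      (vqc0 (vqc2 5872480121781836084792 (vqc2 5 vqc1))
      (vqc0 (vqc2 5874282668819559612533 (vqc2 3 vqc1))
      (vqc0 (vqc2 5874282669317650777912 (vqc2 6 vqc1))
      vqy5))))));
      (vqc0 (vqc2 39593176226064580173 (vqc2 0 vqc1))
      (vqc0 (vqc2 39593176244217250930 (vqc2 2 vqc1))
      (vqc0 (vqc2 44102750625343632952 (vqc2 1 (vqc0 20 (vqc0 88 (vqc0 57 (vqc0 19 (vqc0 17 vqc1)))))))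
      (vqc0 (vqc2 44102750863526134093 (vqc2 2 (vqc0 73 (vqc0 46 (vqc0 45 (vqc0 8 (vqc0 0 vqc1)))))))
      (vqc0 (vqc2 44694933281632028018 (vqc2 1 vqc1))
      (vqc0 (vqc2 44694933771217274680 (vqc2 2 (vqc0 80 (vqc0 79 (vqc0 87 (vqc0 68 (vqc0 1 vqc1)))))))
      vqy7))))))))))
  q₁ := 5
  k₁ := 60
  ev := false
  lg := (0, [], 0)

/-- inverted roots -/
def ivE8_35 : List (ℕ × List ℕ × ℕ) := []

/-- the certificates -/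
def ceE8_35 : List (List (ℕ × Ce)) := (beta% delta% lq26b895f9ecd2 fun vqc0 vqc1 vqc2 _ _ _ vqc6 _ vqc8 _ _ _ vqc12 =>
    (vqc0 (vqc0 (vqc2 2 (vqc6 399863283907200847198 (vqc0 118 (vqc0 1 (vqc0 62 (vqc0 8 (vqc0 12 (vqc0 0 (vqc0 118 (vqc0 12 vqc1)))))))) 0 vqc1 (vqc8 (vqc12 7 (vqc0 5 (vqc0 2 (vqc0 3 (vqc0 4 (vqc0 0 (vqc0 0 (vqc0 6 (vqc0 0 vqc1)))))))) (vqc0 5 (vqc0 2 (vqc0 3 (vqc0 4 (vqc0 0 (vqc0 0 (vqc0 6 (vqc0 0 vqc1)))))))) (vqc0 0 (vqc0 0 (vqc0 0 (vqc0 0 (vqc0 0 (vqc0 0 (vqc0 0 (vqc0 0 vqc1)))))))) vqc1 0 0 vqc1))))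
    (vqc0 (vqc2 3 (vqc6 2767409450624016248341213122466413 (vqc0 1 (vqc0 68 (vqc0 4 (vqc0 5 vqc1)))) 0 vqc1 (vqc8 (vqc12 26 (vqc0 13 (vqc0 24 (vqc0 13 (vqc0 25 (vqc0 0 (vqc0 0 (vqc0 17 (vqc0 0 vqc1)))))))) (vqc0 13 (vqc0 24 (vqc0 13 (vqc0 25 (vqc0 0 (vqc0 0 (vqc0 17 (vqc0 0 vqc1)))))))) (vqc0 0 (vqc0 0 (vqc0 0 (vqc0 0 (vqc0 0 (vqc0 0 (vqc0 0 (vqc0 0 vqc1)))))))) vqc1 0 0 vqc1))))
    (vqc0 (vqc2 4 (vqc6 3312331559130207610237152577852539588986472 (vqc0 4 (vqc0 2 (vqc0 4 (vqc0 5 (vqc0 119 vqc1))))) 0 vqc1 (vqc8 (vqc12 15 (vqc0 3 (vqc0 0 (vqc0 9 (vqc0 8 (vqc0 12 (vqc0 6 (vqc0 2 (vqc0 3 vqc1)))))))) (vqc0 3 (vqc0 0 (vqc0 9 (vqc0 8 (vqc0 12 (vqc0 6 (vqc0 2 (vqc0 3 vqc1)))))))) (vqc0 0 (vqc0 0 (vqc0 0 (vqc0 0 (vqc0 0 (vqc0 0 (vqc0 0 (vqc0 0 vqc1)))))))) vqc1 0 0 vqc1)))) vqc1)))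
    (vqc0 (vqc0 (vqc2 2 (vqc6 399863283907200847198 (vqc0 118 (vqc0 119 (vqc0 1 (vqc0 119 (vqc0 7 (vqc0 1 (vqc0 68 (vqc0 7 vqc1)))))))) 0 vqc1 (vqc8 (vqc12 73 (vqc0 0 (vqc0 21 (vqc0 0 (vqc0 28 (vqc0 42 (vqc0 60 (vqc0 30 (vqc0 58 vqc1)))))))) (vqc0 0 (vqc0 21 (vqc0 0 (vqc0 28 (vqc0 42 (vqc0 60 (vqc0 30 (vqc0 58 vqc1)))))))) (vqc0 0 (vqc0 0 (vqc0 0 (vqc0 0 (vqc0 0 (vqc0 0 (vqc0 0 (vqc0 0 vqc1)))))))) vqc1 0 0 vqc1))))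
    (vqc0 (vqc2 3 (vqc6 2767409450624016248341213122466413 vqc1 0 vqc1 (vqc8 (vqc12 26 (vqc0 13 (vqc0 18 (vqc0 13 (vqc0 9 (vqc0 2 (vqc0 24 (vqc0 20 (vqc0 6 vqc1)))))))) (vqc0 13 (vqc0 18 (vqc0 13 (vqc0 9 (vqc0 2 (vqc0 24 (vqc0 20 (vqc0 6 vqc1)))))))) (vqc0 0 (vqc0 0 (vqc0 0 (vqc0 0 (vqc0 0 (vqc0 0 (vqc0 0 (vqc0 0 vqc1)))))))) vqc1 0 0 vqc1))))
    (vqc0 (vqc2 4 (vqc6 3312331559130207610237152577852539588986472 vqc1 0 vqc1 (vqc8 (vqc12 9 (vqc0 0 (vqc0 3 (vqc0 3 (vqc0 1 (vqc0 3 (vqc0 0 (vqc0 3 (vqc0 3 vqc1)))))))) (vqc0 0 (vqc0 3 (vqc0 3 (vqc0 1 (vqc0 3 (vqc0 0 (vqc0 3 (vqc0 3 vqc1)))))))) (vqc0 0 (vqc0 0 (vqc0 0 (vqc0 0 (vqc0 0 (vqc0 0 (vqc0 0 (vqc0 0 vqc1)))))))) vqc1 0 0 vqc1)))) vqc1)))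
    (vqc0 (vqc0 (vqc2 2 (vqc6 399863283907200847198 (vqc0 5 (vqc0 4 vqc1)) 0 vqc1 (vqc8 (vqc12 7 (vqc0 0 (vqc0 1 (vqc0 0 (vqc0 3 (vqc0 2 (vqc0 4 (vqc0 3 (vqc0 0 vqc1)))))))) (vqc0 0 (vqc0 1 (vqc0 0 (vqc0 3 (vqc0 2 (vqc0 4 (vqc0 3 (vqc0 0 vqc1)))))))) (vqc0 0 (vqc0 0 (vqc0 0 (vqc0 0 (vqc0 0 (vqc0 0 (vqc0 0 (vqc0 0 vqc1)))))))) vqc1 0 0 vqc1))))
    (vqc0 (vqc2 3 (vqc6 2767409450624016248341213122466413 (vqc0 119 (vqc0 8 (vqc0 2 (vqc0 62 (vqc0 62 (vqc0 5 (vqc0 12 (vqc0 8 (vqc0 62 vqc1))))))))) 0 vqc1 (vqc8 (vqc12 4 (vqc0 0 (vqc0 0 (vqc0 2 (vqc0 0 (vqc0 1 (vqc0 3 (vqc0 1 (vqc0 0 vqc1)))))))) (vqc0 0 (vqc0 0 (vqc0 2 (vqc0 0 (vqc0 1 (vqc0 3 (vqc0 1 (vqc0 0 vqc1)))))))) (vqc0 0 (vqc0 0 (vqc0 0 (vqc0 0 (vqc0 0 (vqc0 0 (vqc0 0 (vqc0 0 vqc1)))))))) vqc1 0 0 vqc1))))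
    (vqc0 (vqc2 4 (vqc6 3312331559130207610237152577852539588986472 (vqc0 8 (vqc0 4 (vqc0 7 (vqc0 7 (vqc0 0 (vqc0 118 (vqc0 118 (vqc0 12 vqc1)))))))) 0 vqc1 (vqc8 (vqc12 455 (vqc0 0 (vqc0 30 (vqc0 0 (vqc0 295 (vqc0 120 (vqc0 235 (vqc0 171 (vqc0 91 vqc1)))))))) (vqc0 0 (vqc0 30 (vqc0 0 (vqc0 295 (vqc0 120 (vqc0 235 (vqc0 171 (vqc0 91 vqc1)))))))) (vqc0 0 (vqc0 0 (vqc0 0 (vqc0 0 (vqc0 0 (vqc0 0 (vqc0 0 (vqc0 0 vqc1)))))))) vqc1 0 0 vqc1)))) vqc1)))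
    (vqc0 (vqc0 (vqc2 2 (vqc6 399863283907200847198 (vqc0 62 (vqc0 4 (vqc0 8 (vqc0 68 (vqc0 62 vqc1))))) 0 vqc1 (vqc8 (vqc12 65 (vqc0 0 (vqc0 0 (vqc0 26 (vqc0 40 (vqc0 15 (vqc0 45 (vqc0 37 (vqc0 30 vqc1)))))))) (vqc0 0 (vqc0 0 (vqc0 26 (vqc0 40 (vqc0 15 (vqc0 45 (vqc0 37 (vqc0 30 vqc1)))))))) (vqc0 0 (vqc0 0 (vqc0 0 (vqc0 0 (vqc0 0 (vqc0 0 (vqc0 0 (vqc0 0 vqc1)))))))) vqc1 0 0 vqc1))))
    (vqc0 (vqc2 3 (vqc6 2767409450624016248341213122466413 (vqc0 5 vqc1) 0 vqc1 (vqc8 (vqc12 146 (vqc0 73 (vqc0 73 (vqc0 73 (vqc0 127 (vqc0 44 (vqc0 42 (vqc0 77 (vqc0 132 vqc1)))))))) (vqc0 73 (vqc0 73 (vqc0 73 (vqc0 127 (vqc0 44 (vqc0 42 (vqc0 77 (vqc0 132 vqc1)))))))) (vqc0 0 (vqc0 0 (vqc0 0 (vqc0 0 (vqc0 0 (vqc0 0 (vqc0 0 (vqc0 0 vqc1)))))))) vqc1 0 0 vqc1))))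
    (vqc0 (vqc2 4 (vqc6 3312331559130207610237152577852539588986472 (vqc0 8 (vqc0 8 vqc1)) 0 vqc1 (vqc8 (vqc12 85 (vqc0 81 (vqc0 69 (vqc0 21 (vqc0 44 (vqc0 15 (vqc0 70 (vqc0 56 (vqc0 60 vqc1)))))))) (vqc0 81 (vqc0 69 (vqc0 21 (vqc0 44 (vqc0 15 (vqc0 70 (vqc0 56 (vqc0 60 vqc1)))))))) (vqc0 0 (vqc0 0 (vqc0 0 (vqc0 0 (vqc0 0 (vqc0 0 (vqc0 0 (vqc0 0 vqc1)))))))) vqc1 0 0 vqc1)))) vqc1)))
    (vqc0 (vqc0 (vqc2 2 (vqc6 399863283907200847198 (vqc0 5 (vqc0 7 (vqc0 68 (vqc0 4 (vqc0 4 vqc1))))) 0 vqc1 (vqc8 (vqc12 17 (vqc0 4 (vqc0 15 (vqc0 1 (vqc0 4 (vqc0 14 (vqc0 16 (vqc0 10 (vqc0 2 vqc1)))))))) (vqc0 4 (vqc0 15 (vqc0 1 (vqc0 4 (vqc0 14 (vqc0 16 (vqc0 10 (vqc0 2 vqc1)))))))) (vqc0 0 (vqc0 0 (vqc0 0 (vqc0 0 (vqc0 0 (vqc0 0 (vqc0 0 (vqc0 0 vqc1)))))))) vqc1 0 0 vqc1))))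
    (vqc0 (vqc2 3 (vqc6 2767409450624016248341213122466413 (vqc0 2 (vqc0 1 (vqc0 118 (vqc0 12 (vqc0 62 vqc1))))) 0 vqc1 (vqc8 (vqc12 6481 (vqc0 3121 (vqc0 3725 (vqc0 6439 (vqc0 3875 (vqc0 4316 (vqc0 1787 (vqc0 3231 (vqc0 5347 vqc1)))))))) (vqc0 3121 (vqc0 3725 (vqc0 6439 (vqc0 3875 (vqc0 4316 (vqc0 1787 (vqc0 3231 (vqc0 5347 vqc1)))))))) (vqc0 0 (vqc0 0 (vqc0 0 (vqc0 0 (vqc0 0 (vqc0 0 (vqc0 0 (vqc0 0 vqc1)))))))) vqc1 0 0 vqc1))))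
    (vqc0 (vqc2 4 (vqc6 3312331559130207610237152577852539588986472 vqc1 0 vqc1 (vqc8 (vqc12 1285 (vqc0 453 (vqc0 527 (vqc0 318 (vqc0 639 (vqc0 823 (vqc0 1233 (vqc0 760 (vqc0 1077 vqc1)))))))) (vqc0 453 (vqc0 527 (vqc0 318 (vqc0 639 (vqc0 823 (vqc0 1233 (vqc0 760 (vqc0 1077 vqc1)))))))) (vqc0 0 (vqc0 0 (vqc0 0 (vqc0 0 (vqc0 0 (vqc0 0 (vqc0 0 (vqc0 0 vqc1)))))))) vqc1 0 0 vqc1)))) vqc1)))
    (vqc0 (vqc0 (vqc2 2 (vqc6 399863283907200847198 (vqc0 62 (vqc0 68 (vqc0 119 (vqc0 68 vqc1)))) 0 vqc1 (vqc8 (vqc12 63 (vqc0 30 (vqc0 24 (vqc0 45 (vqc0 55 (vqc0 42 (vqc0 21 (vqc0 11 (vqc0 54 vqc1)))))))) (vqc0 30 (vqc0 24 (vqc0 45 (vqc0 55 (vqc0 42 (vqc0 21 (vqc0 11 (vqc0 54 vqc1)))))))) (vqc0 0 (vqc0 0 (vqc0 0 (vqc0 0 (vqc0 0 (vqc0 0 (vqc0 0 (vqc0 0 vqc1)))))))) vqc1 0 0 vqc1))))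
    (vqc0 (vqc2 3 (vqc6 2767409450624016248341213122466413 (vqc0 5 (vqc0 68 vqc1)) 0 vqc1 (vqc8 (vqc12 28 (vqc0 11 (vqc0 11 (vqc0 15 (vqc0 1 (vqc0 4 (vqc0 16 (vqc0 9 (vqc0 5 vqc1)))))))) (vqc0 11 (vqc0 11 (vqc0 15 (vqc0 1 (vqc0 4 (vqc0 16 (vqc0 9 (vqc0 5 vqc1)))))))) (vqc0 0 (vqc0 0 (vqc0 0 (vqc0 0 (vqc0 0 (vqc0 0 (vqc0 0 (vqc0 0 vqc1)))))))) vqc1 0 0 vqc1))))
    (vqc0 (vqc2 4 (vqc6 3312331559130207610237152577852539588986472 (vqc0 8 (vqc0 2 (vqc0 12 (vqc0 5 (vqc0 62 (vqc0 5 (vqc0 62 (vqc0 68 (vqc0 8 vqc1))))))))) 0 vqc1 (vqc8 (vqc12 4095 (vqc0 3770 (vqc0 2941 (vqc0 2336 (vqc0 2918 (vqc0 0 (vqc0 1638 (vqc0 1698 (vqc0 3574 vqc1)))))))) (vqc0 3770 (vqc0 2941 (vqc0 2336 (vqc0 2918 (vqc0 0 (vqc0 1638 (vqc0 1698 (vqc0 3574 vqc1)))))))) (vqc0 0 (vqc0 0 (vqc0 0 (vqc0 0 (vqc0 0 (vqc0 0 (vqc0 0 (vqc0 0 vqc1))))))))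 vqc1 0 0 vqc1)))) vqc1)))
    (vqc0 (vqc0 (vqc2 2 (vqc6 399863283907200847198 (vqc0 4 (vqc0 7 (vqc0 68 (vqc0 0 vqc1)))) 0 vqc1 (vqc8 (vqc12 15 (vqc0 2 (vqc0 2 (vqc0 14 (vqc0 6 (vqc0 14 (vqc0 8 (vqc0 13 (vqc0 8 vqc1)))))))) (vqc0 2 (vqc0 2 (vqc0 14 (vqc0 6 (vqc0 14 (vqc0 8 (vqc0 13 (vqc0 8 vqc1)))))))) (vqc0 0 (vqc0 0 (vqc0 0 (vqc0 0 (vqc0 0 (vqc0 0 (vqc0 0 (vqc0 0 vqc1)))))))) vqc1 0 0 vqc1))))
    (vqc0 (vqc2 3 (vqc6 2767409450624016248341213122466413 (vqc0 8 (vqc0 1 (vqc0 1 (vqc0 0 (vqc0 62 (vqc0 118 (vqc0 0 vqc1))))))) 0 vqc1 (vqc8 (vqc12 6481 (vqc0 683 (vqc0 4586 (vqc0 3006 (vqc0 3339 (vqc0 5479 (vqc0 4093 (vqc0 4095 (vqc0 6147 vqc1)))))))) (vqc0 683 (vqc0 4586 (vqc0 3006 (vqc0 3339 (vqc0 5479 (vqc0 4093 (vqc0 4095 (vqc0 6147 vqc1)))))))) (vqc0 0 (vqc0 0 (vqc0 0 (vqc0 0 (vqc0 0 (vqc0 0 (vqc0 0 (vqc0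 0 vqc1)))))))) vqc1 0 0 vqc1))))
    (vqc0 (vqc2 4 (vqc6 3312331559130207610237152577852539588986472 (vqc0 4 (vqc0 1 (vqc0 4 (vqc0 0 (vqc0 62 (vqc0 12 (vqc0 4 (vqc0 62 (vqc0 68 (vqc0 12 vqc1)))))))))) 0 vqc1 (vqc8 (vqc12 21845 (vqc0 3084 (vqc0 18737 (vqc0 21068 (vqc0 3233 (vqc0 21074 (vqc0 6038 (vqc0 4298 (vqc0 6778 vqc1)))))))) (vqc0 3084 (vqc0 18737 (vqc0 21068 (vqc0 3233 (vqc0 21074 (vqc0 6038 (vqc0 4298 (vqc0 6778 vqc1)))))))) (vqc0 0 (vqc0 0 (vqc0 0 (vqc0 0 (vqc0 0 (vqc0 0 (vqc0 0 (vqc0 0 vqc1)))))))) vqc1 0 0 vqc1)))) vqc1)))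
    (vqc0 (vqc0 (vqc2 2 (vqc6 399863283907200847198 (vqc0 5 (vqc0 119 (vqc0 119 (vqc0 2 (vqc0 7 vqc1))))) 0 vqc1 (vqc8 (vqc12 9 (vqc0 3 (vqc0 3 (vqc0 3 (vqc0 1 (vqc0 0 (vqc0 0 (vqc0 4 (vqc0 6 vqc1)))))))) (vqc0 3 (vqc0 3 (vqc0 3 (vqc0 1 (vqc0 0 (vqc0 0 (vqc0 4 (vqc0 6 vqc1)))))))) (vqc0 0 (vqc0 0 (vqc0 0 (vqc0 0 (vqc0 0 (vqc0 0 (vqc0 0 (vqc0 0 vqc1)))))))) vqc1 0 0 vqc1))))
    (vqc0 (vqc2 3 (vqc6 2767409450624016248341213122466413 (vqc0 12 (vqc0 8 (vqc0 119 (vqc0 1 (vqc0 5 (vqc0 2 (vqc0 1 (vqc0 7 vqc1)))))))) 0 vqc1 (vqc8 (vqc12 8 (vqc0 0 (vqc0 3 (vqc0 6 (vqc0 2 (vqc0 0 (vqc0 4 (vqc0 7 (vqc0 6 vqc1)))))))) (vqc0 0 (vqc0 3 (vqc0 6 (vqc0 2 (vqc0 0 (vqc0 4 (vqc0 7 (vqc0 6 vqc1)))))))) (vqc0 0 (vqc0 0 (vqc0 0 (vqc0 0 (vqc0 0 (vqc0 0 (vqc0 0 (vqc0 0 vqc1)))))))) vqc1 0 0 vqc1))))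
    (vqc0 (vqc2 4 (vqc6 3312331559130207610237152577852539588986472 (vqc0 1 (vqc0 118 (vqc0 119 (vqc0 8 (vqc0 118 (vqc0 1 (vqc0 62 (vqc0 5 (vqc0 4 vqc1))))))))) 0 vqc1 (vqc8 (vqc12 13 (vqc0 0 (vqc0 3 (vqc0 0 (vqc0 8 (vqc0 0 (vqc0 0 (vqc0 10 (vqc0 11 vqc1)))))))) (vqc0 0 (vqc0 3 (vqc0 0 (vqc0 8 (vqc0 0 (vqc0 0 (vqc0 10 (vqc0 11 vqc1)))))))) (vqc0 0 (vqc0 0 (vqc0 0 (vqc0 0 (vqc0 0 (vqc0 0 (vqc0 0 (vqc0 0 vqc1)))))))) vqc1 0 0 vqc1)))) vqc1))) vqc1)))))))))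

theorem svsE8_35 : tbE8.svs 8 svE8_35 = true := by decide +kernel

theorem svdE8_35 : tbE8.svd svE8_35 = true := by decide +kernel

theorem svcE8_35 : aL (tbE8.svc 8 svE8_35 ivE8_35 ceE8_35) 8 = true := by decide +kernel

theorem goodE8_35 {M : CoxeterMatrix (Fin 8)} (hp : IsType chevE8 8 M) : Good hp tbE8 1325135298583788645636313750688298089086721863169272782665841283059159479 :=
  (gsE8 hp).good_sv (fun h => absurd h (by decide)) svsE8_35 svdE8_35 (aL_iff.1 svcE8_35)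

/-- A4A4 -/
def svE8_54 : Sv where
  m := 1656419123229735308984341406955014924482047872673927585882274746417145839
  Δ := [0, 1, 2, 3, 5, 6, 7, 116]
  dm := [22, 64, 90, 106, 115, 119]
  s := 40
  sq := (beta% delta% lq26b895f9ecd2 fun vqc0 vqc1 vqc2 vqc3 vqc4 _ _ _ _ _ _ _ _ =>
      (vqc0 (vqc2 22 vqc4) (vqc0 (vqc2 119 vqc4) (vqc0 (vqc2 0 vqc3) (vqc0 (vqc2 1 vqc3) (vqc0 (vqc2 2 vqc3) (vqc0 (vqc2 3 vqc3) (vqc0 (vqc2 64 vqc4) (vqc0 (vqc2 7 vqc3) (vqc0 (vqc2 5 vqc3) (vqc0 (vqc2 6 vqc3) vqc1)))))))))))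
  co := (beta% delta% lq26b895f9ecd2 fun vqc0 vqc1 _ _ _ _ _ _ _ _ _ _ _ =>
      (vqc0 (vqc0 0 (vqc0 0 (vqc0 1 (vqc0 0 (vqc0 0 (vqc0 0 (vqc0 0 (vqc0 0 (vqc0 0 (vqc0 0 vqc1)))))))))) (vqc0 (vqc0 2 (vqc0 0 (vqc0 (-2) (vqc0 (-1) (vqc0 (-2) (vqc0 (-2) (vqc0 0 (vqc0 0 (vqc0 0 (vqc0 0 vqc1)))))))))) (vqc0 (vqc0 (-1) (vqc0 0 (vqc0 1 (vqc0 1 (vqc0 2 (vqc0 1 (vqc0 0 (vqc0 0 (vqc0 0 (vqc0 0 vqc1)))))))))) (vqc0 (vqc0 0 (vqc0 0 (vqc0 0 (vqc0 0 (vqc0 0 (vqc0 1 (vqc0 0 (vqc0 0 (vqc0 0 (vqc0 0 vqc1)))))))))) (vqc0 (vqc0 2 (vqc0 1 (vqc0 0 (vqc0 (-1) (vqc0 2 (vqc0 0 (vqc0 (-4) (vqc0 2 (vqc0 0 (vqc0 1 vqc1)))))))))) (vqc0 (vqc0 (-3) (vqc0 (-1) (vqc0 0 (vqc0 1 (vqc0 (-3) (vqc0 (-1) (vqc0 5 (vqc0 (-3) (vqc0 0 (vqc0 (-2) vqc1)))))))))) (vqc0 (vqc0 0 (vqc0 0 (vqc0 0 (vqc0 0 (vqc0 0 (vqc0 0 (vqc0 0 (vqc0 0 (vqc0 0 (vqc0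 1 vqc1)))))))))) (vqc0 (vqc0 0 (vqc0 0 (vqc0 0 (vqc0 0 (vqc0 0 (vqc0 0 (vqc0 0 (vqc0 1 (vqc0 0 (vqc0 0 vqc1)))))))))) vqc1)))))))))
  ω := 4
  cl := (beta% delta% lq26b895f9ecd2 fun vqc0 vqc1 vqc2 _ vqc4 _ _ _ _ _ _ _ _ =>
      (vqc0 (vqc2 vqc4 vqc1) (vqc0 (vqc2 vqc4 (vqc0 5 (vqc0 13 (vqc0 43 (vqc0 88 (vqc0 70 (vqc0 4 (vqc0 16 (vqc0 15 vqc1))))))))) (vqc0 (vqc2 vqc4 (vqc0 22 (vqc0 15 (vqc0 3 (vqc0 2 (vqc0 99 (vqc0 90 (vqc0 68 (vqc0 11 (vqc0 42 (vqc0 38 vqc1))))))))))) (vqc0 (vqc2 vqc4 (vqc0 16 (vqc0 9 (vqc0 15 (vqc0 83 (vqc0 50 (vqc0 25 (vqc0 85 (vqc0 35 (vqc0 111 (vqc0 18 vqc1))))))))))) vqc1)))))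
  lf := (beta% delta% lq26b895f9ecd2 fun vqc0 vqc1 vqc2 _ _ _ _ _ _ _ _ _ _ =>
      (vqc0 (vqc2 106087225451591590413574 (vqc2 0 vqc1))
      (vqc0 (vqc2 106087297228806731073029 (vqc2 1 vqc1))
      (vqc0 (vqc2 562367976891985009115651 (vqc2 2 vqc1))
      (vqc0 (vqc2 562375800487867733508866 (vqc2 3 vqc1)) vqc1)))))
  q₁ := 6
  k₁ := 48
  ev := false
  lg := (0, [], 0)

/-- inverted roots -/
def ivE8_54 : List (ℕ × List ℕ × ℕ) := []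

/-- the certificates -/
def ceE8_54 : List (List (ℕ × Ce)) := (beta% delta% lq26b895f9ecd2 fun vqc0 vqc1 vqc2 _ _ _ vqc6 _ vqc8 _ _ _ vqc12 =>
    (vqc0 (vqc0 (vqc2 2 (vqc6 22706243984539342912 (vqc0 15 (vqc0 5 (vqc0 13 (vqc0 7 (vqc0 8 (vqc0 1 vqc1)))))) 0 vqc1 (vqc8 (vqc12 5 (vqc0 2 (vqc0 2 (vqc0 1 (vqc0 1 (vqc0 1 (vqc0 4 (vqc0 3 (vqc0 4 vqc1)))))))) (vqc0 2 (vqc0 2 (vqc0 1 (vqc0 1 (vqc0 1 (vqc0 4 (vqc0 3 (vqc0 4 vqc1)))))))) (vqc0 0 (vqc0 0 (vqc0 0 (vqc0 0 (vqc0 0 (vqc0 0 (vqc0 0 (vqc0 0 vqc1)))))))) vqc1 0 0 vqc1))))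
    (vqc0 (vqc2 3 (vqc6 18078142687848972736522623501395 (vqc0 1 (vqc0 15 (vqc0 0 (vqc0 0 (vqc0 1 (vqc0 3 (vqc0 21 (vqc0 22 vqc1)))))))) 0 vqc1 (vqc8 (vqc12 4 (vqc0 2 (vqc0 3 (vqc0 1 (vqc0 2 (vqc0 0 (vqc0 3 (vqc0 0 (vqc0 3 vqc1)))))))) (vqc0 2 (vqc0 3 (vqc0 1 (vqc0 2 (vqc0 0 (vqc0 3 (vqc0 0 (vqc0 3 vqc1)))))))) (vqc0 0 (vqc0 0 (vqc0 0 (vqc0 0 (vqc0 0 (vqc0 0 (vqc0 0 (vqc0 0 vqc1)))))))) vqc1 0 0 vqc1))))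
    (vqc0 (vqc2 4 (vqc6 4665242937374228502129285234024993272250 (vqc0 7 (vqc0 118 (vqc0 7 (vqc0 5 (vqc0 3 (vqc0 14 (vqc0 2 (vqc0 8 (vqc0 6 (vqc0 13 vqc1)))))))))) 0 vqc1 (vqc8 (vqc12 595 (vqc0 161 (vqc0 133 (vqc0 245 (vqc0 399 (vqc0 218 (vqc0 34 (vqc0 357 (vqc0 289 vqc1)))))))) (vqc0 161 (vqc0 133 (vqc0 245 (vqc0 399 (vqc0 218 (vqc0 34 (vqc0 357 (vqc0 289 vqc1)))))))) (vqc0 0 (vqc0 0 (vqc0 0 (vqc0 0 (vqc0 0 (vqc0 0 (vqc0 0 (vqc0 0 vqc1)))))))) vqc1 0 0 vqc1))))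
    (vqc0 (vqc2 5 (vqc6 15144455925300345441754328191700744304230564542 (vqc0 5 (vqc0 8 (vqc0 13 (vqc0 14 vqc1)))) 0 vqc1 (vqc8 (vqc12 8 (vqc0 5 (vqc0 4 (vqc0 7 (vqc0 5 (vqc0 3 (vqc0 0 (vqc0 4 (vqc0 0 vqc1)))))))) (vqc0 5 (vqc0 4 (vqc0 7 (vqc0 5 (vqc0 3 (vqc0 0 (vqc0 4 (vqc0 0 vqc1)))))))) (vqc0 0 (vqc0 0 (vqc0 0 (vqc0 0 (vqc0 0 (vqc0 0 (vqc0 0 (vqc0 0 vqc1)))))))) vqc1 0 0 vqc1)))) vqc1))))
    (vqc0 (vqc0 (vqc2 2 (vqc6 22706243984539342912 (vqc0 15 (vqc0 15 (vqc0 117 vqc1))) 0 vqc1 (vqc8 (vqc12 9 (vqc0 6 (vqc0 3 (vqc0 0 (vqc0 0 (vqc0 6 (vqc0 4 (vqc0 5 (vqc0 7 vqc1)))))))) (vqc0 6 (vqc0 3 (vqc0 0 (vqc0 0 (vqc0 6 (vqc0 4 (vqc0 5 (vqc0 7 vqc1)))))))) (vqc0 0 (vqc0 0 (vqc0 0 (vqc0 0 (vqc0 0 (vqc0 0 (vqc0 0 (vqc0 0 vqc1)))))))) vqc1 0 0 vqc1))))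
    (vqc0 (vqc2 3 (vqc6 18078142687848972736522623501395 (vqc0 0 (vqc0 118 (vqc0 14 (vqc0 13 (vqc0 15 (vqc0 7 (vqc0 0 (vqc0 6 vqc1)))))))) 0 vqc1 (vqc8 (vqc12 40 (vqc0 15 (vqc0 15 (vqc0 10 (vqc0 20 (vqc0 36 (vqc0 9 (vqc0 39 (vqc0 28 vqc1)))))))) (vqc0 15 (vqc0 15 (vqc0 10 (vqc0 20 (vqc0 36 (vqc0 9 (vqc0 39 (vqc0 28 vqc1)))))))) (vqc0 0 (vqc0 0 (vqc0 0 (vqc0 0 (vqc0 0 (vqc0 0 (vqc0 0 (vqc0 0 vqc1)))))))) vqc1 0 0 vqc1))))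
    (vqc0 (vqc2 4 (vqc6 4665242937374228502129285234024993272250 (vqc0 7 (vqc0 117 (vqc0 3 (vqc0 7 (vqc0 3 (vqc0 5 (vqc0 6 (vqc0 3 (vqc0 16 (vqc0 9 vqc1)))))))))) 0 vqc1 (vqc8 (vqc12 221 (vqc0 102 (vqc0 170 (vqc0 0 (vqc0 187 (vqc0 119 (vqc0 195 (vqc0 130 (vqc0 13 vqc1)))))))) (vqc0 102 (vqc0 170 (vqc0 0 (vqc0 187 (vqc0 119 (vqc0 195 (vqc0 130 (vqc0 13 vqc1)))))))) (vqc0 0 (vqc0 0 (vqc0 0 (vqc0 0 (vqc0 0 (vqc0 0 (vqc0 0 (vqc0 0 vqc1)))))))) vqc1 0 0 vqc1))))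
    (vqc0 (vqc2 5 (vqc6 15144455925300345441754328191700744304230564542 (vqc0 2 (vqc0 0 (vqc0 119 (vqc0 7 (vqc0 10 (vqc0 117 (vqc0 16 (vqc0 6 vqc1)))))))) 0 vqc1 (vqc8 (vqc12 521 (vqc0 32 (vqc0 242 (vqc0 202 (vqc0 447 (vqc0 493 (vqc0 74 (vqc0 287 (vqc0 402 vqc1)))))))) (vqc0 32 (vqc0 242 (vqc0 202 (vqc0 447 (vqc0 493 (vqc0 74 (vqc0 287 (vqc0 402 vqc1)))))))) (vqc0 0 (vqc0 0 (vqc0 0 (vqc0 0 (vqc0 0 (vqc0 0 (vqc0 0 (vqc0 0 vqc1)))))))) vqc1 0 0 vqc1)))) vqc1))))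
    (vqc0 (vqc0 (vqc2 2 (vqc6 22706243984539342912 (vqc0 7 (vqc0 22 (vqc0 119 (vqc0 2 (vqc0 116 (vqc0 3 vqc1)))))) 0 vqc1 (vqc8 (vqc12 205 (vqc0 115 (vqc0 15 (vqc0 145 (vqc0 185 (vqc0 142 (vqc0 195 (vqc0 40 (vqc0 45 vqc1)))))))) (vqc0 115 (vqc0 15 (vqc0 145 (vqc0 185 (vqc0 142 (vqc0 195 (vqc0 40 (vqc0 45 vqc1)))))))) (vqc0 0 (vqc0 0 (vqc0 0 (vqc0 0 (vqc0 0 (vqc0 0 (vqc0 0 (vqc0 0 vqc1)))))))) vqc1 0 0 vqc1))))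
    (vqc0 (vqc2 3 (vqc6 18078142687848972736522623501395 (vqc0 0 (vqc0 13 (vqc0 118 (vqc0 9 (vqc0 22 vqc1))))) 0 vqc1 (vqc8 (vqc12 205 (vqc0 195 (vqc0 132 (vqc0 90 (vqc0 83 (vqc0 169 (vqc0 30 (vqc0 161 (vqc0 79 vqc1)))))))) (vqc0 195 (vqc0 132 (vqc0 90 (vqc0 83 (vqc0 169 (vqc0 30 (vqc0 161 (vqc0 79 vqc1)))))))) (vqc0 0 (vqc0 0 (vqc0 0 (vqc0 0 (vqc0 0 (vqc0 0 (vqc0 0 (vqc0 0 vqc1)))))))) vqc1 0 0 vqc1))))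
    (vqc0 (vqc2 4 (vqc6 4665242937374228502129285234024993272250 (vqc0 15 (vqc0 13 vqc1)) 0 vqc1 (vqc8 (vqc12 4097 (vqc0 908 (vqc0 1156 (vqc0 3856 (vqc0 1322 (vqc0 1743 (vqc0 964 (vqc0 2906 (vqc0 3859 vqc1)))))))) (vqc0 908 (vqc0 1156 (vqc0 3856 (vqc0 1322 (vqc0 1743 (vqc0 964 (vqc0 2906 (vqc0 3859 vqc1)))))))) (vqc0 0 (vqc0 0 (vqc0 0 (vqc0 0 (vqc0 0 (vqc0 0 (vqc0 0 (vqc0 0 vqc1)))))))) vqc1 0 0 vqc1))))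
    (vqc0 (vqc2 5 (vqc6 15144455925300345441754328191700744304230564542 (vqc0 16 (vqc0 2 (vqc0 8 (vqc0 118 (vqc0 9 (vqc0 14 (vqc0 116 (vqc0 16 (vqc0 9 vqc1))))))))) 0 vqc1 (vqc8 (vqc12 4069 (vqc0 2925 (vqc0 2719 (vqc0 2548 (vqc0 1467 (vqc0 1840 (vqc0 3536 (vqc0 1921 (vqc0 3266 vqc1)))))))) (vqc0 2925 (vqc0 2719 (vqc0 2548 (vqc0 1467 (vqc0 1840 (vqc0 3536 (vqc0 1921 (vqc0 3266 vqc1)))))))) (vqc0 0 (vqc0 0 (vqc0 0 (vqc0 0 (vqc0 0 (vqc0 0 (vqc0 0 (vqc0 0 vqc1)))))))) vqc1 0 0 vqc1)))) vqc1))))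
    (vqc0 (vqc0 (vqc2 2 (vqc6 22706243984539342912 (vqc0 1 (vqc0 21 (vqc0 6 (vqc0 8 (vqc0 13 (vqc0 1 (vqc0 117 vqc1))))))) 0 vqc1 (vqc8 (vqc12 13 (vqc0 0 (vqc0 1 (vqc0 11 (vqc0 9 (vqc0 1 (vqc0 10 (vqc0 0 (vqc0 1 vqc1)))))))) (vqc0 0 (vqc0 1 (vqc0 11 (vqc0 9 (vqc0 1 (vqc0 10 (vqc0 0 (vqc0 1 vqc1)))))))) (vqc0 0 (vqc0 0 (vqc0 0 (vqc0 0 (vqc0 0 (vqc0 0 (vqc0 0 (vqc0 0 vqc1)))))))) vqc1 0 0 vqc1))))
    (vqc0 (vqc2 3 (vqc6 18078142687848972736522623501395 (vqc0 119 (vqc0 21 (vqc0 117 (vqc0 22 (vqc0 116 (vqc0 3 (vqc0 117 (vqc0 0 vqc1)))))))) 0 vqc1 (vqc8 (vqc12 1181 (vqc0 333 (vqc0 991 (vqc0 885 (vqc0 842 (vqc0 820 (vqc0 113 (vqc0 457 (vqc0 906 vqc1)))))))) (vqc0 333 (vqc0 991 (vqc0 885 (vqc0 842 (vqc0 820 (vqc0 113 (vqc0 457 (vqc0 906 vqc1)))))))) (vqc0 0 (vqc0 0 (vqc0 0 (vqc0 0 (vqc0 0 (vqc0 0 (vqc0 0 (vqc0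 0 vqc1)))))))) vqc1 0 0 vqc1))))
    (vqc0 (vqc2 4 (vqc6 4665242937374228502129285234024993272250 vqc1 0 vqc1 (vqc8 (vqc12 51 (vqc0 44 (vqc0 41 (vqc0 6 (vqc0 45 (vqc0 19 (vqc0 24 (vqc0 27 (vqc0 11 vqc1)))))))) (vqc0 44 (vqc0 41 (vqc0 6 (vqc0 45 (vqc0 19 (vqc0 24 (vqc0 27 (vqc0 11 vqc1)))))))) (vqc0 0 (vqc0 0 (vqc0 0 (vqc0 0 (vqc0 0 (vqc0 0 (vqc0 0 (vqc0 0 vqc1)))))))) vqc1 0 0 vqc1))))
    (vqc0 (vqc2 5 (vqc6 15144455925300345441754328191700744304230564542 vqc1 0 vqc1 (vqc8 (vqc12 624 (vqc0 119 (vqc0 479 (vqc0 407 (vqc0 191 (vqc0 392 (vqc0 163 (vqc0 331 (vqc0 523 vqc1)))))))) (vqc0 119 (vqc0 479 (vqc0 407 (vqc0 191 (vqc0 392 (vqc0 163 (vqc0 331 (vqc0 523 vqc1)))))))) (vqc0 0 (vqc0 0 (vqc0 0 (vqc0 0 (vqc0 0 (vqc0 0 (vqc0 0 (vqc0 0 vqc1)))))))) vqc1 0 0 vqc1)))) vqc1)))) vqc1)))))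

theorem svsE8_54 : tbE8.svs 8 svE8_54 = true := by decide +kernel

theorem svdE8_54 : tbE8.svd svE8_54 = true := by decide +kernel

theorem svcE8_54 : aL (tbE8.svc 8 svE8_54 ivE8_54 ceE8_54) 4 = true := by decide +kernel

theorem goodE8_54 {M : CoxeterMatrix (Fin 8)} (hp : IsType chevE8 8 M) : Good hp tbE8 1656419123229735308984341406955014924482047872673927585882274746417145839 :=
  (gsE8 hp).good_sv (fun h => absurd h (by decide)) svsE8_54 svdE8_54 (aL_iff.1 svcE8_54)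

/-- D4D4 -/
def svE8_60 : Sv where
  m := 883423677148600563666327213749542491554355972273763865188020289651343703
  Δ := [0, 1, 2, 4, 6, 31, 60, 82]
  dm := [96, 114, 116, 118, 119]
  s := 48
  sq := (beta% delta% lq26b895f9ecd2 fun vqc0 vqc1 vqc2 vqc3 vqc4 _ _ _ _ _ _ _ _ =>
      (vqc0 (vqc2 96 vqc4) (vqc0 (vqc2 119 vqc4) (vqc0 (vqc2 0 vqc3) (vqc0 (vqc2 82 vqc3) (vqc0 (vqc2 1 vqc3) (vqc0 (vqc2 114 vqc4) (vqc0 (vqc2 2 vqc3) (vqc0 (vqc2 4 vqc3) (vqc0 (vqc2 6 vqc3) (vqc0 (vqc2 116 vqc4) vqc1)))))))))))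
  co := (beta% delta% lq26b895f9ecd2 fun vqc0 vqc1 _ _ _ _ _ _ _ _ _ _ _ =>
      (vqc0 (vqc0 0 (vqc0 0 (vqc0 1 (vqc0 0 (vqc0 0 (vqc0 0 (vqc0 0 (vqc0 0 (vqc0 0 (vqc0 0 vqc1)))))))))) (vqc0 (vqc0 0 (vqc0 0 (vqc0 0 (vqc0 0 (vqc0 1 (vqc0 0 (vqc0 0 (vqc0 0 (vqc0 0 (vqc0 0 vqc1)))))))))) (vqc0 (vqc0 (-1) (vqc0 (-1) (vqc0 0 (vqc0 0 (vqc0 (-1) (vqc0 2 (vqc0 0 (vqc0 0 (vqc0 0 (vqc0 0 vqc1)))))))))) (vqc0 (vqc0 0 (vqc0 0 (vqc0 0 (vqc0 0 (vqc0 0 (vqc0 (-1) (vqc0 0 (vqc0 (-1) (vqc0 0 (vqc0 1 vqc1)))))))))) (vqc0 (vqc0 0 (vqc0 0 (vqc0 0 (vqc0 0 (vqc0 0 (vqc0 0 (vqc0 0 (vqc0 1 (vqc0 0 (vqc0 0 vqc1)))))))))) (vqc0 (vqc0 2 (vqc0 1 (vqc0 (-1) (vqc0 1 (vqc0 1 (vqc0 (-1) (vqc0 0 (vqc0 1 (vqc0 0 (vqc0 (-2) vqc1)))))))))) (vqc0 (vqc0 0 (vqc0 1 (vqc0 0 (vqc0 (-2) (vqc0 (-1) (vqc0 0 (vqc0 0 (vqc0 (-1) (vqc0 0 (vqc0 0 vqc1))))))))))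 (vqc0 (vqc0 (-2) (vqc0 (-1) (vqc0 1 (vqc0 1 (vqc0 0 (vqc0 1 (vqc0 0 (vqc0 0 (vqc0 0 (vqc0 1 vqc1)))))))))) vqc1)))))))))
  ω := 12
  cl := (beta% delta% lq26b895f9ecd2 fun vqc0 vqc1 vqc2 _ vqc4 _ _ _ _ _ _ _ _ =>
      (vqc0 (vqc2 vqc4 vqc1) (vqc0 (vqc2 vqc4 (vqc0 13 (vqc0 12 vqc1))) (vqc0 (vqc2 vqc4 (vqc0 27 (vqc0 25 (vqc0 11 (vqc0 9 vqc1))))) (vqc0 (vqc2 vqc4 (vqc0 14 (vqc0 9 (vqc0 67 (vqc0 10 vqc1))))) (vqc0 (vqc2 vqc4 (vqc0 28 (vqc0 13 (vqc0 12 (vqc0 9 (vqc0 67 (vqc0 10 vqc1))))))) (vqc0 (vqc2 vqc4 (vqc0 41 (vqc0 27 (vqc0 25 (vqc0 11 (vqc0 67 (vqc0 10 vqc1))))))) vqc1)))))))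
  lf := (beta% delta% lq26b895f9ecd2 fun vqc0 vqc1 vqc2 _ _ _ _ _ _ _ _ _ _ =>
      (vqc0 (vqc2 455542367982794639148660 (vqc2 0 vqc1))
      (vqc0 (vqc2 455542367982794639279222 (vqc2 1 vqc1))
      (vqc0 (vqc2 455542367986102250309234 (vqc2 1 (vqc0 27 (vqc0 25 vqc1))))
      (vqc0 (vqc2 455542367986102250635638 (vqc2 2 vqc1))
      (vqc0 (vqc2 455542367988310350038130 (vqc2 2 (vqc0 13 (vqc0 12 vqc1))))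
      (vqc0 (vqc2 455542367988310350233972 (vqc2 1 (vqc0 11 (vqc0 9 vqc1))))
      (vqc0 (vqc2 563738407617963675827316 (vqc2 3 vqc1))
      (vqc0 (vqc2 563738407617963677720438 (vqc2 4 vqc1))
      (vqc0 (vqc2 563738407649858151398514 (vqc2 4 (vqc0 27 (vqc0 25 vqc1))))
      (vqc0 (vqc2 563738407649858155184758 (vqc2 5 vqc1))
      (vqc0 (vqc2 563738407681752612085618 (vqc2 5 (vqc0 13 (vqc0 12 vqc1))))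
      (vqc0 (vqc2 563738407681752613978740 (vqc2 4 (vqc0 11 (vqc0 9 vqc1)))) vqc1)))))))))))))
  q₁ := 6
  k₁ := 48
  ev := false
  lg := (0, [], 0)

/-- inverted roots -/
def ivE8_60 : List (ℕ × List ℕ × ℕ) := []

/-- the certificates -/
def ceE8_60 : List (List (ℕ × Ce)) := (beta% delta% lq26b895f9ecd2 fun vqc0 vqc1 vqc2 _ _ _ vqc6 _ vqc8 _ _ _ vqc12 =>
    (vqc0 (vqc0 (vqc2 2 (vqc6 2479466396553708721 (vqc0 96 (vqc0 94 (vqc0 70 (vqc0 119 (vqc0 87 (vqc0 31 (vqc0 90 (vqc0 4 vqc1)))))))) 0 vqc1 (vqc8 (vqc12 15 (vqc0 1 (vqc0 3 (vqc0 9 (vqc0 3 (vqc0 5 (vqc0 10 (vqc0 6 (vqc0 6 vqc1)))))))) (vqc0 1 (vqc0 3 (vqc0 9 (vqc0 3 (vqc0 5 (vqc0 10 (vqc0 6 (vqc0 6 vqc1)))))))) (vqc0 0 (vqc0 0 (vqc0 0 (vqc0 0 (vqc0 0 (vqc0 0 (vqc0 0 (vqc0 0 vqc1)))))))) vqc1 0 0 vqc1))))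
    (vqc0 (vqc2 3 (vqc6 669560840290702693945282351903 (vqc0 1 (vqc0 70 (vqc0 31 (vqc0 87 (vqc0 89 vqc1))))) 0 vqc1 (vqc8 (vqc12 40 (vqc0 20 (vqc0 14 (vqc0 20 (vqc0 39 (vqc0 8 (vqc0 0 (vqc0 32 (vqc0 17 vqc1)))))))) (vqc0 20 (vqc0 14 (vqc0 20 (vqc0 39 (vqc0 8 (vqc0 0 (vqc0 32 (vqc0 17 vqc1)))))))) (vqc0 0 (vqc0 0 (vqc0 0 (vqc0 0 (vqc0 0 (vqc0 0 (vqc0 0 (vqc0 0 vqc1)))))))) vqc1 0 0 vqc1))))
    (vqc0 (vqc2 4 (vqc6 80230691550151945222351372973796128055 (vqc0 86 (vqc0 85 (vqc0 65 (vqc0 85 (vqc0 87 (vqc0 31 (vqc0 2 vqc1))))))) 0 vqc1 (vqc8 (vqc12 51 (vqc0 26 (vqc0 17 (vqc0 42 (vqc0 17 (vqc0 0 (vqc0 14 (vqc0 0 (vqc0 49 vqc1)))))))) (vqc0 26 (vqc0 17 (vqc0 42 (vqc0 17 (vqc0 0 (vqc0 14 (vqc0 0 (vqc0 49 vqc1)))))))) (vqc0 0 (vqc0 0 (vqc0 0 (vqc0 0 (vqc0 0 (vqc0 0 (vqc0 0 (vqc0 0 vqc1)))))))) vqc1 0 0 vqc1))))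
    (vqc0 (vqc2 5 (vqc6 143645903682255086551605637448715496680563500 (vqc0 82 (vqc0 82 vqc1)) 0 vqc1 (vqc8 (vqc12 4 (vqc0 2 (vqc0 3 (vqc0 3 (vqc0 3 (vqc0 3 (vqc0 2 (vqc0 1 (vqc0 2 vqc1)))))))) (vqc0 2 (vqc0 3 (vqc0 3 (vqc0 3 (vqc0 3 (vqc0 2 (vqc0 1 (vqc0 2 vqc1)))))))) (vqc0 0 (vqc0 0 (vqc0 0 (vqc0 0 (vqc0 0 (vqc0 0 (vqc0 0 (vqc0 0 vqc1)))))))) vqc1 0 0 vqc1)))) vqc1))))
    (vqc0 (vqc0 (vqc2 2 (vqc6 2479466396553708721 (vqc0 87 vqc1) 0 vqc1 (vqc8 (vqc12 15 (vqc0 0 (vqc0 3 (vqc0 0 (vqc0 4 (vqc0 9 (vqc0 10 (vqc0 6 (vqc0 13 vqc1)))))))) (vqc0 0 (vqc0 3 (vqc0 0 (vqc0 4 (vqc0 9 (vqc0 10 (vqc0 6 (vqc0 13 vqc1)))))))) (vqc0 0 (vqc0 0 (vqc0 0 (vqc0 0 (vqc0 0 (vqc0 0 (vqc0 0 (vqc0 0 vqc1)))))))) vqc1 0 0 vqc1))))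
    (vqc0 (vqc2 3 (vqc6 669560840290702693945282351903 (vqc0 91 (vqc0 43 (vqc0 87 (vqc0 89 (vqc0 4 (vqc0 2 vqc1)))))) 0 vqc1 (vqc8 (vqc12 280 (vqc0 50 (vqc0 7 (vqc0 60 (vqc0 77 (vqc0 189 (vqc0 185 (vqc0 21 (vqc0 146 vqc1)))))))) (vqc0 50 (vqc0 7 (vqc0 60 (vqc0 77 (vqc0 189 (vqc0 185 (vqc0 21 (vqc0 146 vqc1)))))))) (vqc0 0 (vqc0 0 (vqc0 0 (vqc0 0 (vqc0 0 (vqc0 0 (vqc0 0 (vqc0 0 vqc1)))))))) vqc1 0 0 vqc1))))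
    (vqc0 (vqc2 4 (vqc6 80230691550151945222351372973796128055 (vqc0 4 (vqc0 88 (vqc0 70 (vqc0 8 (vqc0 8 (vqc0 89 (vqc0 119 (vqc0 96 vqc1)))))))) 0 vqc1 (vqc8 (vqc12 257 (vqc0 24 (vqc0 31 (vqc0 31 (vqc0 77 (vqc0 165 (vqc0 29 (vqc0 239 (vqc0 186 vqc1)))))))) (vqc0 24 (vqc0 31 (vqc0 31 (vqc0 77 (vqc0 165 (vqc0 29 (vqc0 239 (vqc0 186 vqc1)))))))) (vqc0 0 (vqc0 0 (vqc0 0 (vqc0 0 (vqc0 0 (vqc0 0 (vqc0 0 (vqc0 0 vqc1)))))))) vqc1 0 0 vqc1))))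
    (vqc0 (vqc2 5 (vqc6 143645903682255086551605637448715496680563500 vqc1 0 vqc1 (vqc8 (vqc12 24 (vqc0 6 (vqc0 12 (vqc0 0 (vqc0 19 (vqc0 22 (vqc0 6 (vqc0 14 (vqc0 11 vqc1)))))))) (vqc0 6 (vqc0 12 (vqc0 0 (vqc0 19 (vqc0 22 (vqc0 6 (vqc0 14 (vqc0 11 vqc1)))))))) (vqc0 0 (vqc0 0 (vqc0 0 (vqc0 0 (vqc0 0 (vqc0 0 (vqc0 0 (vqc0 0 vqc1)))))))) vqc1 0 0 vqc1)))) vqc1))))
    (vqc0 (vqc0 (vqc2 2 (vqc6 2479466396553708721 (vqc0 6 (vqc0 60 (vqc0 82 vqc1))) 0 vqc1 (vqc8 (vqc12 13 (vqc0 0 (vqc0 12 (vqc0 0 (vqc0 11 (vqc0 5 (vqc0 6 (vqc0 9 (vqc0 12 vqc1)))))))) (vqc0 0 (vqc0 12 (vqc0 0 (vqc0 11 (vqc0 5 (vqc0 6 (vqc0 9 (vqc0 12 vqc1)))))))) (vqc0 0 (vqc0 0 (vqc0 0 (vqc0 0 (vqc0 0 (vqc0 0 (vqc0 0 (vqc0 0 vqc1)))))))) vqc1 0 0 vqc1))))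
    (vqc0 (vqc2 3 (vqc6 669560840290702693945282351903 (vqc0 85 (vqc0 36 (vqc0 94 (vqc0 1 (vqc0 91 (vqc0 89 (vqc0 88 vqc1))))))) 0 vqc1 (vqc8 (vqc12 56 (vqc0 48 (vqc0 28 (vqc0 48 (vqc0 17 (vqc0 26 (vqc0 14 (vqc0 10 (vqc0 30 vqc1)))))))) (vqc0 48 (vqc0 28 (vqc0 48 (vqc0 17 (vqc0 26 (vqc0 14 (vqc0 10 (vqc0 30 vqc1)))))))) (vqc0 0 (vqc0 0 (vqc0 0 (vqc0 0 (vqc0 0 (vqc0 0 (vqc0 0 (vqc0 0 vqc1)))))))) vqc1 0 0 vqc1))))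
    (vqc0 (vqc2 4 (vqc6 80230691550151945222351372973796128055 (vqc0 89 (vqc0 0 (vqc0 96 (vqc0 90 (vqc0 89 vqc1))))) 0 vqc1 (vqc8 (vqc12 91 (vqc0 39 (vqc0 56 (vqc0 65 (vqc0 57 (vqc0 77 (vqc0 46 (vqc0 0 (vqc0 86 vqc1)))))))) (vqc0 39 (vqc0 56 (vqc0 65 (vqc0 57 (vqc0 77 (vqc0 46 (vqc0 0 (vqc0 86 vqc1)))))))) (vqc0 0 (vqc0 0 (vqc0 0 (vqc0 0 (vqc0 0 (vqc0 0 (vqc0 0 (vqc0 0 vqc1)))))))) vqc1 0 0 vqc1))))
    (vqc0 (vqc2 5 (vqc6 143645903682255086551605637448715496680563500 (vqc0 88 (vqc0 87 (vqc0 8 (vqc0 8 (vqc0 85 vqc1))))) 0 vqc1 (vqc8 (vqc12 651 (vqc0 0 (vqc0 294 (vqc0 124 (vqc0 22 (vqc0 189 (vqc0 572 (vqc0 0 (vqc0 642 vqc1)))))))) (vqc0 0 (vqc0 294 (vqc0 124 (vqc0 22 (vqc0 189 (vqc0 572 (vqc0 0 (vqc0 642 vqc1)))))))) (vqc0 0 (vqc0 0 (vqc0 0 (vqc0 0 (vqc0 0 (vqc0 0 (vqc0 0 (vqc0 0 vqc1)))))))) vqc1 0 0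 vqc1)))) vqc1))))
    (vqc0 (vqc0 (vqc2 2 (vqc6 2479466396553708721 (vqc0 87 (vqc0 90 (vqc0 8 (vqc0 88 (vqc0 96 (vqc0 0 (vqc0 70 (vqc0 70 (vqc0 91 (vqc0 86 vqc1)))))))))) 0 vqc1 (vqc8 (vqc12 15 (vqc0 13 (vqc0 12 (vqc0 0 (vqc0 13 (vqc0 10 (vqc0 3 (vqc0 6 (vqc0 10 vqc1)))))))) (vqc0 13 (vqc0 12 (vqc0 0 (vqc0 13 (vqc0 10 (vqc0 3 (vqc0 6 (vqc0 10 vqc1)))))))) (vqc0 0 (vqc0 0 (vqc0 0 (vqc0 0 (vqc0 0 (vqc0 0 (vqc0 0 (vqc0 0 vqc1)))))))) vqc1 0 0 vqc1))))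
    (vqc0 (vqc2 3 (vqc6 669560840290702693945282351903 (vqc0 6 (vqc0 60 (vqc0 88 (vqc0 94 (vqc0 87 (vqc0 92 (vqc0 90 (vqc0 89 (vqc0 119 vqc1))))))))) 0 vqc1 (vqc8 (vqc12 80 (vqc0 70 (vqc0 59 (vqc0 13 (vqc0 58 (vqc0 79 (vqc0 10 (vqc0 41 (vqc0 42 vqc1)))))))) (vqc0 70 (vqc0 59 (vqc0 13 (vqc0 58 (vqc0 79 (vqc0 10 (vqc0 41 (vqc0 42 vqc1)))))))) (vqc0 0 (vqc0 0 (vqc0 0 (vqc0 0 (vqc0 0 (vqc0 0 (vqc0 0 (vqc0 0 vqc1)))))))) vqc1 0 0 vqc1))))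
    (vqc0 (vqc2 4 (vqc6 80230691550151945222351372973796128055 (vqc0 89 (vqc0 89 (vqc0 8 (vqc0 60 (vqc0 70 (vqc0 119 (vqc0 6 (vqc0 4 (vqc0 90 vqc1))))))))) 0 vqc1 (vqc8 (vqc12 4369 (vqc0 4199 (vqc0 3638 (vqc0 1445 (vqc0 4337 (vqc0 1673 (vqc0 2728 (vqc0 731 (vqc0 3092 vqc1)))))))) (vqc0 4199 (vqc0 3638 (vqc0 1445 (vqc0 4337 (vqc0 1673 (vqc0 2728 (vqc0 731 (vqc0 3092 vqc1)))))))) (vqc0 0 (vqc0 0 (vqc0 0 (vqc0 0 (vqc0 0 (vqc0 0 (vqc0 0 (vqc0 0 vqc1)))))))) vqc1 0 0 vqc1))))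
    (vqc0 (vqc2 5 (vqc6 143645903682255086551605637448715496680563500 (vqc0 86 (vqc0 119 (vqc0 85 vqc1))) 0 vqc1 (vqc8 (vqc12 4069 (vqc0 939 (vqc0 2379 (vqc0 3757 (vqc0 312 (vqc0 1690 (vqc0 1200 (vqc0 3135 (vqc0 3105 vqc1)))))))) (vqc0 939 (vqc0 2379 (vqc0 3757 (vqc0 312 (vqc0 1690 (vqc0 1200 (vqc0 3135 (vqc0 3105 vqc1)))))))) (vqc0 0 (vqc0 0 (vqc0 0 (vqc0 0 (vqc0 0 (vqc0 0 (vqc0 0 (vqc0 0 vqc1)))))))) vqc1 0 0 vqc1)))) vqc1))))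
    (vqc0 (vqc0 (vqc2 2 (vqc6 2479466396553708721 (vqc0 6 vqc1) 0 vqc1 (vqc8 (vqc12 15 (vqc0 11 (vqc0 0 (vqc0 0 (vqc0 9 (vqc0 0 (vqc0 9 (vqc0 9 (vqc0 8 vqc1)))))))) (vqc0 11 (vqc0 0 (vqc0 0 (vqc0 9 (vqc0 0 (vqc0 9 (vqc0 9 (vqc0 8 vqc1)))))))) (vqc0 0 (vqc0 0 (vqc0 0 (vqc0 0 (vqc0 0 (vqc0 0 (vqc0 0 (vqc0 0 vqc1)))))))) vqc1 0 0 vqc1))))
    (vqc0 (vqc2 3 (vqc6 669560840290702693945282351903 (vqc0 85 (vqc0 82 (vqc0 70 vqc1))) 0 vqc1 (vqc8 (vqc12 410 (vqc0 368 (vqc0 284 (vqc0 320 (vqc0 127 (vqc0 44 (vqc0 222 (vqc0 260 (vqc0 391 vqc1)))))))) (vqc0 368 (vqc0 284 (vqc0 320 (vqc0 127 (vqc0 44 (vqc0 222 (vqc0 260 (vqc0 391 vqc1)))))))) (vqc0 0 (vqc0 0 (vqc0 0 (vqc0 0 (vqc0 0 (vqc0 0 (vqc0 0 (vqc0 0 vqc1)))))))) vqc1 0 0 vqc1))))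
    (vqc0 (vqc2 4 (vqc6 80230691550151945222351372973796128055 (vqc0 43 (vqc0 86 (vqc0 96 (vqc0 94 (vqc0 4 vqc1))))) 0 vqc1 (vqc8 (vqc12 65535 (vqc0 62475 (vqc0 61982 (vqc0 34748 (vqc0 2316 (vqc0 46980 (vqc0 41315 (vqc0 57613 (vqc0 54436 vqc1)))))))) (vqc0 62475 (vqc0 61982 (vqc0 34748 (vqc0 2316 (vqc0 46980 (vqc0 41315 (vqc0 57613 (vqc0 54436 vqc1)))))))) (vqc0 0 (vqc0 0 (vqc0 0 (vqc0 0 (vqc0 0 (vqc0 0 (vqc0 0 (vqc0 0 vqc1)))))))) vqc1 0 0 vqc1))))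
    (vqc0 (vqc2 5 (vqc6 143645903682255086551605637448715496680563500 (vqc0 89 (vqc0 70 (vqc0 92 (vqc0 2 (vqc0 91 (vqc0 85 (vqc0 96 vqc1))))))) 0 vqc1 (vqc8 (vqc12 15024 (vqc0 6624 (vqc0 6886 (vqc0 11544 (vqc0 9871 (vqc0 8138 (vqc0 10132 (vqc0 11952 (vqc0 7865 vqc1)))))))) (vqc0 6624 (vqc0 6886 (vqc0 11544 (vqc0 9871 (vqc0 8138 (vqc0 10132 (vqc0 11952 (vqc0 7865 vqc1)))))))) (vqc0 0 (vqc0 0 (vqc0 0 (vqc0 0 (vqc0 0 (vqc0 0 (vqc0 0 (vqc0 0 vqc1)))))))) vqc1 0 0 vqc1)))) vqc1))))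
    (vqc0 (vqc0 (vqc2 2 (vqc6 2479466396553708721 (vqc0 90 (vqc0 0 (vqc0 8 (vqc0 87 (vqc0 6 vqc1))))) 0 vqc1 (vqc8 (vqc12 65 (vqc0 8 (vqc0 16 (vqc0 13 (vqc0 56 (vqc0 0 (vqc0 47 (vqc0 4 (vqc0 31 vqc1)))))))) (vqc0 8 (vqc0 16 (vqc0 13 (vqc0 56 (vqc0 0 (vqc0 47 (vqc0 4 (vqc0 31 vqc1)))))))) (vqc0 0 (vqc0 0 (vqc0 0 (vqc0 0 (vqc0 0 (vqc0 0 (vqc0 0 (vqc0 0 vqc1)))))))) vqc1 0 0 vqc1))))
    (vqc0 (vqc2 3 (vqc6 669560840290702693945282351903 (vqc0 65 (vqc0 87 (vqc0 119 (vqc0 96 (vqc0 43 (vqc0 87 (vqc0 6 (vqc0 94 (vqc0 92 vqc1))))))))) 0 vqc1 (vqc8 (vqc12 35 (vqc0 15 (vqc0 33 (vqc0 34 (vqc0 10 (vqc0 32 (vqc0 21 (vqc0 28 (vqc0 17 vqc1)))))))) (vqc0 15 (vqc0 33 (vqc0 34 (vqc0 10 (vqc0 32 (vqc0 21 (vqc0 28 (vqc0 17 vqc1)))))))) (vqc0 0 (vqc0 0 (vqc0 0 (vqc0 0 (vqc0 0 (vqc0 0 (vqc0 0 (vqc0 0 vqc1)))))))) vqc1 0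 0 vqc1))))
    (vqc0 (vqc2 4 (vqc6 80230691550151945222351372973796128055 (vqc0 1 (vqc0 85 (vqc0 96 (vqc0 90 (vqc0 70 (vqc0 2 (vqc0 36 (vqc0 86 vqc1)))))))) 0 vqc1 (vqc8 (vqc12 4095 (vqc0 1436 (vqc0 2741 (vqc0 2386 (vqc0 3843 (vqc0 2906 (vqc0 674 (vqc0 3276 (vqc0 2205 vqc1)))))))) (vqc0 1436 (vqc0 2741 (vqc0 2386 (vqc0 3843 (vqc0 2906 (vqc0 674 (vqc0 3276 (vqc0 2205 vqc1)))))))) (vqc0 0 (vqc0 0 (vqc0 0 (vqc0 0 (vqc0 0 (vqc0 0 (vqc0 0 (vqc0 0 vqc1)))))))) vqc1 0 0 vqc1))))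
    (vqc0 (vqc2 5 (vqc6 143645903682255086551605637448715496680563500 (vqc0 92 (vqc0 88 (vqc0 87 (vqc0 87 (vqc0 4 (vqc0 87 (vqc0 86 (vqc0 4 (vqc0 70 vqc1))))))))) 0 vqc1 (vqc8 (vqc12 7254 (vqc0 4703 (vqc0 6953 (vqc0 6789 (vqc0 5735 (vqc0 1961 (vqc0 1728 (vqc0 2325 (vqc0 4137 vqc1)))))))) (vqc0 4703 (vqc0 6953 (vqc0 6789 (vqc0 5735 (vqc0 1961 (vqc0 1728 (vqc0 2325 (vqc0 4137 vqc1)))))))) (vqc0 0 (vqc0 0 (vqc0 0 (vqc0 0 (vqc0 0 (vqc0 0 (vqc0 0 (vqc0 0 vqc1)))))))) vqc1 0 0 vqc1)))) vqc1)))) vqc1)))))))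

theorem svsE8_60 : tbE8.svs 8 svE8_60 = true := by decide +kernel

theorem svdE8_60 : tbE8.svd svE8_60 = true := by decide +kernel

theorem svcE8_60 : aL (tbE8.svc 8 svE8_60 ivE8_60 ceE8_60) 6 = true := by decide +kernel

theorem goodE8_60 {M : CoxeterMatrix (Fin 8)} (hp : IsType chevE8 8 M) : Good hp tbE8 883423677148600563666327213749542491554355972273763865188020289651343703 :=
  (gsE8 hp).good_sv (fun h => absurd h (by decide)) svsE8_60 svdE8_60 (aL_iff.1 svcE8_60)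

/-- A8 -/
def svE8_69 : Sv where
  m := 161757754891126816497651999780345807081191358941016803268550872655855
  Δ := [0, 1, 2, 3, 5, 6, 7, 81]
  dm := [106, 115, 119]
  s := 72
  sq := (beta% delta% lq26b895f9ecd2 fun vqc0 vqc1 vqc2 vqc3 vqc4 _ _ _ _ _ _ _ _ =>
      (vqc0 (vqc2 106 vqc4) (vqc0 (vqc2 0 vqc3) (vqc0 (vqc2 5 vqc3) (vqc0 (vqc2 2 vqc3) (vqc0 (vqc2 3 vqc3) (vqc0 (vqc2 1 vqc3) (vqc0 (vqc2 6 vqc3) (vqc0 (vqc2 7 vqc3) (vqc0 (vqc2 81 vqc3) (vqc0 (vqc2 115 vqc4) vqc1)))))))))))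
  co := (beta% delta% lq26b895f9ecd2 fun vqc0 vqc1 _ _ _ _ _ _ _ _ _ _ _ =>
      (vqc0 (vqc0 0 (vqc0 1 (vqc0 0 (vqc0 0 (vqc0 0 (vqc0 0 (vqc0 0 (vqc0 0 (vqc0 0 (vqc0 0 vqc1)))))))))) (vqc0 (vqc0 0 (vqc0 0 (vqc0 0 (vqc0 0 (vqc0 0 (vqc0 1 (vqc0 0 (vqc0 0 (vqc0 0 (vqc0 0 vqc1)))))))))) (vqc0 (vqc0 0 (vqc0 0 (vqc0 0 (vqc0 1 (vqc0 0 (vqc0 0 (vqc0 0 (vqc0 0 (vqc0 0 (vqc0 0 vqc1)))))))))) (vqc0 (vqc0 0 (vqc0 0 (vqc0 0 (vqc0 0 (vqc0 1 (vqc0 0 (vqc0 0 (vqc0 0 (vqc0 0 (vqc0 0 vqc1)))))))))) (vqc0 (vqc0 (-1) (vqc0 0 (vqc0 0 (vqc0 (-1) (vqc0 (-2) (vqc0 (-1) (vqc0 0 (vqc0 0 (vqc0 0 (vqc0 1 vqc1)))))))))) (vqc0 (vqc0 0 (vqc0 0 (vqc0 1 (vqc0 0 (vqc0 0 (vqc0 0 (vqc0 0 (vqc0 0 (vqc0 0 (vqc0 0 vqc1)))))))))) (vqc0 (vqc0 0 (vqc0 0 (vqc0 0 (vqc0 0 (vqc0 0 (vqc0 0 (vqc0 1 (vqc0 0 (vqc0 0 (vqc0 0 vqc1)))))))))) (vqc0 (vqc0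 4 (vqc0 (-2) (vqc0 (-3) (vqc0 0 (vqc0 2 (vqc0 1 (vqc0 (-2) (vqc0 0 (vqc0 0 (vqc0 (-3) vqc1)))))))))) vqc1)))))))))
  ω := 2
  cl := [(false, []), (false, [28, 27, 26, 23])]
  lf := [(500571208038405466706291, 0, []),
    (500663082601445308170615, 1, [])]
  q₁ := 7
  k₁ := 40
  ev := false
  lg := (0, [], 0)

/-- inverted roots -/
def ivE8_69 : List (ℕ × List ℕ × ℕ) := []

/-- the certificates -/
def ceE8_69 : List (List (ℕ × Ce)) := (beta% delta% lq26b895f9ecd2 fun vqc0 vqc1 vqc2 _ _ _ vqc6 _ vqc8 _ _ _ vqc12 =>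
    (vqc0 (vqc0 (vqc2 2 (vqc6 17599568157863454 (vqc0 10 (vqc0 92 (vqc0 21 (vqc0 89 (vqc0 106 (vqc0 2 (vqc0 99 (vqc0 88 (vqc0 6 vqc1))))))))) 0 vqc1 (vqc8 (vqc12 31 (vqc0 7 (vqc0 0 (vqc0 7 (vqc0 17 (vqc0 3 (vqc0 9 (vqc0 25 (vqc0 25 vqc1)))))))) (vqc0 7 (vqc0 0 (vqc0 7 (vqc0 17 (vqc0 3 (vqc0 9 (vqc0 25 (vqc0 25 vqc1)))))))) (vqc0 0 (vqc0 0 (vqc0 0 (vqc0 0 (vqc0 0 (vqc0 0 (vqc0 0 (vqc0 0 vqc1)))))))) vqc1 0 0 vqc1))))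
    (vqc0 (vqc2 3 (vqc6 185440144954462316806015048 (vqc0 93 (vqc0 21 (vqc0 3 (vqc0 88 (vqc0 98 (vqc0 3 (vqc0 9 (vqc0 5 (vqc0 97 vqc1))))))))) 0 vqc1 (vqc8 (vqc12 260 (vqc0 247 (vqc0 243 (vqc0 234 (vqc0 199 (vqc0 217 (vqc0 40 (vqc0 51 (vqc0 29 vqc1)))))))) (vqc0 247 (vqc0 243 (vqc0 234 (vqc0 199 (vqc0 217 (vqc0 40 (vqc0 51 (vqc0 29 vqc1)))))))) (vqc0 0 (vqc0 0 (vqc0 0 (vqc0 0 (vqc0 0 (vqc0 0 (vqc0 0 (vqc0 0 vqc1)))))))) vqc1 0 0 vqc1))))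
    (vqc0 (vqc2 4 (vqc6 2224561184584726573052065484058853 (vqc0 1 (vqc0 102 vqc1)) 0 vqc1 (vqc8 (vqc12 15 (vqc0 10 (vqc0 9 (vqc0 1 (vqc0 2 (vqc0 1 (vqc0 4 (vqc0 5 (vqc0 0 vqc1)))))))) (vqc0 10 (vqc0 9 (vqc0 1 (vqc0 2 (vqc0 1 (vqc0 4 (vqc0 5 (vqc0 0 vqc1)))))))) (vqc0 0 (vqc0 0 (vqc0 0 (vqc0 0 (vqc0 0 (vqc0 0 (vqc0 0 (vqc0 0 vqc1)))))))) vqc1 0 0 vqc1))))
    (vqc0 (vqc2 5 (vqc6 668216139921939957915997391290981989892 (vqc0 8 (vqc0 8 (vqc0 15 (vqc0 6 (vqc0 92 (vqc0 102 (vqc0 102 vqc1))))))) 0 vqc1 (vqc8 (vqc12 8 (vqc0 2 (vqc0 3 (vqc0 1 (vqc0 1 (vqc0 1 (vqc0 7 (vqc0 4 (vqc0 0 vqc1)))))))) (vqc0 2 (vqc0 3 (vqc0 1 (vqc0 1 (vqc0 1 (vqc0 7 (vqc0 4 (vqc0 0 vqc1)))))))) (vqc0 0 (vqc0 0 (vqc0 0 (vqc0 0 (vqc0 0 (vqc0 0 (vqc0 0 (vqc0 0 vqc1)))))))) vqc1 0 0 vqc1)))) vqc1))))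
    (vqc0 (vqc0 (vqc2 2 (vqc6 17599568157863454 (vqc0 84 (vqc0 100 (vqc0 96 (vqc0 15 (vqc0 94 vqc1))))) 0 vqc1 (vqc8 (vqc12 5 (vqc0 0 (vqc0 2 (vqc0 1 (vqc0 1 (vqc0 4 (vqc0 1 (vqc0 3 (vqc0 0 vqc1)))))))) (vqc0 0 (vqc0 2 (vqc0 1 (vqc0 1 (vqc0 4 (vqc0 1 (vqc0 3 (vqc0 0 vqc1)))))))) (vqc0 0 (vqc0 0 (vqc0 0 (vqc0 0 (vqc0 0 (vqc0 0 (vqc0 0 (vqc0 0 vqc1)))))))) vqc1 0 0 vqc1))))
    (vqc0 (vqc2 3 (vqc6 185440144954462316806015048 (vqc0 16 (vqc0 96 (vqc0 97 (vqc0 16 vqc1)))) 0 vqc1 (vqc8 (vqc12 280 (vqc0 63 (vqc0 249 (vqc0 190 (vqc0 111 (vqc0 10 (vqc0 189 (vqc0 250 (vqc0 37 vqc1)))))))) (vqc0 63 (vqc0 249 (vqc0 190 (vqc0 111 (vqc0 10 (vqc0 189 (vqc0 250 (vqc0 37 vqc1)))))))) (vqc0 0 (vqc0 0 (vqc0 0 (vqc0 0 (vqc0 0 (vqc0 0 (vqc0 0 (vqc0 0 vqc1)))))))) vqc1 0 0 vqc1))))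
    (vqc0 (vqc2 4 (vqc6 2224561184584726573052065484058853 (vqc0 102 (vqc0 2 (vqc0 7 (vqc0 94 (vqc0 14 vqc1))))) 0 vqc1 (vqc8 (vqc12 205 (vqc0 177 (vqc0 0 (vqc0 93 (vqc0 112 (vqc0 7 (vqc0 145 (vqc0 53 (vqc0 167 vqc1)))))))) (vqc0 177 (vqc0 0 (vqc0 93 (vqc0 112 (vqc0 7 (vqc0 145 (vqc0 53 (vqc0 167 vqc1)))))))) (vqc0 0 (vqc0 0 (vqc0 0 (vqc0 0 (vqc0 0 (vqc0 0 (vqc0 0 (vqc0 0 vqc1)))))))) vqc1 0 0 vqc1))))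
    (vqc0 (vqc2 5 (vqc6 668216139921939957915997391290981989892 (vqc0 99 (vqc0 86 vqc1)) 0 vqc1 (vqc8 (vqc12 1638 (vqc0 1113 (vqc0 701 (vqc0 1040 (vqc0 1249 (vqc0 286 (vqc0 1533 (vqc0 208 (vqc0 1409 vqc1)))))))) (vqc0 1113 (vqc0 701 (vqc0 1040 (vqc0 1249 (vqc0 286 (vqc0 1533 (vqc0 208 (vqc0 1409 vqc1)))))))) (vqc0 0 (vqc0 0 (vqc0 0 (vqc0 0 (vqc0 0 (vqc0 0 (vqc0 0 (vqc0 0 vqc1)))))))) vqc1 0 0 vqc1)))) vqc1)))) vqc1)))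

theorem svsE8_69 : tbE8.svs 8 svE8_69 = true := by decide +kernel

theorem svdE8_69 : tbE8.svd svE8_69 = true := by decide +kernel

theorem svcE8_69 : aL (tbE8.svc 8 svE8_69 ivE8_69 ceE8_69) 2 = true := by decide +kernel

theorem goodE8_69 {M : CoxeterMatrix (Fin 8)} (hp : IsType chevE8 8 M) : Good hp tbE8 161757754891126816497651999780345807081191358941016803268550872655855 :=
  (gsE8 hp).good_sv (fun h => absurd h (by decide)) svsE8_69 svdE8_69 (aL_iff.1 svcE8_69)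

/-- E6A2 -/
def svE8_71 : Sv where
  m := 1325135298583788645736807618932090124340378077825051624019050509594763199
  Δ := [0, 1, 2, 3, 4, 5, 7, 118]
  dm := [68, 100, 117, 119]
  s := 78
  sq := (beta% delta% lq26b895f9ecd2 fun vqc0 vqc1 vqc2 vqc3 vqc4 _ _ _ _ _ _ _ _ =>
      (vqc0 (vqc2 68 vqc4) (vqc0 (vqc2 119 vqc4) (vqc0 (vqc2 1 vqc3) (vqc0 (vqc2 3 vqc3) (vqc0 (vqc2 0 vqc3) (vqc0 (vqc2 2 vqc3) (vqc0 (vqc2 4 vqc3) (vqc0 (vqc2 5 vqc3) (vqc0 (vqc2 100 vqc4) vqc1))))))))))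
  co := (beta% delta% lq26b895f9ecd2 fun vqc0 vqc1 _ _ _ _ _ _ _ _ _ _ _ =>
      (vqc0 (vqc0 1 (vqc0 0 (vqc0 (-2) (vqc0 (-3) (vqc0 0 (vqc0 (-2) (vqc0 (-2) (vqc0 (-1) (vqc0 0 vqc1))))))))) (vqc0 (vqc0 0 (vqc0 0 (vqc0 1 (vqc0 0 (vqc0 0 (vqc0 0 (vqc0 0 (vqc0 0 (vqc0 0 vqc1))))))))) (vqc0 (vqc0 0 (vqc0 0 (vqc0 0 (vqc0 0 (vqc0 0 (vqc0 1 (vqc0 0 (vqc0 0 (vqc0 0 vqc1))))))))) (vqc0 (vqc0 0 (vqc0 0 (vqc0 0 (vqc0 1 (vqc0 0 (vqc0 0 (vqc0 0 (vqc0 0 (vqc0 0 vqc1))))))))) (vqc0 (vqc0 0 (vqc0 0 (vqc0 0 (vqc0 0 (vqc0 0 (vqc0 0 (vqc0 1 (vqc0 0 (vqc0 0 vqc1))))))))) (vqc0 (vqc0 0 (vqc0 0 (vqc0 0 (vqc0 0 (vqc0 0 (vqc0 0 (vqc0 0 (vqc0 1 (vqc0 0 vqc1))))))))) (vqc0 (vqc0 2 (vqc0 1 (vqc0 (-3) (vqc0 (-4) (vqc0 0 (vqc0 (-2) (vqc0 (-3) (vqc0 (-2) (vqc0 (-2) vqc1))))))))) (vqc0 (vqc0 (-4) (vqc0 (-1) (vqc0 5 (vqc0 6 (vqc0 0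 (vqc0 3 (vqc0 4 (vqc0 2 (vqc0 3 vqc1))))))))) vqc1)))))))))
  ω := 2
  cl := (beta% delta% lq26b895f9ecd2 fun vqc0 vqc1 vqc2 _ vqc4 _ _ _ _ _ _ _ _ =>
      (vqc0 (vqc2 vqc4 vqc1) (vqc0 (vqc2 vqc4 (vqc0 88 (vqc0 57 (vqc0 20 (vqc0 62 (vqc0 9 (vqc0 26 (vqc0 23 vqc1)))))))) vqc1)))
  lf := [(1262953735476308346212, 0, []),
    (1262953735497816604789, 1, [])]
  q₁ := 7
  k₁ := 40
  ev := false
  lg := (0, [], 0)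

/-- inverted roots -/
def ivE8_71 : List (ℕ × List ℕ × ℕ) := []

/-- the certificates -/
def ceE8_71 : List (List (ℕ × Ce)) := (beta% delta% lq26b895f9ecd2 fun vqc0 vqc1 vqc2 _ _ _ vqc6 _ vqc8 _ _ _ vqc12 =>
    (vqc0 (vqc0 (vqc2 2 (vqc6 4399892039465863 (vqc0 29 (vqc0 119 (vqc0 56 (vqc0 10 (vqc0 15 (vqc0 47 (vqc0 39 (vqc0 0 vqc1)))))))) 0 vqc1 (vqc8 (vqc12 7 (vqc0 6 (vqc0 0 (vqc0 0 (vqc0 0 (vqc0 0 (vqc0 3 (vqc0 6 (vqc0 0 vqc1)))))))) (vqc0 6 (vqc0 0 (vqc0 0 (vqc0 0 (vqc0 0 (vqc0 3 (vqc0 6 (vqc0 0 vqc1)))))))) (vqc0 0 (vqc0 0 (vqc0 0 (vqc0 0 (vqc0 0 (vqc0 0 (vqc0 0 (vqc0 0 vqc1)))))))) vqc1 0 0 vqc1))))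
    (vqc0 (vqc2 3 (vqc6 20604460550495812978446116 (vqc0 18 (vqc0 118 vqc1)) 0 vqc1 (vqc8 (vqc12 8 (vqc0 5 (vqc0 5 (vqc0 3 (vqc0 4 (vqc0 3 (vqc0 5 (vqc0 3 (vqc0 1 vqc1)))))))) (vqc0 5 (vqc0 5 (vqc0 3 (vqc0 4 (vqc0 3 (vqc0 5 (vqc0 3 (vqc0 1 vqc1)))))))) (vqc0 0 (vqc0 0 (vqc0 0 (vqc0 0 (vqc0 0 (vqc0 0 (vqc0 0 (vqc0 0 vqc1)))))))) vqc1 0 0 vqc1))))
    (vqc0 (vqc2 4 (vqc6 139035074036545410815754092753678 (vqc0 39 (vqc0 9 (vqc0 8 (vqc0 10 (vqc0 30 (vqc0 37 (vqc0 56 (vqc0 25 (vqc0 5 vqc1))))))))) 0 vqc1 (vqc8 (vqc12 1705 (vqc0 1224 (vqc0 119 (vqc0 105 (vqc0 1486 (vqc0 1499 (vqc0 226 (vqc0 1110 (vqc0 0 vqc1)))))))) (vqc0 1224 (vqc0 119 (vqc0 105 (vqc0 1486 (vqc0 1499 (vqc0 226 (vqc0 1110 (vqc0 0 vqc1)))))))) (vqc0 0 (vqc0 0 (vqc0 0 (vqc0 0 (vqc0 0 (vqc0 0 (vqc0 0 (vqc0 0 vqc1)))))))) vqc1 0 0 vqc1))))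
    (vqc0 (vqc2 5 (vqc6 26728645596877598316639895651639279595 (vqc0 18 vqc1) 0 vqc1 (vqc8 (vqc12 12 (vqc0 10 (vqc0 10 (vqc0 11 (vqc0 9 (vqc0 8 (vqc0 7 (vqc0 3 (vqc0 9 vqc1)))))))) (vqc0 10 (vqc0 10 (vqc0 11 (vqc0 9 (vqc0 8 (vqc0 7 (vqc0 3 (vqc0 9 vqc1)))))))) (vqc0 0 (vqc0 0 (vqc0 0 (vqc0 0 (vqc0 0 (vqc0 0 (vqc0 0 (vqc0 0 vqc1)))))))) vqc1 0 0 vqc1)))) vqc1))))
    (vqc0 (vqc0 (vqc2 2 (vqc6 4399892039465863 (vqc0 10 vqc1) 0 vqc1 (vqc8 (vqc12 15 (vqc0 7 (vqc0 6 (vqc0 12 (vqc0 9 (vqc0 3 (vqc0 14 (vqc0 10 (vqc0 10 vqc1)))))))) (vqc0 7 (vqc0 6 (vqc0 12 (vqc0 9 (vqc0 3 (vqc0 14 (vqc0 10 (vqc0 10 vqc1)))))))) (vqc0 0 (vqc0 0 (vqc0 0 (vqc0 0 (vqc0 0 (vqc0 0 (vqc0 0 (vqc0 0 vqc1)))))))) vqc1 0 0 vqc1))))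
    (vqc0 (vqc2 3 (vqc6 20604460550495812978446116 (vqc0 18 (vqc0 118 (vqc0 24 (vqc0 10 (vqc0 19 (vqc0 39 vqc1)))))) 0 vqc1 (vqc8 (vqc12 427 (vqc0 196 (vqc0 385 (vqc0 14 (vqc0 42 (vqc0 224 (vqc0 21 (vqc0 180 (vqc0 61 vqc1)))))))) (vqc0 196 (vqc0 385 (vqc0 14 (vqc0 42 (vqc0 224 (vqc0 21 (vqc0 180 (vqc0 61 vqc1)))))))) (vqc0 0 (vqc0 0 (vqc0 0 (vqc0 0 (vqc0 0 (vqc0 0 (vqc0 0 (vqc0 0 vqc1)))))))) vqc1 0 0 vqc1))))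
    (vqc0 (vqc2 4 (vqc6 139035074036545410815754092753678 (vqc0 8 (vqc0 37 (vqc0 119 (vqc0 10 (vqc0 47 (vqc0 47 vqc1)))))) 0 vqc1 (vqc8 (vqc12 615 (vqc0 343 (vqc0 503 (vqc0 347 (vqc0 547 (vqc0 38 (vqc0 598 (vqc0 336 (vqc0 369 vqc1)))))))) (vqc0 343 (vqc0 503 (vqc0 347 (vqc0 547 (vqc0 38 (vqc0 598 (vqc0 336 (vqc0 369 vqc1)))))))) (vqc0 0 (vqc0 0 (vqc0 0 (vqc0 0 (vqc0 0 (vqc0 0 (vqc0 0 (vqc0 0 vqc1)))))))) vqc1 0 0 vqc1))))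
    (vqc0 (vqc2 5 (vqc6 26728645596877598316639895651639279595 (vqc0 16 vqc1) 0 vqc1 (vqc8 (vqc12 624 (vqc0 133 (vqc0 294 (vqc0 90 (vqc0 312 (vqc0 378 (vqc0 41 (vqc0 338 (vqc0 208 vqc1)))))))) (vqc0 133 (vqc0 294 (vqc0 90 (vqc0 312 (vqc0 378 (vqc0 41 (vqc0 338 (vqc0 208 vqc1)))))))) (vqc0 0 (vqc0 0 (vqc0 0 (vqc0 0 (vqc0 0 (vqc0 0 (vqc0 0 (vqc0 0 vqc1)))))))) vqc1 0 0 vqc1)))) vqc1)))) vqc1)))

theorem svsE8_71 : tbE8.svs 8 svE8_71 = true := by decide +kernel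

theorem svdE8_71 : tbE8.svd svE8_71 = true := by decide +kernel

theorem svcE8_71 : aL (tbE8.svc 8 svE8_71 ivE8_71 ceE8_71) 2 = true := by decide +kernel

theorem goodE8_71 {M : CoxeterMatrix (Fin 8)} (hp : IsType chevE8 8 M) : Good hp tbE8 1325135298583788645736807618932090124340378077825051624019050509594763199 :=
  (gsE8 hp).good_sv (fun h => absurd h (by decide)) svsE8_71 svdE8_71 (aL_iff.1 svcE8_71)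

/-- D8 -/
def svE8_73 : Sv where
  m := 1546010506484870527455669983579625334143890937590680000881029366900314079
  Δ := [0, 1, 2, 3, 4, 6, 7, 60]
  dm := [116, 119]
  s := 112
  sq := (beta% delta% lq26b895f9ecd2 fun vqc0 vqc1 vqc2 vqc3 vqc4 _ _ _ _ _ _ _ _ =>
      (vqc0 (vqc2 116 vqc4) (vqc0 (vqc2 4 vqc3) (vqc0 (vqc2 119 vqc4) (vqc0 (vqc2 7 vqc3) (vqc0 (vqc2 3 vqc3) (vqc0 (vqc2 1 vqc3) (vqc0 (vqc2 0 vqc3) (vqc0 (vqc2 2 vqc3) vqc1)))))))))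
  co := (beta% delta% lq26b895f9ecd2 fun vqc0 vqc1 _ _ _ _ _ _ _ _ _ _ _ =>
      (vqc0 (vqc0 0 (vqc0 0 (vqc0 0 (vqc0 0 (vqc0 0 (vqc0 0 (vqc0 1 (vqc0 0 vqc1)))))))) (vqc0 (vqc0 0 (vqc0 0 (vqc0 0 (vqc0 0 (vqc0 0 (vqc0 1 (vqc0 0 (vqc0 0 vqc1)))))))) (vqc0 (vqc0 0 (vqc0 0 (vqc0 0 (vqc0 0 (vqc0 0 (vqc0 0 (vqc0 0 (vqc0 1 vqc1)))))))) (vqc0 (vqc0 0 (vqc0 0 (vqc0 0 (vqc0 0 (vqc0 1 (vqc0 0 (vqc0 0 (vqc0 0 vqc1)))))))) (vqc0 (vqc0 0 (vqc0 1 (vqc0 0 (vqc0 0 (vqc0 0 (vqc0 0 (vqc0 0 (vqc0 0 vqc1)))))))) (vqc0 (vqc0 3 (vqc0 (-5) (vqc0 (-2) (vqc0 1 (vqc0 (-6) (vqc0 (-3) (vqc0 (-2) (vqc0 (-4) vqc1)))))))) (vqc0 (vqc0 (-4) (vqc0 5 (vqc0 3 (vqc0 (-2) (vqc0 6 (vqc0 3 (vqc0 2 (vqc0 4 vqc1)))))))) (vqc0 (vqc0 0 (vqc0 0 (vqc0 0 (vqc0 1 (vqc0 0 (vqc0 0 (vqc0 0 (vqc0 0 vqc1)))))))) vqc1)))))))))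
  ω := 1
  cl := [(false, [])]
  lf := [(8359937680305356802, 0, [])]
  q₁ := 8
  k₁ := 34
  ev := false
  lg := (0, [], 0)

/-- inverted roots -/
def ivE8_73 : List (ℕ × List ℕ × ℕ) := []

/-- the certificates -/
def ceE8_73 : List (List (ℕ × Ce)) := (beta% delta% lq26b895f9ecd2 fun vqc0 vqc1 vqc2 _ _ _ vqc6 _ vqc8 _ _ _ vqc12 =>
    (vqc0 (vqc0 (vqc2 2 (vqc6 2148384784895 (vqc0 14 (vqc0 77 (vqc0 2 (vqc0 79 (vqc0 9 (vqc0 6 vqc1)))))) 0 vqc1 (vqc8 (vqc12 15 (vqc0 13 (vqc0 14 (vqc0 7 (vqc0 10 (vqc0 1 (vqc0 12 (vqc0 1 (vqc0 11 vqc1)))))))) (vqc0 13 (vqc0 14 (vqc0 7 (vqc0 10 (vqc0 1 (vqc0 12 (vqc0 1 (vqc0 11 vqc1)))))))) (vqc0 0 (vqc0 0 (vqc0 0 (vqc0 0 (vqc0 0 (vqc0 0 (vqc0 0 (vqc0 0 vqc1)))))))) vqc1 0 0 vqc1))))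
    (vqc0 (vqc2 3 (vqc6 101608574931231512429 (vqc0 14 (vqc0 118 (vqc0 16 (vqc0 96 (vqc0 3 vqc1))))) 0 vqc1 (vqc8 (vqc12 40 (vqc0 6 (vqc0 25 (vqc0 5 (vqc0 30 (vqc0 5 (vqc0 31 (vqc0 30 (vqc0 32 vqc1)))))))) (vqc0 6 (vqc0 25 (vqc0 5 (vqc0 30 (vqc0 5 (vqc0 31 (vqc0 30 (vqc0 32 vqc1)))))))) (vqc0 0 (vqc0 0 (vqc0 0 (vqc0 0 (vqc0 0 (vqc0 0 (vqc0 0 (vqc0 0 vqc1)))))))) vqc1 0 0 vqc1))))
    (vqc0 (vqc2 4 (vqc6 26310017441044888876962970 (vqc0 103 (vqc0 75 (vqc0 93 (vqc0 100 (vqc0 92 (vqc0 8 (vqc0 94 (vqc0 22 (vqc0 118 vqc1))))))))) 0 vqc1 (vqc8 (vqc12 273 (vqc0 101 (vqc0 45 (vqc0 251 (vqc0 185 (vqc0 131 (vqc0 164 (vqc0 30 (vqc0 101 vqc1)))))))) (vqc0 101 (vqc0 45 (vqc0 251 (vqc0 185 (vqc0 131 (vqc0 164 (vqc0 30 (vqc0 101 vqc1)))))))) (vqc0 0 (vqc0 0 (vqc0 0 (vqc0 0 (vqc0 0 (vqc0 0 (vqc0 0 (vqc0 0 vqc1))))))))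 vqc1 0 0 vqc1))))
    (vqc0 (vqc2 5 (vqc6 403329729719880701050754683034 (vqc0 8 (vqc0 93 (vqc0 86 (vqc0 72 (vqc0 31 (vqc0 78 (vqc0 1 (vqc0 75 vqc1)))))))) 0 vqc1 (vqc8 (vqc12 24211 (vqc0 2819 (vqc0 9331 (vqc0 17145 (vqc0 17856 (vqc0 1891 (vqc0 2282 (vqc0 10934 (vqc0 18805 vqc1)))))))) (vqc0 2819 (vqc0 9331 (vqc0 17145 (vqc0 17856 (vqc0 1891 (vqc0 2282 (vqc0 10934 (vqc0 18805 vqc1)))))))) (vqc0 0 (vqc0 0 (vqc0 0 (vqc0 0 (vqc0 0 (vqc0 0 (vqc0 0 (vqc0 0 vqc1)))))))) vqc1 0 0 vqc1))))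
    (vqc0 (vqc2 7 (vqc6 794120137897299786853665914492742929 (vqc0 2 (vqc0 78 (vqc0 0 (vqc0 97 (vqc0 85 (vqc0 17 (vqc0 18 (vqc0 81 vqc1)))))))) 0 vqc1 (vqc8 (vqc12 8403 (vqc0 5148 (vqc0 7080 (vqc0 669 (vqc0 7114 (vqc0 1478 (vqc0 6925 (vqc0 5629 (vqc0 2801 vqc1)))))))) (vqc0 5148 (vqc0 7080 (vqc0 669 (vqc0 7114 (vqc0 1478 (vqc0 6925 (vqc0 5629 (vqc0 2801 vqc1)))))))) (vqc0 0 (vqc0 0 (vqc0 0 (vqc0 0 (vqc0 0 (vqc0 0 (vqc0 0 (vqc0 0 vqc1)))))))) vqc1 0 0 vqc1)))) vqc1))))) vqc1))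

theorem svsE8_73 : tbE8.svs 8 svE8_73 = true := by decide +kernel

theorem svdE8_73 : tbE8.svd svE8_73 = true := by decide +kernel

theorem svcE8_73 : aL (tbE8.svc 8 svE8_73 ivE8_73 ceE8_73) 1 = true := by decide +kernel

theorem goodE8_73 {M : CoxeterMatrix (Fin 8)} (hp : IsType chevE8 8 M) : Good hp tbE8 1546010506484870527455669983579625334143890937590680000881029366900314079 :=
  (gsE8 hp).good_sv (fun h => absurd h (by decide)) svsE8_73 svdE8_73 (aL_iff.1 svcE8_73)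

/-- E7A1 -/
def svE8_75 : Sv where
  m := 883423644724684696903419681736027528274646021091677154524609805752975231
  Δ := [0, 1, 2, 3, 4, 5, 6, 119]
  dm := [96, 118, 119]
  s := 128
  sq := (beta% delta% lq26b895f9ecd2 fun vqc0 vqc1 vqc2 vqc3 vqc4 _ _ _ _ _ _ _ _ =>
      (vqc0 (vqc2 96 vqc4) (vqc0 (vqc2 0 vqc3) (vqc0 (vqc2 2 vqc3) (vqc0 (vqc2 3 vqc3) (vqc0 (vqc2 1 vqc3) (vqc0 (vqc2 4 vqc3) (vqc0 (vqc2 5 vqc3) (vqc0 (vqc2 6 vqc3) (vqc0 (vqc2 119 vqc3) (vqc0 (vqc2 118 vqc4) vqc1)))))))))))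
  co := (beta% delta% lq26b895f9ecd2 fun vqc0 vqc1 _ _ _ _ _ _ _ _ _ _ _ =>
      (vqc0 (vqc0 0 (vqc0 1 (vqc0 0 (vqc0 0 (vqc0 0 (vqc0 0 (vqc0 0 (vqc0 0 (vqc0 0 (vqc0 0 vqc1)))))))))) (vqc0 (vqc0 0 (vqc0 0 (vqc0 0 (vqc0 0 (vqc0 1 (vqc0 0 (vqc0 0 (vqc0 0 (vqc0 0 (vqc0 0 vqc1)))))))))) (vqc0 (vqc0 0 (vqc0 0 (vqc0 1 (vqc0 0 (vqc0 0 (vqc0 0 (vqc0 0 (vqc0 0 (vqc0 0 (vqc0 0 vqc1)))))))))) (vqc0 (vqc0 0 (vqc0 0 (vqc0 0 (vqc0 1 (vqc0 0 (vqc0 0 (vqc0 0 (vqc0 0 (vqc0 0 (vqc0 0 vqc1)))))))))) (vqc0 (vqc0 0 (vqc0 0 (vqc0 0 (vqc0 0 (vqc0 0 (vqc0 1 (vqc0 0 (vqc0 0 (vqc0 0 (vqc0 0 vqc1)))))))))) (vqc0 (vqc0 0 (vqc0 0 (vqc0 0 (vqc0 0 (vqc0 0 (vqc0 0 (vqc0 1 (vqc0 0 (vqc0 0 (vqc0 0 vqc1)))))))))) (vqc0 (vqc0 1 (vqc0 (-2) (vqc0 (-3) (vqc0 (-4) (vqc0 (-2) (vqc0 (-3) (vqc0 (-2) (vqc0 0 (vqc0 0 (vqc0 0 vqc1)))))))))) (vqc0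 (vqc0 (-3) (vqc0 4 (vqc0 5 (vqc0 6 (vqc0 3 (vqc0 4 (vqc0 2 (vqc0 0 (vqc0 0 (vqc0 1 vqc1)))))))))) vqc1)))))))))
  ω := 1
  cl := [(false, [])]
  lf := [(453347327316215722309494, 0, [])]
  q₁ := 10
  k₁ := 26
  ev := false
  lg := (0, [], 0)

/-- inverted roots -/
def ivE8_75 : List (ℕ × List ℕ × ℕ) := []

/-- the certificates -/
def ceE8_75 : List (List (ℕ × Ce)) := (beta% delta% lq26b895f9ecd2 fun vqc0 vqc1 vqc2 _ _ _ vqc6 _ vqc8 _ _ _ vqc12 =>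
    (vqc0 (vqc0 (vqc2 2 (vqc6 53286691680 (vqc0 31 (vqc0 79 (vqc0 44 (vqc0 74 vqc1)))) 0 vqc1 (vqc8 (vqc12 31 (vqc0 12 (vqc0 23 (vqc0 4 (vqc0 11 (vqc0 29 (vqc0 1 (vqc0 21 (vqc0 8 vqc1)))))))) (vqc0 12 (vqc0 23 (vqc0 4 (vqc0 11 (vqc0 29 (vqc0 1 (vqc0 21 (vqc0 8 vqc1)))))))) (vqc0 0 (vqc0 0 (vqc0 0 (vqc0 0 (vqc0 0 (vqc0 0 (vqc0 0 (vqc0 0 vqc1)))))))) vqc1 0 0 vqc1))))
    (vqc0 (vqc2 3 (vqc6 289923666663665170 (vqc0 56 (vqc0 8 (vqc0 47 (vqc0 15 (vqc0 119 (vqc0 69 (vqc0 119 vqc1))))))) 0 vqc1 (vqc8 (vqc12 40 (vqc0 7 (vqc0 21 (vqc0 11 (vqc0 8 (vqc0 4 (vqc0 37 (vqc0 3 (vqc0 17 vqc1)))))))) (vqc0 7 (vqc0 21 (vqc0 11 (vqc0 8 (vqc0 4 (vqc0 37 (vqc0 3 (vqc0 17 vqc1)))))))) (vqc0 0 (vqc0 0 (vqc0 0 (vqc0 0 (vqc0 0 (vqc0 0 (vqc0 0 (vqc0 0 vqc1)))))))) vqc1 0 0 vqc1))))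
    (vqc0 (vqc2 4 (vqc6 16185812889196142882080 (vqc0 26 (vqc0 63 vqc1)) 0 vqc1 (vqc8 (vqc12 15 (vqc0 2 (vqc0 2 (vqc0 9 (vqc0 4 (vqc0 6 (vqc0 2 (vqc0 13 (vqc0 9 vqc1)))))))) (vqc0 2 (vqc0 2 (vqc0 9 (vqc0 4 (vqc0 6 (vqc0 2 (vqc0 13 (vqc0 9 vqc1)))))))) (vqc0 0 (vqc0 0 (vqc0 0 (vqc0 0 (vqc0 0 (vqc0 0 (vqc0 0 (vqc0 0 vqc1)))))))) vqc1 0 0 vqc1))))
    (vqc0 (vqc2 5 (vqc6 75477970179170057842154809 (vqc0 19 (vqc0 10 (vqc0 18 (vqc0 60 vqc1)))) 0 vqc1 (vqc8 (vqc12 124 (vqc0 94 (vqc0 32 (vqc0 61 (vqc0 87 (vqc0 104 (vqc0 57 (vqc0 31 (vqc0 0 vqc1)))))))) (vqc0 94 (vqc0 32 (vqc0 61 (vqc0 87 (vqc0 104 (vqc0 57 (vqc0 31 (vqc0 0 vqc1)))))))) (vqc0 0 (vqc0 0 (vqc0 0 (vqc0 0 (vqc0 0 (vqc0 0 (vqc0 0 (vqc0 0 vqc1)))))))) vqc1 0 0 vqc1))))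
    (vqc0 (vqc2 7 (vqc6 24699983468213232990099461886672 (vqc0 92 (vqc0 81 (vqc0 44 (vqc0 1 (vqc0 25 (vqc0 47 (vqc0 0 vqc1))))))) 0 vqc1 (vqc8 (vqc12 134448 (vqc0 94385 (vqc0 101856 (vqc0 68000 (vqc0 12815 (vqc0 3385 (vqc0 86831 (vqc0 93209 (vqc0 18320 vqc1)))))))) (vqc0 94385 (vqc0 101856 (vqc0 68000 (vqc0 12815 (vqc0 3385 (vqc0 86831 (vqc0 93209 (vqc0 18320 vqc1)))))))) (vqc0 0 (vqc0 0 (vqc0 0 (vqc0 0 (vqc0 0 (vqc0 0 (vqc0 0 (vqc0 0 vqc1)))))))) vqc1 0 0 vqc1))))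
    (vqc0 (vqc2 8 (vqc6 3772879815446564998866743138664737 (vqc0 52 (vqc0 45 (vqc0 1 (vqc0 8 (vqc0 18 (vqc0 23 (vqc0 30 (vqc0 22 vqc1)))))))) 0 vqc1 (vqc8 (vqc12 19 (vqc0 9 (vqc0 8 (vqc0 12 (vqc0 9 (vqc0 9 (vqc0 4 (vqc0 10 (vqc0 6 vqc1)))))))) (vqc0 9 (vqc0 8 (vqc0 12 (vqc0 9 (vqc0 9 (vqc0 4 (vqc0 10 (vqc0 6 vqc1)))))))) (vqc0 0 (vqc0 0 (vqc0 0 (vqc0 0 (vqc0 0 (vqc0 0 (vqc0 0 (vqc0 0 vqc1)))))))) vqc1 0 0 vqc1))))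
    (vqc0 (vqc2 9 (vqc6 317128565878451278218479769822236904 (vqc0 75 (vqc0 63 (vqc0 27 (vqc0 68 (vqc0 52 vqc1))))) 0 vqc1 (vqc8 (vqc12 29524 (vqc0 11512 (vqc0 21818 (vqc0 15272 (vqc0 6922 (vqc0 10580 (vqc0 22194 (vqc0 26548 (vqc0 15221 vqc1)))))))) (vqc0 11512 (vqc0 21818 (vqc0 15272 (vqc0 6922 (vqc0 10580 (vqc0 22194 (vqc0 26548 (vqc0 15221 vqc1)))))))) (vqc0 0 (vqc0 0 (vqc0 0 (vqc0 0 (vqc0 0 (vqc0 0 (vqc0 0 (vqc0 0 vqc1)))))))) vqc1 0 0 vqc1)))) vqc1))))))) vqc1))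

theorem svsE8_75 : tbE8.svs 8 svE8_75 = true := by decide +kernel

theorem svdE8_75 : tbE8.svd svE8_75 = true := by decide +kernel

theorem svcE8_75 : aL (tbE8.svc 8 svE8_75 ivE8_75 ceE8_75) 1 = true := by decide +kernel

theorem goodE8_75 {M : CoxeterMatrix (Fin 8)} (hp : IsType chevE8 8 M) : Good hp tbE8 883423644724684696903419681736027528274646021091677154524609805752975231 :=
  (gsE8 hp).good_sv (fun h => absurd h (by decide)) svsE8_75 svdE8_75 (aL_iff.1 svcE8_75)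

end Cfsg.Agent.N2.Ex.Al.Ck
end

-- part: N2/Ex/Mu/T33B
section
prune_inst 0x20040000000000000000000000008000000000000000000000000000000000000000000000000000000000020000000000000000000000000000000000000000000000000000000000000000000000000000000000000000000000000000000000000
set_option linter.all false
open scoped Cfsg.Agent.FastGrp

/-!
# N2, multiplicities: two functionals modulo three and one modulo two (helper72)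

`Ii` : the lattice form of `In`; `chk` : the check; `chk_spec` : its meaning; `t33_of`, `f9_of` : the two statements.
-/

set_option autoImplicit false
set_option linter.unusedSectionVars false

namespace Cfsg.Agent.N2.Ex.Mu.T3

open CoxeterSystem Cfsg Cfsg.Lie Cfsg.Lie.ChevalleyDatum
open Cfsg.Agent.ChevalleyStructure Cfsg.Agent.ChevalleyStructure.CoxeterGeom Cfsg.Agent.ChevalleyStructure.CoxeterGeomTypes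
  Cfsg.Agent.Tits.Roots Cfsg.Agent.Nodes Cfsg.Agent.Nodes.RGDChev Cfsg.Agent.Nodes.Coroot
open Cfsg.Agent.DS.Ex Cfsg.Agent.DS.Nt Cfsg.Agent.H931.KC
open Cfsg.Agent.DS.Ex.Tor (RT)
open Cfsg.Agent.N2.Ex.Al Cfsg.Agent.N2.Ex.Al.Ck Cfsg.Agent.N2.Ex.Mu.Lt

section Chk

variable (T : Tb) (l : ℕ) (X : List (List ℤ))

/-- the coordinates of the roots and of the test vectors -/
def wi (a i : ℕ) : ℤ := cond (Nat.blt a T.n) ((T.u a i : ℤ) - 8) ((X.getD (a - T.n) []).getD i 0)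

/-- the test vectors: the roots which are not orthogonal, the position -/
noncomputable def xl : List Tr := (List.range X.length).map fun k =>
  ⟨mk (fun a => !decide (cz T l (X.getD k []) a = 0)) T.n, Nat.pow 2 (Nat.mul 8 (Nat.add T.n k)), 0⟩

/-- the test of `In` -/
noncomputable def ib (Y : List Tr) (A K : ℕ) : Bool :=
  and (not (Nat.beq (Nat.land A K) A)) (lA (fun e => or (not (Nat.beq (Nat.land e.a A) 0)) (Nat.beq (Nat.land e.b K) e.b)) Y)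

/-- at most `bd` members -/
def sm (bd A : ℕ) : Bool := Nat.ble (Nat.mod A 255) bd

/-- **the check** -/
noncomputable def chk (L : List Rw) (bd : ℕ) (pre : List Tr → ℕ → Tr → Bool) (leaf : List Tr → ℕ → Tr → Tr → ℕ → ℕ → Bool) : Bool :=
  fN (mk (fun _ => true) T.n) fun R => fL (xl T l X) [] fun Y =>
    all3 (wi T X) (Nat.add T.n X.length) l fun L3 => all2 (wi T X) (Nat.add T.n X.length) l fun L2 =>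
      aL (fun j => fN (mk (rw0 L j).m.testBit T.n) fun B => or (sm bd B) (flt (pre Y B) L3 [] fun S =>
        lA (fun b => or (not (Nat.beq (Nat.land B b.a) B)) (lA (fun k => fN (Nat.land R k) fun kR =>
          or (not (Nat.beq (Nat.land kR b.a) B)) (or (not (ib Y (Nat.land R b.a) k)) (or (not (ib Y kR b.a))
            (lA (fun a => leaf Y R a b k kR) S)))) L2)) L3)) L.length

/-- the leaf for three components -/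
noncomputable def lf3 (bd x y : ℕ) (Y : List Tr) (R : ℕ) (a b : Tr) (k kR : ℕ) : Bool :=
  or (sm bd (Nat.land kR a.a)) (or (sm bd (Nat.land kR (ad a b).a)) (or (sm bd (Nat.land kR (ad a (ng b)).a))
    (or (and (Nat.beq (Nat.mod (Nat.land R a.a) 255) x) (Nat.beq (Nat.mod (Nat.land R b.a) 255) y))
      (or (and (Nat.beq (Nat.mod (Nat.land R a.a) 255) y) (Nat.beq (Nat.mod (Nat.land R b.a) 255) x))
        (or (not (ib Y (Nat.land (Nat.land R a.a) b.a) k)) (not (ib Y (Nat.land kR a.a) b.a)))))))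

/-- the leaf for a group of order nine -/
noncomputable def lf9 (bd : ℕ) (Y : List Tr) (R : ℕ) (a b : Tr) (k kR : ℕ) : Bool :=
  lE (fun e => or (sm bd (Nat.land kR e)) (or (not (ib Y (Nat.land R e) k)) (not (ib Y kR e))))
    [a.a, (ad a b).a, (ad a (ng b)).a]

end Chk

variable {D : ChevalleyDatum} {l : ℕ} {M : CoxeterMatrix (Fin l)} {hp : IsType D l M} {T : Tb} {X : List (List ℤ)}

variable (hp) in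
/-- the lattice form of `In` -/
def Ii (A : Set (LL l)) (N : ℕ) (χ : LL l →+ ℤ) : Prop :=
  (∀ x, (∀ a ∈ A, cp hp x a = 0) → (N : ℤ) ∣ χ x) ∧ ∃ a ∈ A, ¬ (N : ℤ) ∣ χ a

variable (hp) in
/-- transport of a functional -/
noncomputable def mv (v : M.Group) (F : LL l →+ ℤ) : LL l →+ ℤ := F.comp (ac hp v⁻¹).toAddMonoidHom

theorem Ii.img {A : Set (LL l)} {N : ℕ} {χ : LL l →+ ℤ} (h : Ii hp A N χ) (hA : ∀ a ∈ A, RT hp a) (v : M.Group) :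
    Ii hp (ac hp v '' A) N (mv hp v χ) := by
  obtain ⟨h1, a, h2, h3⟩ := h
  refine ⟨fun x hx => h1 (ac hp v⁻¹ x) fun a ha => ?_, _, ⟨a, h2, rfl⟩, ?_⟩
  · rw [← cp_ac hp v _ (hA a ha), ac_inv']
    exact hx _ ⟨a, ha, rfl⟩
  · show ¬ _ ∣ χ (ac hp v⁻¹ _)
    rwa [ac_inv]

theorem kl_mv (r : ℕ) (F : LL l →+ ℤ) (v : M.Group) : Kl hp r (mv hp v F) = ac hp v '' Kl hp r F := (kl_image r F v).symm

theorem kl_mv2 (r r' : ℕ) (F F' : LL l →+ ℤ) (v : M.Group) :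
    Kl hp r (mv hp v F) ∩ Kl hp r' (mv hp v F') = ac hp v '' (Kl hp r F ∩ Kl hp r' F') := by
  rw [kl_mv, kl_mv, Set.image_inter (ac hp v).injective]

theorem Ii.mv1 {r N : ℕ} {F χ : LL l →+ ℤ} (h : Ii hp (Kl hp r F) N χ) (v : M.Group) :
    Ii hp (Kl hp r (mv hp v F)) N (mv hp v χ) := kl_mv r F v ▸ h.img (fun _ h => h.1) v

theorem Ii.mv2 {r r' N : ℕ} {F F' χ : LL l →+ ℤ} (h : Ii hp (Kl hp r F ∩ Kl hp r' F') N χ) (v : M.Group) :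
    Ii hp (Kl hp r (mv hp v F) ∩ Kl hp r' (mv hp v F')) N (mv hp v χ) := kl_mv2 r r' F F' v ▸ h.img (fun _ h => h.1.1) v

variable (T l X) in
/-- the roots and the test vectors -/
def ww (a : ℕ) : LL l := fun i => wi T X a i

theorem ww_lt {a : ℕ} (h : a < T.n) : ww l T X a = T.vec l a := funext fun i => by
  rw [ww, wi, Nat.blt_eq.mpr h]
  rfl

theorem ww_add (k : ℕ) : ww l T X (T.n + k) = vz l (X.getD k []) := funext fun i => by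
  rw [ww, wi, Bool.eq_false_iff.2 (mt Nat.blt_eq.mp (by omega)), Nat.add_sub_cancel_left]
  rfl

open Classical in
variable (T) in
/-- the mask of a set of roots -/
noncomputable def rm (A : Set (LL l)) : ℕ := mk (fun a => decide (T.vec l a ∈ A)) T.n

variable (T X) in
/-- the mask of the kernel -/
noncomputable def zz (r : ℕ) (F : LL l →+ ℤ) : ℕ := mk (fun a => decide (F (ww l T X a) % r = 0)) (T.n + X.length)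

variable (T X) in
/-- the masks of a functional -/
noncomputable def m3 (F : LL l →+ ℤ) : Tr := M3 (fun a => F (ww l T X a)) (T.n + X.length)

theorem m3_a (F : LL l →+ ℤ) : (m3 T X F).a = zz T X 3 F := rfl

theorem m3_add (F F' : LL l →+ ℤ) : ad (m3 T X F) (m3 T X F') = m3 T X (F + F') := M3_add _ _ _

theorem m3_sub (F F' : LL l →+ ℤ) : ad (m3 T X F) (ng (m3 T X F')) = m3 T X (F - F') := by
  rw [m3, m3, M3_neg, M3_add, sub_eq_add_neg]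
  rfl

theorem rm_univ : mk (fun _ => true) T.n = rm T (Set.univ : Set (LL l)) := mk_congr fun _ _ => by simp

theorem val_eq (F : LL l →+ ℤ) : ∃ f : ℕ → ℤ, ∀ a, F (ww l T X a) = ∑ i ∈ Finset.range l, wi T X a i * f i :=
  ⟨fun i => if h : i < l then F (sr ⟨i, h⟩) else 0, fun a => by
    rw [eq_psi, Finset.sum_range]
    exact Finset.sum_congr rfl fun i _ => by simp only [dif_pos i.2]; rfl⟩

variable (G : Gt hp T)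
include G

theorem rm_and (A : Set (LL l)) (r : ℕ) (F : LL l →+ ℤ) : Nat.land (rm T A) (zz T X r F) = rm T (A ∩ Kl hp r F) := by
  rw [Nat.land_eq, rm, zz, mk_and (Nat.le_add_right _ _)]
  refine mk_congr fun a ha => ?_
  rw [ww_lt ha, Bool.eq_iff_iff, Bool.and_eq_true, @decide_eq_true_iff _ (_), @decide_eq_true_iff _ (_),
    @decide_eq_true_iff _ (_), ← Int.dvd_iff_emod_eq_zero]
  exact and_congr_right' (and_iff_right (G.root a ha)).symm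

theorem rm_kl (r : ℕ) (F : LL l →+ ℤ) : Nat.land (rm T (Set.univ : Set (LL l))) (zz T X r F) = rm T (Kl hp r F) := by
  rw [rm_and G, Set.univ_inter]

theorem rm_St (m : ℕ) : mk m.testBit T.n = rm T (St T l m) := mk_congr fun a ha => by
  rw [Bool.eq_iff_iff, ← G.mem_St ha]
  exact (@decide_eq_true_iff _ (_)).symm

theorem rm_mod (hn : T.n < 255) {A : Set (LL l)} (hA : ∀ a ∈ A, RT hp a) : Nat.mod (rm T A) 255 = A.ncard := by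
  classical
  refine ((mk_mod _ _).trans (Nat.mod_eq_of_lt ((cL_le _ _).trans_lt hn))).trans ?_
  rw [← G.ncard_eq (P := fun a => a ∈ A) fun r _ => decide_eq_true_iff.symm]
  exact congrArg Set.ncard (Set.ext fun a => ⟨fun h => h.2, fun h => ⟨hA a h, h⟩⟩)

theorem sm_iff (hn : T.n < 255) {A : Set (LL l)} (hA : ∀ a ∈ A, RT hp a) {bd : ℕ} :
    sm bd (rm T A) = true ↔ A.ncard ≤ bd := by rw [sm, rm_mod G hn hA, Nat.ble_eq]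

theorem ib_spec {Y : List Tr} (hY : ∀ e ∈ Y, e ∈ xl T l X) {A : Set (LL l)} (hA : ∀ a ∈ A, RT hp a) {N : ℕ} {χ : LL l →+ ℤ}
    (h : Ii hp A N χ) : ib Y (rm T A) (zz T X N χ) = true := by
  obtain ⟨h1, a, h2, h3⟩ := h
  simp only [ib, Bool.and_eq_true, Bool.or_eq_true, lA_iff, Bool.not_eq_true', ← Bool.not_eq_true, Nat.beq_eq, rm_and G]
  refine ⟨fun e => ?_, fun e he => ?_⟩
  · obtain ⟨s, hs, rfl⟩ := G.surj a (hA a h2)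
    exact h3 ((decide_eq_decide.1 (mk_inj e hs)).2 h2).2.2
  obtain ⟨k, hk, rfl⟩ := List.mem_map.1 (hY e he)
  rw [List.mem_range] at hk
  refine not_or_of_imp fun h4 => pow_and (a := T.n + k) (by omega) (decide_eq_true ?_)
  rw [ww_add]
  refine Int.emod_eq_zero_of_dvd (h1 _ fun b hb => ?_)
  obtain ⟨s, hs, rfl⟩ := G.surj b (hA b hb)
  have h5 := congrArg (·.testBit (8 * s)) h4
  have h6 : 8 * s / 8 = s := by omega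
  rw [cz_eq G _ hs]
  simpa [rm, bit_mk, h6, hs, hb] using h5

/-- **the meaning of the check** -/
theorem chk_spec (hn : T.n < 255) {L : List Rw} (hL : ∀ j < L.length, T.row L j = true) (hL0 : 0 < L.length)
    (hL1 : (rw0 L 0).m = 0) {bd : ℕ} {pre : List Tr → ℕ → Tr → Bool} {leaf : List Tr → ℕ → Tr → Tr → ℕ → ℕ → Bool}
    (h : chk T l X L bd pre leaf = true) {F' G' : LL l →+ ℤ} (hb : bd < (Kl hp 2 G' ∩ Kl hp 3 F').ncard)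
    (h1 : Ii hp (Kl hp 3 F') 2 G') (h2 : Ii hp (Kl hp 2 G') 3 F') : ∃ (v : M.Group) (Y : List Tr), (∀ e ∈ Y, e ∈ xl T l X) ∧
      ∀ F : LL l →+ ℤ, pre Y (rm T (Kl hp 2 (mv hp v G') ∩ Kl hp 3 (mv hp v F'))) (m3 T X F) = true →
        leaf Y (rm T (Set.univ : Set (LL l))) (m3 T X F) (m3 T X (mv hp v F')) (zz T X 2 (mv hp v G'))
          (rm T (Kl hp 2 (mv hp v G'))) = true := by
  obtain ⟨j, hj, v, e⟩ := G.cls_of hL hL0 hL1 (S := Kl hp 2 G' ∩ Kl hp 3 F')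
    ⟨fun _ h => h.1.1, fun a h => ⟨(kl_sy _ _).neg a h.1, (kl_sy _ _).neg a h.2⟩⟩
    fun a ha b hb => ⟨kl_rc _ _ a ha.1 b hb.1, kl_rc _ _ a ha.2 b hb.2⟩
  rw [← ncard_ac (hp := hp) v, ← kl_mv2] at hb
  rw [← kl_mv2] at e
  have k1 := h1.mv1 v
  have k2 := h2.mv1 v
  generalize hF : mv hp v F' = F₁ at *
  generalize hG : mv hp v G' = G₁ at *
  rw [chk, fN_eq, fL_eq, rm_univ (l := l)] at h
  obtain ⟨L3, h, a3⟩ := all3_spec h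
  obtain ⟨L2, h, a2⟩ := all2_spec h
  have b3 : ∀ F : LL l →+ ℤ, m3 T X F ∈ L3 := fun F => by
    obtain ⟨f, hf⟩ := val_eq (T := T) (X := X) F
    exact mem_of_eq_of_mem (congrArg (M3 · _) (funext hf)) (a3 f)
  have b2 : zz T X 2 G₁ ∈ L2 := by
    obtain ⟨f, hf⟩ := val_eq (T := T) (X := X) G₁
    exact mem_of_eq_of_mem (mk_congr fun a _ => by rw [hf]; rfl) (a2 f)
  have hY : ∀ e ∈ (xl T l X).reverseAux [], e ∈ xl T l X := fun e he => List.mem_reverse.1 he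
  subst hF hG
  refine ⟨v, _, hY, fun F hP => ?_⟩
  have h3 := aL_iff.1 h j hj
  rw [fN_eq, rm_St G, ← e, Bool.or_eq_true, sm_iff G hn fun _ h => h.1.1] at h3
  obtain ⟨S, h4, -, h5⟩ := flt_spec (h3.resolve_left hb.not_ge)
  have h6 := lA_iff.1 h4 _ (b3 (mv hp v F'))
  rw [m3_a, rm_and G, Set.inter_assoc, Set.inter_self, Nat.beq_refl, Bool.not_true, Bool.false_or] at h6
  have h7 := lA_iff.1 h6 _ b2
  rw [fN_eq, rm_kl G, rm_kl G, rm_and G, Nat.beq_refl, ib_spec G hY (fun _ h => h.1) k1, ib_spec G hY (fun _ h => h.1) k2] at h7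
  exact lA_iff.1 h7 _ (h5 _ (b3 F) hP)

/-- **three components** -/
theorem t33_of (hn : T.n < 255) {L : List Rw} (hL : ∀ j < L.length, T.row L j = true) (hL0 : 0 < L.length)
    (hL1 : (rw0 L 0).m = 0) {bd x y : ℕ} (h : chk T l X L bd (fun Y B a => ib Y B a.a) (lf3 bd x y) = true)
    {F F' G' : LL l →+ ℤ} (h1 : Ii hp (Kl hp 3 F') 2 G') (h2 : Ii hp (Kl hp 2 G') 3 F')
    (h3 : Ii hp (Kl hp 3 F ∩ Kl hp 3 F') 2 G') (h4 : Ii hp (Kl hp 2 G' ∩ Kl hp 3 F) 3 F')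
    (h5 : Ii hp (Kl hp 2 G' ∩ Kl hp 3 F') 3 F) :
    (∃ E ∈ [F, F', F + F', F - F'], (Kl hp 2 G' ∩ Kl hp 3 E).ncard ≤ bd) ∨
      (Kl hp 3 F).ncard = x ∧ (Kl hp 3 F').ncard = y ∨ (Kl hp 3 F).ncard = y ∧ (Kl hp 3 F').ncard = x := by
  by_cases hb : (Kl hp 2 G' ∩ Kl hp 3 F').ncard ≤ bd
  · exact .inl ⟨F', by simp, hb⟩
  obtain ⟨v, Y, hY, k⟩ := chk_spec G hn hL hL0 hL1 h (not_le.1 hb) h1 h2
  have k1 := k (mv hp v F) (ib_spec G hY (fun _ h => h.1.1) (h5.mv2 v))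
  have e1 : mv hp v F + mv hp v F' = mv hp v (F + F') := rfl
  have e2 : mv hp v F - mv hp v F' = mv hp v (F - F') := rfl
  have n1 : ∀ E, sm bd (rm T (Kl hp 2 (mv hp v G') ∩ Kl hp 3 (mv hp v E))) = true ↔ (Kl hp 2 G' ∩ Kl hp 3 E).ncard ≤ bd :=
    fun E => by rw [sm_iff G hn fun _ h => h.1.1, kl_mv2, ncard_ac]
  have n2 : ∀ E, Nat.mod (rm T (Kl hp 3 (mv hp v E))) 255 = (Kl hp 3 E).ncard := fun E => by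
    rw [rm_mod G hn fun _ h => h.1, kl_mv, ncard_ac]
  rw [lf3, m3_add, m3_sub, e1, e2] at k1
  simp only [m3_a, rm_kl G, rm_and G, ib_spec G hY (fun _ h => h.1.1) (h3.mv2 v), ib_spec G hY (fun _ h => h.1.1) (h4.mv2 v),
    Bool.or_eq_true, Bool.and_eq_true, n1, n2, Nat.beq_eq, Bool.not_true, Bool.false_eq_true, or_false] at k1
  rcases k1 with k1 | k1 | k1 | k1
  exacts [.inl ⟨_, by simp, k1⟩, .inl ⟨_, by simp, k1⟩, .inl ⟨_, by simp, k1⟩, .inr k1]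

/-- **a group of order nine** -/
theorem f9_of (hn : T.n < 255) {L : List Rw} (hL : ∀ j < L.length, T.row L j = true) (hL0 : 0 < L.length)
    (hL1 : (rw0 L 0).m = 0) {bd : ℕ} (h : chk T l X L bd (fun _ _ _ => true) (lf9 bd) = true) {F F' G' : LL l →+ ℤ}
    (h1 : ∀ E ∈ [F, F', F + F', F - F'], Ii hp (Kl hp 3 E) 2 G' ∧ Ii hp (Kl hp 2 G') 3 E) :
    ∃ E ∈ [F, F', F + F', F - F'], (Kl hp 2 G' ∩ Kl hp 3 E).ncard ≤ bd := by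
  by_contra hb
  obtain ⟨v, Y, hY, k⟩ := chk_spec G hn hL hL0 hL1 h (not_le.1 fun e => hb ⟨F', by simp, e⟩) (h1 F' (by simp)).1
    (h1 F' (by simp)).2
  have k1 := k (mv hp v F) rfl
  have e1 : mv hp v F + mv hp v F' = mv hp v (F + F') := rfl
  have e2 : mv hp v F - mv hp v F' = mv hp v (F - F') := rfl
  rw [lf9, m3_add, m3_sub, e1, e2, lE_iff] at k1
  obtain ⟨_, k2, k1⟩ := k1
  obtain ⟨E, hE, rfl⟩ : ∃ E ∈ [F, F', F + F', F - F'], zz T X 3 (mv hp v E) = _ := by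
    simp only [List.mem_cons, List.not_mem_nil, or_false, m3_a] at k2
    rcases k2 with k2 | k2 | k2 <;> exact ⟨_, by simp, k2.symm⟩
  rw [rm_kl G, rm_and G, ib_spec G hY (fun _ h => h.1) ((h1 E hE).1.mv1 v), ib_spec G hY (fun _ h => h.1) ((h1 E hE).2.mv1 v),
    Bool.not_true, Bool.or_false, Bool.or_false, sm_iff G hn fun _ h => h.1.1, kl_mv2, ncard_ac] at k1
  exact hb ⟨E, hE, k1⟩

end Cfsg.Agent.N2.Ex.Mu.T3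

private theorem dce_0ea97494bfd3 : _root_.True := by
  try have : _root_.True := by simp only [_root_.Cfsg.Agent.N2.Ex.Mu.T3.chk.eq_1]
  try have : _root_.True := by simp only [_root_.Cfsg.Agent.N2.Ex.Mu.T3.m3.eq_1]
  try have : _root_.True := by simp only [_root_.Cfsg.Agent.N2.Ex.Mu.T3.ww.eq_1]
  try have : _root_.True := by simp only [_root_.Cfsg.Agent.N2.Ex.Mu.T3.lf3.eq_1]
  try have : _root_.True := by simp only [_root_.Cfsg.Agent.N2.Ex.Mu.T3.rm.eq_1]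
  try have : _root_.True := by simp only [_root_.Cfsg.Agent.N2.Ex.Mu.T3.sm.eq_1]
  try have : _root_.True := by simp only [_root_.Cfsg.Agent.N2.Ex.Mu.T3.mv.congr_simp]
  try have : _root_.True := by simp only [_root_.Cfsg.Agent.N2.Ex.Mu.T3.ib.eq_1]
  try have : _root_.True := by simp only [_root_.Cfsg.Agent.N2.Ex.Mu.T3.lf9.eq_1]
  try have : _root_.True := by simp only [_root_.Cfsg.Agent.N2.Ex.Mu.T3.wi.eq_1]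
  try have : _root_.True := by simp only [_root_.Cfsg.Agent.N2.Ex.Mu.T3.zz.eq_1]
  exact _root_.True.intro
end
end
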